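import Cfsg.Agent.Lib.UnipForm.PModel
import Cfsg.Agent.Lib.Classical.OmegaOnto
import Cfsg.Agent.Lib.Classical.OrthNondegMax

/-!
Jordan types of elements of order `p` stabilising non-degenerate subspaces.
-/

set_option autoImplicit false

namespace CfsgLib.UnipForm

open Module Matrix
open CfsgLib.NilClasses (Chains)

universe u v

variable {K : Type u} [Field K]

/-- An odd cardinality forces odd characteristic. -/
theorem odd_char {F : Type u} [Field F] [Fintype F] {p : ℕ} [Fact p.Prime] [CharP F p]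
    (hq : Odd (Fintype.card F)) : Odd p ∧ (2 : F) ≠ 0 := by
  have hp : p ≠ 2 := fun h => by
    subst h
    have := Nat.odd_iff.1 hq
    rw [FiniteField.even_card_of_char_two (ringChar.eq F 2)] at this
    omega
  refine ⟨(Fact.out : p.Prime).odd_of_ne_two hp, fun h => hp ?_⟩
  exact (Nat.prime_dvd_prime_iff_eq Fact.out Nat.prime_two).1
    ((CharP.cast_eq_zero_iff F p 2).1 (by exact_mod_cast h))

/-- Chain bases of two complementary invariant subspaces combine. -/
theorem exists_chains_compl {V : Type v} [AddCommGroup V] [Module K V] (f : V →ₗ[K] V)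
    {W W' : Submodule K V} (h : IsCompl W W') (hW : ∀ x ∈ W, f x ∈ W) (hW' : ∀ x ∈ W', f x ∈ W')
    {ι ι' : Type} {μ : ι → ℕ} {μ' : ι' → ℕ} (C : Chains (f.restrict hW) μ) (C' : Chains (f.restrict hW') μ') :
    Nonempty (Chains f (Sum.elim μ μ')) := by
  let b := ((C.b.prod C'.b).map (Submodule.prodEquivOfIsCompl W W' h)).reindex
    (Equiv.sumSigmaDistrib fun i => Fin (Sum.elim μ μ' i)).symm
  have hl : ∀ (i : ι) (j : Fin (μ i)), b ⟨.inl i, j⟩ = (C.b ⟨i, j⟩ : V) := fun i j => by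
    refine (Basis.reindex_apply _ _ _).trans ?_
    show Submodule.prodEquivOfIsCompl W W' h ((C.b.prod C'.b) (Sum.inl ⟨i, j⟩)) = _
    simp
  have hr : ∀ (i : ι') (j : Fin (μ' i)), b ⟨.inr i, j⟩ = (C'.b ⟨i, j⟩ : V) := fun i j => by
    refine (Basis.reindex_apply _ _ _).trans ?_
    show Submodule.prodEquivOfIsCompl W W' h ((C.b.prod C'.b) (Sum.inr ⟨i, j⟩)) = _
    simp
  refine ⟨⟨b, fun i j => ?_⟩⟩
  rcases i with i | i
  · refine (congrArg f (hl i j)).trans ?_
    have := congrArg Subtype.val (C.shift i j)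
    refine (show f (C.b ⟨i, j⟩ : V) = _ from this).trans ?_
    by_cases hj : (j : ℕ) + 1 < μ i
    · rw [dif_pos hj, dif_pos (show (j : ℕ) + 1 < Sum.elim μ μ' (.inl i) from hj)]
      exact (hl i ⟨(j : ℕ) + 1, hj⟩).symm
    · rw [dif_neg hj, dif_neg (show ¬(j : ℕ) + 1 < Sum.elim μ μ' (.inl i) from hj)]
      rfl
  · refine (congrArg f (hr i j)).trans ?_
    have := congrArg Subtype.val (C'.shift i j)
    refine (show f (C'.b ⟨i, j⟩ : V) = _ from this).trans ?_
    by_cases hj : (j : ℕ) + 1 < μ' i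
    · rw [dif_pos hj, dif_pos (show (j : ℕ) + 1 < Sum.elim μ μ' (.inr i) from hj)]
      exact (hr i ⟨(j : ℕ) + 1, hj⟩).symm
    · rw [dif_neg hj, dif_neg (show ¬(j : ℕ) + 1 < Sum.elim μ μ' (.inr i) from hj)]
      rfl

/-- Chain lengths are invariants. -/
theorem chains_unique' {V : Type v} [AddCommGroup V] [Module K V] {f : V →ₗ[K] V} {κ κ' : Type}
    [Fintype κ] [Fintype κ'] {μ : κ → ℕ} {μ' : κ' → ℕ} (hμ : ∀ i, 0 < μ i) (hμ' : ∀ i, 0 < μ' i)
    (C : Chains f μ) (C' : Chains f μ') : Finset.univ.val.map μ = Finset.univ.val.map μ' := by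
  refine NilClasses.multiset_eq_of_sums (fun x hx => ?_) (fun x hx => ?_) fun k => ?_
  · obtain ⟨i, -, rfl⟩ := Multiset.mem_map.1 hx
    exact hμ i
  · obtain ⟨i, -, rfl⟩ := Multiset.mem_map.1 hx
    exact hμ' i
  · rw [Multiset.map_map, Multiset.map_map]
    exact (C.finrank_range_pow k).symm.trans (C'.finrank_range_pow k)

theorem pow_eq_zero_of_le {V : Type v} [AddCommGroup V] [Module K V] {f : V →ₗ[K] V} {κ : Type}
    {μ : κ → ℕ} (C : Chains f μ) {k : ℕ} (h : ∀ i, μ i ≤ k) : f ^ k = 0 :=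
  C.b.ext fun q => by
    rw [C.pow_apply q.1 k q.2, dif_neg (by have := h q.1; omega)]
    rfl

variable [Finite K] {ι : Type} [Fintype ι] [DecidableEq ι] {Q : QuadraticForm K (ι → K)}

/-- The type on an invariant non-degenerate subspace is part of the type. -/
theorem exists_type_of_invariant (h2 : (2 : K) ≠ 0) (hB : Orth.Nondeg Q) (g : (ι → K) ≃ₗ[K] (ι → K))
    (hg : ∀ x y, QuadraticMap.polarBilin Q (g x) (g y) = QuadraticMap.polarBilin Q x y)
    {κ : Type} [Fintype κ] {μ : κ → ℕ} (hμ : ∀ i, 0 < μ i)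
    (C : Chains ((g : End K (ι → K)) - 1) μ) {W : Submodule K (ι → K)} (hW : Orth.NondegOn Q W)
    (hWg : ∀ x ∈ W, g x ∈ W) :
    ∃ ν : Multiset ℕ, ν ≤ Finset.univ.val.map μ ∧ ν.sum = finrank K W ∧
      (∀ e, Even e → Even (ν.count e)) ∧
      ((∀ e ∈ ν, e ≤ 2) → ∃ U, U ≤ W ∧ Cfsg.Geo.IsTotallySingularQuad ⇑Q U ∧
        finrank K U = (ν.map fun e => e - 1).sum) := by
  classical
  set N : End K (ι → K) := (g : End K (ι → K)) - 1 with hN
  set W' := Orth.orth Q W
  have hcompl : IsCompl W W' := ⟨Submodule.disjoint_def.2 fun x hx hx' => Orth.nondeg_inf hW hx hx',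
    codisjoint_iff.2 (Orth.sup_orth_eq_top hB hW)⟩
  let gr : W →ₗ[K] W := g.toLinearMap.restrict hWg
  have grinj : Function.Injective gr := fun a b h =>
    Subtype.ext (g.injective (congrArg Subtype.val h))
  let gW : W ≃ₗ[K] W := LinearEquiv.ofInjectiveEndo gr grinj
  have hWg' : ∀ x ∈ W', g x ∈ W' := fun x hx => Orth.mem_orth.2 fun w hw => by
    obtain ⟨w₀, hw₀⟩ := gW.surjective ⟨w, hw⟩
    have e : g (w₀ : ι → K) = w := congrArg Subtype.val hw₀
    rw [← e]
    exact (hg _ _).trans (Orth.mem_orth.1 hx _ w₀.2)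
  have hNW : ∀ x ∈ W, N x ∈ W := fun x hx => W.sub_mem (hWg x hx) hx
  have hNW' : ∀ x ∈ W', N x ∈ W' := fun x hx => W'.sub_mem (hWg' x hx) hx
  have hnil : IsNilpotent N := ⟨_, pow_eq_zero_of_le C (k := ∑ i, μ i) fun i =>
    Finset.single_le_sum (fun _ _ => Nat.zero_le _) (Finset.mem_univ i)⟩
  obtain ⟨κ₁, _, μ₁, hμ₁, ⟨C₁⟩⟩ := NilClasses.exists_chains _ (N.restrict hNW) rfl
    (End.isNilpotent.restrict hNW hnil)
  obtain ⟨κ₂, _, μ₂, hμ₂, ⟨C₂⟩⟩ := NilClasses.exists_chains _ (N.restrict hNW') rfl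
    (End.isNilpotent.restrict hNW' hnil)
  obtain ⟨C₁₂⟩ := exists_chains_compl N hcompl hNW hNW' C₁ C₂
  have hu : Finset.univ.val.map μ₁ + Finset.univ.val.map μ₂ = Finset.univ.val.map μ := by
    rw [← chains_unique' (fun i => by rcases i with i | i; exacts [hμ₁ i, hμ₂ i]) hμ C₁₂ C,
      ← Finset.univ_disjSum_univ, Finset.val_disjSum, Multiset.disjSum, Multiset.map_add,
      Multiset.map_map, Multiset.map_map]
    rfl
  refine ⟨Finset.univ.val.map μ₁, hu ▸ Multiset.le_add_right _ _, ?_, fun e he => ?_, fun hle => ?_⟩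
  · rw [finrank_eq_card_basis C₁.b, Fintype.card_sigma]
    simp only [Fintype.card_fin]
    rfl
  · by_cases he0 : e = 0
    · rw [Multiset.count_eq_zero.2 fun h => ?_]
      · exact Even.zero
      · obtain ⟨i, -, hi⟩ := Multiset.mem_map.1 h
        have := hμ₁ i
        omega
    have hNr : N.restrict hNW = (gW : End K W) - 1 := LinearMap.ext fun x => Subtype.ext rfl
    rw [hNr] at C₁
    let BW := LinearMap.BilinForm.restrict (QuadraticMap.polarBilin Q) W
    have hBW := form_of_bilin BW one_ne_zero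
      (fun x hx => Subtype.ext (hW x x.2 fun y hy => hx ⟨y, hy⟩))
      fun x y => by rw [one_mul]; exact QuadraticMap.polar_comm _ _ _
    have hw := isoW_compat hBW gW fun x y => hg _ _
    have hodd : ((-1 : K)) ^ (e - 1) = -1 := by
      obtain ⟨c, rfl⟩ := he
      exact (show Odd (c + c - 1) from ⟨c - 1, by omega⟩).neg_one_pow
    have := even_mult C₁ hμ₁ hBW hw e (by rw [one_mul, hodd]) fun k hk => by
      have hsw := gram_swap hBW hw C₁ hμ₁ ⟨e, hk ▸ lt_bd k⟩ ⟨k, hk⟩ ⟨k, hk⟩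
      simp only [gram, Matrix.of_apply, RingHom.id_apply, one_mul, hodd, neg_one_mul] at hsw
      rw [eq_neg_iff_add_eq_zero, ← two_mul] at hsw
      exact (mul_eq_zero.1 hsw).resolve_left h2
    rw [Multiset.count_map]
    convert this using 1
    simp only [eq_comm (a := e)]
    rfl
  · have hsq : ∀ x ∈ W, N (N x) = 0 := fun x hx => by
      have := pow_eq_zero_of_le C₁ (k := 2) fun i => hle _ (Multiset.mem_map_of_mem _ (Finset.mem_univ_val i))
      exact congrArg Subtype.val (LinearMap.congr_fun this ⟨x, hx⟩)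
    refine ⟨W.map N, Submodule.map_le_iff_le_comap.2 hNW, ?_, ?_⟩
    · rintro _ ⟨x, hx, rfl⟩
      have h0 : g (g x) = g x + g x - x := by
        have h := hsq x hx
        simp only [hN, LinearMap.sub_apply, LinearEquiv.coe_coe, End.one_apply, map_sub] at h
        rw [eq_sub_iff_add_eq, ← sub_eq_zero]
        rw [← h]; abel
      have h1 := hg (g x) x
      rw [h0] at h1
      have h3 := hg x x
      have h4 : QuadraticMap.polarBilin Q x (g x) = QuadraticMap.polarBilin Q (g x) x :=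
        QuadraticMap.polar_comm _ _ _
      have hp : QuadraticMap.polarBilin Q (N x) (N x) = 0 := by
        simp only [map_sub, map_add, LinearMap.sub_apply, LinearMap.add_apply] at h1
        simp only [hN, LinearMap.sub_apply, LinearEquiv.coe_coe, End.one_apply, map_sub]
        linear_combination h1 - h3 * 1
      rw [QuadraticMap.polarBilin_apply_apply, QuadraticMap.polar_self, nsmul_eq_mul, Nat.cast_ofNat] at hp
      exact (mul_eq_zero.1 hp).resolve_left h2
    · have h := C₁.finrank_range_pow 1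
      rw [pow_one] at h
      rw [Multiset.map_map]
      show _ = ∑ i, (μ₁ i - 1)
      rw [← h]
      refine Eq.trans ?_ (Submodule.equivMapOfInjective W.subtype W.injective_subtype _).finrank_eq.symm
      refine congrArg (fun S : Submodule K (ι → K) => finrank K S) ?_
      ext y
      constructor
      · rintro ⟨x, hx, rfl⟩
        exact ⟨N.restrict hNW ⟨x, hx⟩, ⟨_, rfl⟩, rfl⟩
      · rintro ⟨_, ⟨x, rfl⟩, rfl⟩
        exact ⟨x, x.2, rfl⟩

/-- Isometries of odd prime order lie in `Ω`. -/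
theorem mem_omega_of_pow (hB : Orth.Nondeg Q) (h2 : (2 : K) ≠ 0) (hn : 2 ≤ Fintype.card ι) {p : ℕ}
    (hp : Odd p) {g : Orth.Grp Q} (hg : g ^ p = 1) : g ∈ Cfsg.Omega K ⇑Q := by
  have hidx := Orth.index_omega_odd hB h2 (by rw [Module.finrank_pi]; exact hn)
  have h4 : g ^ 4 ∈ Cfsg.Omega K ⇑Q := hidx ▸ Subgroup.pow_index_mem _ g
  have hc : Nat.Coprime 4 (orderOf g) := by
    refine Nat.Coprime.coprime_dvd_right (orderOf_dvd_of_pow_eq_one hg) ?_
    have : Nat.Coprime 2 p := Nat.coprime_two_left.2 hp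
    exact Nat.Coprime.pow_left 2 this
  obtain ⟨k, hk⟩ := exists_pow_eq_self_of_coprime hc
  exact hk ▸ pow_mem h4 k

/-- The counts of a type given as a tuple. -/
theorem exists_tuple (μ : Multiset ℕ) : ∃ (t : ℕ) (d : Fin t → ℕ), Finset.univ.val.map d = μ ∧
    ∀ j, (Finset.univ.filter fun k => d k = j).card = μ.count j := by
  refine ⟨μ.toList.length, fun k => μ.toList.get k, ?_, fun j => ?_⟩
  · rw [Fin.univ_val_map, List.ofFn_get, Multiset.coe_toList]
  · have h : Finset.univ.val.map (fun k => μ.toList.get k) = μ := by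
      rw [Fin.univ_val_map, List.ofFn_get, Multiset.coe_toList]
    conv_rhs => rw [← h, Multiset.count_map]
    simp only [eq_comm (a := j)]
    rfl

/-- An element of order `p` of a type with an odd part; its stable subspaces bound the type. -/
theorem exists_stable_type {p : ℕ} [Fact p.Prime] [CharP K p] (hp : Odd p) (h2 : (2 : K) ≠ 0)
    (hB : Orth.Nondeg Q) (hn : 2 ≤ Fintype.card ι) {m : ℕ} (P : Submodule K (ι → K) → Prop)
    (H : ∀ x : GL ι K, x ∈ Cfsg.Geo.omegaGL ⇑Q → orderOf x = p →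
      (∀ z : K, (x : Matrix ι ι K) ≠ z • (1 : Matrix ι ι K)) →
      ∃ W : Submodule K (ι → K), (finrank K W = m ∧ Cfsg.Geo.IsNondegenerateOn (QuadraticMap.polar ⇑Q) W ∧ P W) ∧
        W.map (Matrix.toLin' (x : Matrix ι ι K)) ≤ W)
    {μ : Multiset ℕ} (hμ : ∀ e ∈ μ, 0 < e ∧ e ≤ p) (hμe : ∀ e, Even e → Even (μ.count e))
    (hsum : μ.sum = Fintype.card ι) (hodd : ∃ e ∈ μ, Odd e) (hbig : ∃ e ∈ μ, 1 < e) :
    ∃ W, P W ∧ finrank K W = m ∧ ∃ ν : Multiset ℕ, ν ≤ μ ∧ ν.sum = m ∧
      (∀ e, Even e → Even (ν.count e)) ∧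
      ((∀ e ∈ ν, e ≤ 2) → ∃ U, U ≤ W ∧ Cfsg.Geo.IsTotallySingularQuad ⇑Q U ∧
        finrank K U = (ν.map fun e => e - 1).sum) := by
  classical
  obtain ⟨t, d, hd, hcount⟩ := exists_tuple μ
  have hdμ : ∀ k, d k ∈ μ := fun k => hd ▸ Multiset.mem_map_of_mem _ (Finset.mem_univ_val k)
  have hdpos : ∀ k, 0 < d k := fun k => (hμ _ (hdμ k)).1
  obtain ⟨g, ⟨C⟩⟩ := exists_isometry_type h2 hB hdpos
    (by rw [← hsum, ← hd]; rfl) (fun j hj => (hcount j).symm ▸ hμe j hj) (by
      obtain ⟨e, he, heo⟩ := hodd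
      rw [← hd] at he
      obtain ⟨k, -, rfl⟩ := Multiset.mem_map.1 he
      exact ⟨k, heo⟩)
  set A := ((g : GL ι K) : Matrix ι ι K) with hA
  haveI : Nonempty ι := Fintype.card_pos_iff.1 (by omega)
  haveI : CharP (Matrix ι ι K) p := inferInstance
  have hAp : A ^ p = 1 := by
    have := pow_eq_zero_of_le C fun k => (hμ _ (hdμ k)).2
    rw [← Matrix.toLin'_pow, sub_pow_char_of_commute p (Commute.one_right _), one_pow] at this
    exact sub_eq_zero.1 (Matrix.toLin'.injective (this.trans (map_zero _).symm))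
  have hgp : g ^ p = 1 := by
    refine Subtype.ext (Units.ext ?_)
    rw [SubgroupClass.coe_pow, Units.val_pow_eq_pow_val]
    exact hAp
  have hne : A ≠ 1 := fun h => by
    obtain ⟨e, he, he1⟩ := hbig
    rw [← hd] at he
    obtain ⟨k, -, rfl⟩ := Multiset.mem_map.1 he
    have := C.shift k ⟨0, hdpos k⟩
    have hz : Matrix.toLin' (A - 1) = 0 := by rw [h, sub_self, map_zero]
    rw [LinearMap.congr_fun hz, LinearMap.zero_apply, dif_pos (by simpa using he1)] at this
    exact C.b.ne_zero _ this.symm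
  obtain ⟨W, ⟨hWm, hWn, hWP⟩, hWx⟩ := H (g : GL ι K) ⟨g, mem_omega_of_pow hB h2 hn hp hgp, rfl⟩
    (orderOf_eq_prime (by rw [← SubgroupClass.coe_pow, hgp]; rfl) fun h => hne (congrArg Units.val h))
    fun z hz => hne (by
      rw [← hA] at hz
      have h1 : z = 1 := by
        rw [hz, smul_pow, one_pow] at hAp
        obtain ⟨i⟩ := (inferInstance : Nonempty ι)
        have h1 := congrFun (congrFun hAp i) i
        rw [Matrix.smul_apply, Matrix.one_apply_eq, smul_eq_mul, mul_one] at h1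
        exact sub_eq_zero.1 (pow_eq_zero_iff (Fact.out : p.Prime).ne_zero |>.1
          (by rw [sub_pow_char, h1, one_pow, sub_self] : (z - 1) ^ p = 0))
      rw [hz, h1, one_smul])
  obtain ⟨g', hg', hgN⟩ := orth_data g
  rw [← hgN] at C
  have hap : ∀ x, g' x = Matrix.toLin' A x := fun x => by
    have := LinearMap.congr_fun hgN x
    rw [map_sub, toLin'_one] at this
    simp only [LinearMap.sub_apply, LinearEquiv.coe_coe, End.one_apply, LinearMap.id_apply, sub_left_inj] at this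
    exact this
  obtain ⟨ν, h1, h3, h4, h5⟩ := exists_type_of_invariant h2 hB g' hg' hdpos C (Orth.nondegOn_of hWn)
    fun x hx => hap x ▸ hWx (Submodule.mem_map_of_mem hx)
  exact ⟨W, hWP, hWm, ν, hd ▸ h1, h3.trans hWm, h4, h5⟩

theorem even_sum_of_even {s : Multiset ℕ} (h : ∀ e ∈ s, Even e) : Even s.sum :=
  even_iff_two_dvd.2 (Multiset.dvd_sum fun e he => even_iff_two_dvd.1 (h e he))

omit [Finite K] in
/-- A pair of even parts can be replaced by two odd parts. -/
theorem split_of_odd {p n m : ℕ} (hp : Odd p) (hn : 0 < n) (hm : Even m)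
    (H : ∀ μ : Multiset ℕ, (∀ e ∈ μ, 0 < e ∧ e ≤ p) → (∀ e, Even e → Even (μ.count e)) → μ.sum = n →
      (∃ e ∈ μ, Odd e) → ∃ ν : Multiset ℕ, ν ≤ μ ∧ ν.sum = m ∧ ∀ e, Even e → Even (ν.count e))
    (μ : Multiset ℕ) (hμ : ∀ e ∈ μ, 0 < e ∧ e ≤ p) (hμe : ∀ e, Even e → Even (μ.count e)) (hsum : μ.sum = n) :
    ∃ ν : Multiset ℕ, ν ≤ μ ∧ ν.sum = m ∧ ∀ e, Even e → Even (ν.count e) := by
  by_cases hodd : ∃ e ∈ μ, Odd e
  · exact H μ hμ hμe hsum hodd
  push Not at hodd
  obtain ⟨e, he⟩ := Multiset.exists_mem_of_ne_zero (s := μ) (fun h => by rw [h] at hsum; simp at hsum; omega)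
  obtain ⟨he0, hep⟩ := hμ e he
  have hee : Even e := Nat.not_odd_iff_even.1 (hodd e he)
  have hc := hμe e hee
  have hc1 := Multiset.count_pos.2 he
  obtain ⟨r₀, rfl⟩ := Multiset.exists_cons_of_mem he
  obtain ⟨r, rfl⟩ := Multiset.exists_cons_of_mem (s := r₀) (a := e) (Multiset.count_pos.1 (by
    obtain ⟨c, hc⟩ := hc
    rw [Multiset.count_cons_self] at hc
    omega))
  have hr : ∀ x ∈ r, Even x := fun x hx => Nat.not_odd_iff_even.1 (hodd x (by simp [hx]))
  have hrc : ∀ j, Even j → Even (r.count j) := fun j hj => by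
    have := hμe j hj
    rw [Multiset.count_cons, Multiset.count_cons] at this
    split_ifs at this <;> simp [Nat.even_add_one] at this ⊢ <;> exact this
  obtain ⟨c, hc2⟩ := hee
  have o1 : Odd (e + 1) := ⟨c, by omega⟩
  have o2 : Odd (e - 1) := ⟨c - 1, by omega⟩
  obtain ⟨ν, hle, hνs, hνe⟩ := H ((e + 1) ::ₘ (e - 1) ::ₘ r) (fun x hx => by
      rw [Multiset.mem_cons, Multiset.mem_cons] at hx
      rcases hx with rfl | rfl | hx
      · obtain ⟨q, hq⟩ := hp; omega
      · omega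
      · exact hμ x (by simp [hx]))
    (fun j hj => by
      rw [Multiset.count_cons_of_ne fun (h : j = e + 1) => Nat.not_even_iff_odd.2 o1 (h ▸ hj),
        Multiset.count_cons_of_ne fun (h : j = e - 1) => Nat.not_even_iff_odd.2 o2 (h ▸ hj)]
      exact hrc j hj)
    (by simp only [Multiset.sum_cons] at hsum ⊢; omega) ⟨e + 1, Multiset.mem_cons_self _ _, o1⟩
  have hdown : ∀ s : Multiset ℕ, s ≤ r → s ≤ e ::ₘ e ::ₘ r := fun s hs =>
    hs.trans ((Multiset.le_cons_self _ _).trans (Multiset.le_cons_self _ _))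
  have hpar : ∀ s : Multiset ℕ, s ≤ r → Even s.sum := fun s hs =>
    even_sum_of_even fun x hx => hr x (Multiset.mem_of_le hs hx)
  by_cases h1 : e + 1 ∈ ν
  · obtain ⟨s, rfl⟩ := Multiset.exists_cons_of_mem h1
    rw [Multiset.cons_le_cons_iff] at hle
    by_cases h2 : e - 1 ∈ s
    · obtain ⟨s', rfl⟩ := Multiset.exists_cons_of_mem h2
      rw [Multiset.cons_le_cons_iff] at hle
      refine ⟨e ::ₘ e ::ₘ s', Multiset.cons_le_cons _ (Multiset.cons_le_cons _ hle),
        by simp only [Multiset.sum_cons] at hνs ⊢; omega, fun j hj => ?_⟩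
      have := hνe j hj
      rw [Multiset.count_cons_of_ne fun (h : j = e + 1) => Nat.not_even_iff_odd.2 o1 (h ▸ hj),
        Multiset.count_cons_of_ne fun (h : j = e - 1) => Nat.not_even_iff_odd.2 o2 (h ▸ hj)] at this
      rw [Multiset.count_cons, Multiset.count_cons]
      split_ifs <;> simp [Nat.even_add_one, this]
    · have := hpar s ((Multiset.le_cons_of_notMem h2).1 hle)
      rw [Multiset.sum_cons] at hνs
      obtain ⟨a, ha⟩ := this
      obtain ⟨b, hb⟩ := hm
      omega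
  · have hle' := (Multiset.le_cons_of_notMem h1).1 hle
    by_cases h2 : e - 1 ∈ ν
    · obtain ⟨s, rfl⟩ := Multiset.exists_cons_of_mem h2
      rw [Multiset.cons_le_cons_iff] at hle'
      obtain ⟨a, ha⟩ := hpar s hle'
      rw [Multiset.sum_cons] at hνs
      obtain ⟨b, hb⟩ := hm
      omega
    · exact ⟨ν, hdown ν ((Multiset.le_cons_of_notMem h2).1 hle'), hνs, hνe⟩

/-- The combinatorial condition from the stable subspaces. -/
theorem split_of_stable {p : ℕ} [Fact p.Prime] [CharP K p] (hp : Odd p) (h2 : (2 : K) ≠ 0)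
    (hB : Orth.Nondeg Q) {n m : ℕ} (hn : Fintype.card ι = n) (hn2 : 2 ≤ n) (hm : Even m) (hmn : m ≤ n)
    (P : Submodule K (ι → K) → Prop)
    (H : ∀ x : GL ι K, x ∈ Cfsg.Geo.omegaGL ⇑Q → orderOf x = p →
      (∀ z : K, (x : Matrix ι ι K) ≠ z • (1 : Matrix ι ι K)) →
      ∃ W : Submodule K (ι → K), (finrank K W = m ∧ Cfsg.Geo.IsNondegenerateOn (QuadraticMap.polar ⇑Q) W ∧ P W) ∧
        W.map (Matrix.toLin' (x : Matrix ι ι K)) ≤ W)
    (μ : Multiset ℕ) (hμ : ∀ e ∈ μ, 0 < e ∧ e ≤ p) (hμe : ∀ e, Even e → Even (μ.count e)) (hsum : μ.sum = n) :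
    ∃ ν : Multiset ℕ, ν ≤ μ ∧ ν.sum = m ∧ ∀ e, Even e → Even (ν.count e) := by
  refine split_of_odd hp (by omega) hm (fun μ hμ hμe hsum hodd => ?_) μ hμ hμe hsum
  by_cases hbig : ∃ e ∈ μ, 1 < e
  · obtain ⟨W, -, -, ν, h1, h3, h4, -⟩ :=
      exists_stable_type hp h2 hB (hn ▸ hn2) P H hμ hμe (hsum.trans hn.symm) hodd hbig
    exact ⟨ν, h1, h3, h4⟩
  · push Not at hbig
    have h1 : μ = Multiset.replicate n 1 := by
      have h := Multiset.eq_replicate_card.2 fun x hx => le_antisymm (hbig x hx) (hμ x hx).1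
      have hc : μ.card = n := by
        rw [h, Multiset.sum_replicate, smul_eq_mul, mul_one] at hsum
        exact hsum
      rwa [hc] at h
    refine ⟨Multiset.replicate m 1, ?_, by simp, fun e he => ?_⟩
    · rw [h1]; exact (Multiset.replicate_le_replicate 1).2 hmn
    rw [Multiset.count_replicate, if_neg fun h => by subst h; exact absurd he Nat.not_even_one]
    exact Even.zero

end CfsgLib.UnipForm
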