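import Cfsg.Agent.Lib.UnipForm.Cyclic
import Cfsg.Agent.Lib.Classical.SympCount

/-!
Unipotent elements of the symplectic group: translation to isometries, the centraliser of a regular one.
-/

set_option autoImplicit false

namespace CfsgLib.UnipForm

open Module Matrix
open CfsgLib.NilClasses (Chains)

universe u

variable {K : Type u} [Field K] {m : ℕ}

/-- The standard form is a form with `ε = -1`. -/
theorem stdForm_form : Form (RingHom.id K) (-1) fun x y => SympCount.stdForm K m x y :=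
  form_of_bilin _ (neg_ne_zero.2 one_ne_zero) (SympCount.stdForm_symp m).nd
    fun x y => by rw [neg_one_mul]; exact ((SympCount.stdForm_symp m).alt.neg_eq x y).symm

/-- Membership in the symplectic group. -/
theorem sp_mem_iff (A : Matrix (Fin m ⊕ Fin m) (Fin m ⊕ Fin m) K) :
    A ∈ Matrix.symplecticGroup (Fin m) K ↔
      ∀ x y, SympCount.stdForm K m (A *ᵥ x) (A *ᵥ y) = SympCount.stdForm K m x y := by
  have h := SympCount.cond_toLin' (a := (1 : K)) (b := 0) (c := -1) A
  rw [one_smul, zero_smul, add_zero, neg_one_smul, ← sub_eq_add_neg, sub_eq_zero,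
    ← SymplecticGroup.mem_iff'] at h
  rw [← h]
  exact forall₂_congr fun x y => by
    rw [one_mul, zero_mul, add_zero, neg_one_mul, ← sub_eq_add_neg, sub_eq_zero, toLin'_apply,
      toLin'_apply]

/-- A symplectic matrix as an automorphism. -/
noncomputable def spEquiv (A : Matrix.symplecticGroup (Fin m) K) :
    (Fin m ⊕ Fin m → K) ≃ₗ[K] (Fin m ⊕ Fin m → K) :=
  Matrix.toLin'OfInv (M := ((A⁻¹ : Matrix.symplecticGroup (Fin m) K) : Matrix (Fin m ⊕ Fin m) (Fin m ⊕ Fin m) K))
    (M' := (A : Matrix (Fin m ⊕ Fin m) (Fin m ⊕ Fin m) K))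
    (by rw [← Submonoid.coe_mul, inv_mul_cancel]; rfl) (by rw [← Submonoid.coe_mul, mul_inv_cancel]; rfl)

theorem spEquiv_apply (A : Matrix.symplecticGroup (Fin m) K) (x : Fin m ⊕ Fin m → K) :
    spEquiv A x = (A : Matrix (Fin m ⊕ Fin m) (Fin m ⊕ Fin m) K) *ᵥ x := rfl

theorem spEquiv_iso (A : Matrix.symplecticGroup (Fin m) K) (x y : Fin m ⊕ Fin m → K) :
    SympCount.stdForm K m (spEquiv A x) (spEquiv A y) = SympCount.stdForm K m x y :=
  (sp_mem_iff _).1 A.2 x y

theorem spEquiv_sub_one (A : Matrix.symplecticGroup (Fin m) K) :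
    (spEquiv A : End K (Fin m ⊕ Fin m → K)) - 1 =
      Matrix.toLin' ((A : Matrix (Fin m ⊕ Fin m) (Fin m ⊕ Fin m) K) - 1) := by
  rw [map_sub, toLin'_one]; rfl

variable [Finite K]

/-- The centraliser of a symplectic matrix, in the commutant. -/
theorem card_sp_centralizer (A : Matrix.symplecticGroup (Fin m) K) :
    Nat.card (Subgroup.centralizer ({A} : Set (Matrix.symplecticGroup (Fin m) K))) =
      Nat.card (Uni (star' stdForm_form (isoW_compat stdForm_form (spEquiv A) (spEquiv_iso A)))) := by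
  set hw := isoW_compat stdForm_form (spEquiv A) (spEquiv_iso A)
  set U : Matrix (Fin m ⊕ Fin m) (Fin m ⊕ Fin m) K := (A : Matrix (Fin m ⊕ Fin m) (Fin m ⊕ Fin m) K)
  have hN : ∀ x, ((spEquiv A : End K (Fin m ⊕ Fin m → K)) - 1) x = U *ᵥ x - x := fun x => rfl
  refine Nat.card_congr
    { toFun := fun g => ⟨⟨Matrix.toLin' ((g.1 : Matrix.symplecticGroup (Fin m) K) :
          Matrix (Fin m ⊕ Fin m) (Fin m ⊕ Fin m) K), mem_comm.2 fun x => ?_⟩,
          (star_unitary_iff stdForm_form hw _).2 fun x y => ?_⟩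
      invFun := fun g => ⟨⟨LinearMap.toMatrix' (g.1 : End K (Fin m ⊕ Fin m → K)), ?_⟩, ?_⟩
      left_inv := fun g => Subtype.ext (Subtype.ext (LinearMap.toMatrix'_toLin' _))
      right_inv := fun g => Subtype.ext (Subtype.ext (Matrix.toLin'_toMatrix' _)) }
  · have h := congrArg (fun h : Matrix.symplecticGroup (Fin m) K =>
      (h : Matrix (Fin m ⊕ Fin m) (Fin m ⊕ Fin m) K)) (Subgroup.mem_centralizer_iff.1 g.2 A rfl)
    simp only [Submonoid.coe_mul] at h
    rw [hN, hN, toLin'_apply, toLin'_apply, mulVec_sub, mulVec_mulVec, mulVec_mulVec, h]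
  · show SympCount.stdForm K m (toLin' _ x) (toLin' _ y) = SympCount.stdForm K m x y
    rw [toLin'_apply, toLin'_apply]
    exact (sp_mem_iff _).1 g.1.2 x y
  · refine (sp_mem_iff _).2 fun x y => ?_
    rw [← toLin'_apply, ← toLin'_apply, toLin'_toMatrix']
    exact (star_unitary_iff stdForm_form hw g.1).1 g.2 x y
  · refine Subgroup.mem_centralizer_iff.2 fun z hz => ?_
    rw [Set.mem_singleton_iff.1 hz]
    refine Subtype.ext (Matrix.toLin'.injective (LinearMap.ext fun x => ?_))
    show toLin' (U * LinearMap.toMatrix' _) x = toLin' (LinearMap.toMatrix' _ * U) x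
    rw [toLin'_mul, toLin'_mul, LinearMap.comp_apply, LinearMap.comp_apply, toLin'_toMatrix',
      toLin'_apply, toLin'_apply]
    have h := comm_apply g.1 x
    rw [hN, hN, map_sub, sub_left_inj] at h
    exact h.symm

/-- The centraliser of a regular unipotent element. -/
theorem card_centralizer_regular (h2 : (2 : K) ≠ 0) (hm : 0 < m) (A : Matrix.symplecticGroup (Fin m) K)
    (hnil : ((A : Matrix (Fin m ⊕ Fin m) (Fin m ⊕ Fin m) K) - 1) ^ (2 * m) = 0)
    (hreg : ((A : Matrix (Fin m ⊕ Fin m) (Fin m ⊕ Fin m) K) - 1).rank = 2 * m - 1) :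
    Nat.card (Subgroup.centralizer ({A} : Set (Matrix.symplecticGroup (Fin m) K))) = 2 * Nat.card K ^ m := by
  classical
  set N := (spEquiv A : End K (Fin m ⊕ Fin m → K)) - 1 with hN
  have hNnil : N ^ (2 * m) = 0 := by
    rw [hN, spEquiv_sub_one, ← Matrix.toLin'_pow, hnil, map_zero]
  obtain ⟨κ, hκ, μ, hpos, ⟨C⟩⟩ :=
    NilClasses.exists_chains _ N rfl ⟨2 * m, hNnil⟩
  have hsum : ∑ i, μ i = 2 * m := by
    have h := finrank_eq_card_basis C.b
    rw [Fintype.card_sigma, SympCount.finrank_stdV] at h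
    simp only [Fintype.card_fin] at h
    omega
  have hone : ∑ i, (μ i - 1) = 2 * m - 1 := by
    rw [← C.finrank_range_pow, pow_one, hN, spEquiv_sub_one, ← hreg]
    rfl
  have hcard : Fintype.card κ = 1 := by
    have h : ∑ i, (μ i - 1) + Fintype.card κ = ∑ i, μ i := by
      rw [Fintype.card_eq_sum_ones, ← Finset.sum_add_distrib]
      exact Finset.sum_congr rfl fun i _ => Nat.sub_add_cancel (hpos i)
    omega
  obtain ⟨k, hk⟩ := Fintype.card_eq_one_iff.1 hcard
  let _ : Unique κ := ⟨⟨k⟩, hk⟩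
  rw [card_sp_centralizer]
  refine card_uni_cyclic C hpos stdForm_form _ (isoW_add_one _) h2 hm ?_
  rwa [Fintype.sum_unique] at hsum

end CfsgLib.UnipForm
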