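import Cfsg.Agent.Lib.UnipForm.Model
import Cfsg.Agent.Lib.UnipForm.Sympl

/-!
Which Jordan types occur in the symplectic and orthogonal groups.
-/

set_option autoImplicit false

namespace CfsgLib.UnipForm

open Module Matrix
open CfsgLib.NilClasses (Chains)

universe u

variable {K : Type u} [Field K]

/-- Two chain bases of the same lengths intertwine their maps. -/
theorem chains_intertwine {V : Type u} [AddCommGroup V] [Module K V] {V' : Type u} [AddCommGroup V']
    [Module K V'] {f : V →ₗ[K] V} {g : V' →ₗ[K] V'} {κ : Type} {μ : κ → ℕ} (C : Chains f μ) (D : Chains g μ) :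
    ∃ L : V ≃ₗ[K] V', ∀ x, L (f x) = g (L x) := by
  refine ⟨C.b.equiv D.b (Equiv.refl _), LinearMap.congr_fun
    (f := (C.b.equiv D.b (Equiv.refl _)).toLinearMap ∘ₗ f) (g := g ∘ₗ (C.b.equiv D.b (Equiv.refl _)).toLinearMap)
    (C.b.ext fun p => ?_)⟩
  rw [LinearMap.comp_apply, LinearMap.comp_apply, C.shift p.1 p.2]
  simp only [LinearEquiv.coe_coe, Basis.equiv_apply, Equiv.refl_apply, D.shift p.1 p.2]
  split_ifs
  · rw [Basis.equiv_apply, Equiv.refl_apply]
  · rw [map_zero]

/-- A similarity to a Jordan matrix from chains. -/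
theorem isConj_of_chains {ι : Type} [Fintype ι] [DecidableEq ι] {t : ℕ} {d : Fin t → ℕ}
    (A : Matrix ι ι K) (C : Chains (Matrix.toLin' (A - 1)) d) (e : ((k : Fin t) × Fin (d k)) ≃ ι) :
    IsConj (Matrix.reindex e e (Cfsg.jordanTypeMatrix d K)) A := by
  obtain ⟨L0, hL0⟩ := chains_intertwine (stdChains (K := K) d) C
  obtain ⟨L, hL⟩ : ∃ L : (ι → K) ≃ₗ[K] (ι → K), ∀ x, L x = L0 (LinearEquiv.funCongrLeft K K e x) :=
    ⟨(LinearEquiv.funCongrLeft K K e).trans L0, fun _ => rfl⟩
  have h1 : LinearMap.toMatrix' (L : (ι → K) →ₗ[K] (ι → K)) *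
      LinearMap.toMatrix' (L.symm : (ι → K) →ₗ[K] (ι → K)) = 1 := by
    refine Matrix.toLin'.injective (LinearMap.ext fun x => ?_)
    rw [toLin'_mul, toLin'_one, LinearMap.comp_apply, toLin'_toMatrix', toLin'_toMatrix', LinearMap.id_apply]
    exact L.apply_symm_apply x
  refine ⟨⟨_, _, h1, mul_eq_one_comm.1 h1⟩, Matrix.toLin'.injective (LinearMap.ext fun x => ?_)⟩
  show toLin' (LinearMap.toMatrix' (L : (ι → K) →ₗ[K] (ι → K)) * _) x =
    toLin' (A * LinearMap.toMatrix' (L : (ι → K) →ₗ[K] (ι → K))) x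
  rw [toLin'_mul, toLin'_mul, LinearMap.comp_apply, LinearMap.comp_apply, toLin'_toMatrix',
    LinearEquiv.coe_coe, toLin'_apply]
  rw [hL, hL]
  have h2 := hL0 (LinearEquiv.funCongrLeft K K e x)
  rw [map_sub, toLin'_one, LinearMap.sub_apply, LinearMap.id_apply, map_sub, map_sub (Matrix.toLin'),
    toLin'_one, LinearMap.sub_apply, LinearMap.id_apply, sub_left_inj] at h2
  rw [← h2]
  congr 1
  funext p
  simp only [LinearEquiv.funCongrLeft_apply, LinearMap.funLeft_apply, toLin'_apply, mulVec, dotProduct,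
    Matrix.reindex_apply, Matrix.submatrix_apply]
  exact (Fintype.sum_equiv e _ _ fun q => by simp).symm

variable [Finite K]

/-- The parity of the multiplicities in the symplectic group. -/
theorem sp_even_mult {m t : ℕ} {d : Fin t → ℕ} (hd : ∀ k, 0 < d k)
    (e : ((k : Fin t) × Fin (d k)) ≃ Fin m ⊕ Fin m) (A : Matrix.symplecticGroup (Fin m) K)
    (h : IsConj (Matrix.reindex e e (Cfsg.jordanTypeMatrix d K))
      (A : Matrix (Fin m ⊕ Fin m) (Fin m ⊕ Fin m) K)) {j : ℕ} (hj : Odd j) :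
    Even (Finset.univ.filter fun k => d k = j).card := by
  obtain ⟨C⟩ := exists_chains_of_isConj e _ h
  rw [← spEquiv_sub_one] at C
  have hw := isoW_compat stdForm_form (spEquiv A) (spEquiv_iso A)
  refine even_mult C hd stdForm_form hw j ?_ fun k hk => ?_
  · obtain ⟨c, rfl⟩ := hj
    rw [Nat.add_sub_cancel, (even_two_mul c).neg_one_pow, mul_one]
  · exact soc_top_self C hd stdForm_form hw (fun x => (SympCount.stdForm_symp m).alt x)
      (isoW_add_one _) k (hk ▸ hj)

/-- The chains and the invariant form of a unipotent isometry of a quadratic form. -/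
theorem orth_data {ι : Type} [Fintype ι] [DecidableEq ι] {Q : QuadraticForm K (ι → K)}
    (A : ↥(Cfsg.isometryGroup K ⇑Q)) :
    ∃ g : (ι → K) ≃ₗ[K] (ι → K), (∀ x y, QuadraticMap.polarBilin Q (g x) (g y) = QuadraticMap.polarBilin Q x y) ∧
      (g : End K (ι → K)) - 1 = Matrix.toLin' (((A : GL ι K) : Matrix ι ι K) - 1) := by
  refine ⟨Matrix.toLin'OfInv (Units.inv_mul (A : GL ι K)) (Units.mul_inv (A : GL ι K)), fun x y => ?_, ?_⟩
  · have h : ∀ v, Q (((A : GL ι K) : Matrix ι ι K) *ᵥ v) = Q v := fun v => A.2 v v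
    show QuadraticMap.polar Q (((A : GL ι K) : Matrix ι ι K) *ᵥ x) (((A : GL ι K) : Matrix ι ι K) *ᵥ y) =
      QuadraticMap.polar Q x y
    simp only [QuadraticMap.polar, ← mulVec_add, h]
  · rw [map_sub, toLin'_one]; rfl

/-- The parity of the multiplicities in the orthogonal groups, odd characteristic. -/
theorem orth_even_mult (h2 : (2 : K) ≠ 0) {n t : ℕ} {d : Fin t → ℕ} (hd : ∀ k, 0 < d k)
    {Q : QuadraticForm K (Fin n → K)} (hQ : (QuadraticMap.polarBilin Q).Nondegenerate)
    (e : ((k : Fin t) × Fin (d k)) ≃ Fin n) (A : ↥(Cfsg.isometryGroup K ⇑Q))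
    (h : IsConj (Matrix.reindex e e (Cfsg.jordanTypeMatrix d K))
      ((A : GL (Fin n) K) : Matrix (Fin n) (Fin n) K)) {j : ℕ} (hj : Even j) (hj0 : 0 < j) :
    Even (Finset.univ.filter fun k => d k = j).card := by
  obtain ⟨C⟩ := exists_chains_of_isConj e _ h
  obtain ⟨g, hg, hgN⟩ := orth_data A
  rw [← hgN] at C
  have hB := form_of_bilin (QuadraticMap.polarBilin Q) one_ne_zero hQ.1
    fun x y => by rw [one_mul]; exact QuadraticMap.polar_comm _ _ _
  have hw := isoW_compat hB g hg
  have hodd : ((-1 : K)) ^ (j - 1) = -1 := by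
    obtain ⟨c, rfl⟩ := hj
    exact (show Odd (c + c - 1) from ⟨c - 1, by omega⟩).neg_one_pow
  refine even_mult C hd hB hw j (by rw [one_mul, hodd]) fun k hk => ?_
  have hsw := gram_swap hB hw C hd ⟨j, hk ▸ lt_bd k⟩ ⟨k, hk⟩ ⟨k, hk⟩
  simp only [gram, Matrix.of_apply, RingHom.id_apply, one_mul, hodd, neg_one_mul] at hsw
  rw [eq_neg_iff_add_eq_zero, ← two_mul] at hsw
  exact (mul_eq_zero.1 hsw).resolve_left h2

/-- The parity of the multiplicities in the orthogonal groups, characteristic two. -/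
theorem orth_even_mult_two [CharP K 2] {n t : ℕ} {d : Fin t → ℕ} (hd : ∀ k, 0 < d k)
    {Q : QuadraticForm K (Fin n → K)} (hQ : (QuadraticMap.polarBilin Q).Nondegenerate)
    (e : ((k : Fin t) × Fin (d k)) ≃ Fin n) (A : ↥(Cfsg.isometryGroup K ⇑Q))
    (h : IsConj (Matrix.reindex e e (Cfsg.jordanTypeMatrix d K))
      ((A : GL (Fin n) K) : Matrix (Fin n) (Fin n) K)) {j : ℕ} (hj : Odd j) :
    Even (Finset.univ.filter fun k => d k = j).card := by
  obtain ⟨C⟩ := exists_chains_of_isConj e _ h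
  obtain ⟨g, hg, hgN⟩ := orth_data A
  rw [← hgN] at C
  have hB := form_of_bilin (QuadraticMap.polarBilin Q) (neg_ne_zero.2 (one_ne_zero (α := K))) hQ.1
    fun x y => by
      rw [CharTwo.neg_eq, one_mul]; exact QuadraticMap.polar_comm _ _ _
  have hw := isoW_compat hB g hg
  refine even_mult C hd hB hw j ?_ fun k hk => ?_
  · simp [CharTwo.neg_eq]
  · refine soc_top_self C hd hB hw (fun x => ?_) (isoW_add_one _) k (hk ▸ hj)
    show QuadraticMap.polar Q x x = 0
    rw [QuadraticMap.polar_self, two_nsmul, CharTwo.add_self_eq_zero]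

omit [Finite K] in
/-- Symplectic matrices of a prescribed type. -/
theorem exists_sp_chains {m t : ℕ} {d : Fin t → ℕ} (hsum : ∑ k, d k = 2 * m) (S : Shape K d (-1))
    (halt : ∀ x, S.bil x x = 0) :
    ∃ (A : Matrix.symplecticGroup (Fin m) K) (L : (((k : Fin t) × Fin (d k)) → K) ≃ₗ[K] (Fin m ⊕ Fin m → K)),
      (∀ x y, SympCount.stdForm K m (L x) (L y) = S.bil x y) ∧
      ∀ x, L (S.nil x) = Matrix.toLin' ((A : Matrix (Fin m ⊕ Fin m) (Fin m ⊕ Fin m) K) - 1) (L x) := by
  obtain ⟨e, he⟩ := SympCount.exists_std (B := S.bil) ⟨halt, S.bil_nd⟩ (m := m) (by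
    rw [Module.finrank_pi, Fintype.card_sigma]; simp [hsum]; omega)
  let f : End K (Fin m ⊕ Fin m → K) :=
    e.symm.toLinearMap ∘ₗ Matrix.toLin' (Cfsg.jordanTypeMatrix d K) ∘ₗ e.toLinearMap
  have hf : LinearMap.toMatrix' f ∈ Matrix.symplecticGroup (Fin m) K := by
    refine (sp_mem_iff _).2 fun x y => ?_
    rw [← toLin'_apply, ← toLin'_apply, toLin'_toMatrix', ← he, ← he]
    simp only [f, LinearMap.comp_apply, LinearEquiv.coe_coe, LinearEquiv.apply_symm_apply, toLin'_apply]
    exact S.bil_invariant _ _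
  refine ⟨⟨_, hf⟩, e.symm, fun x y => ?_, fun x => ?_⟩
  · rw [← he, e.apply_symm_apply, e.apply_symm_apply]
  · show e.symm (S.nil x) = toLin' (LinearMap.toMatrix' f - 1) (e.symm x)
    rw [map_sub, toLin'_toMatrix', toLin'_one, LinearMap.sub_apply, LinearMap.id_apply]
    simp only [f, LinearMap.comp_apply, LinearEquiv.coe_coe, LinearEquiv.apply_symm_apply,
      toLin'_apply, S.jordan_apply, map_add, add_sub_cancel_left]

theorem bil_alt_of_diag {t : ℕ} {d : Fin t → ℕ} (S : Shape K d (-1))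
    (hdiag : ∀ k i, S.π k = k → S.f k i i = 0) (x : ((k : Fin t) × Fin (d k)) → K) : S.bil x x = 0 := by
  refine vanish_of_additive (fun x => S.bil x x) (fun x y => ?_) (fun p c => ?_) x
  · simp only [map_add, LinearMap.add_apply, S.bil_swap x y]; ring
  · show S.bil (Pi.single p c) (Pi.single p c) = 0
    have e : (Pi.single p c : _ → K) = c • Pi.single p 1 := by rw [← Pi.single_smul', smul_eq_mul, mul_one]
    simp only [e, map_smul, LinearMap.smul_apply, S.bil_single, Shape.val]
    split_ifs with h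
    · rw [hdiag _ _ h.symm, smul_zero, smul_zero]
    · simp

theorem altShape_diag {t : ℕ} {d : Fin t → ℕ} (π : Fin t → Fin t) (hππ : ∀ k, π (π k) = k)
    (hlen : ∀ k, d (π k) = d k) (hd : ∀ k, 0 < d k) (hfix : ∀ k, π k = k → Even (d k)) (c : Fin t → K)
    (hc : ∀ k, c k ≠ 0) (k : Fin t) (i : ℕ) (h : π k = k) :
    (altShape π hππ hlen hd hfix c hc).f k i i = 0 := by
  have := gAlt_swap (hd k) (hfix k h) i i
  show (if π k = k then _ else _) = (0 : K)
  rw [if_pos h, show gAlt (d k) i i = 0 by omega, Int.cast_zero, mul_zero]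

/-- Jordan types of the symplectic group. -/
theorem exists_sp_type {m t : ℕ} {d : Fin t → ℕ} (hd : ∀ k, 0 < d k) (hsum : ∑ k, d k = 2 * m)
    (h : ∀ j, Odd j → Even (Finset.univ.filter fun k => d k = j).card) :
    ∃ e : ((k : Fin t) × Fin (d k)) ≃ (Fin m ⊕ Fin m), ∃ A : Matrix.symplecticGroup (Fin m) K,
      IsConj (Matrix.reindex e e (Cfsg.jordanTypeMatrix d K)) (A : Matrix (Fin m ⊕ Fin m) (Fin m ⊕ Fin m) K) := by
  classical
  obtain ⟨π, hππ, hlen, hfix⟩ := exists_pairing d Odd h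
  have hfix' : ∀ k, π k = k → Even (d k) := fun k hk => Nat.not_odd_iff_even.1 ((hfix k).1 hk)
  let S : Shape K d (-1) := altShape π hππ hlen hd hfix' (fun _ => 1) fun _ => one_ne_zero
  obtain ⟨A, L, -, hL⟩ := exists_sp_chains hsum S
    (bil_alt_of_diag S fun k i hk => altShape_diag π hππ hlen hd hfix' _ (fun _ => one_ne_zero) k i hk)
  refine ⟨Fintype.equivOfCardEq (by simp [hsum]; omega), A, isConj_of_chains _ ?_ _⟩
  exact chainsMap (stdChains d) L hL

/-- Units from an injective matrix. -/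
theorem exists_gl {ι : Type} [Fintype ι] [DecidableEq ι] (M : Matrix ι ι K)
    (h : Function.Injective fun x => M *ᵥ x) : ∃ g : GL ι K, (g : Matrix ι ι K) = M :=
  Matrix.mulVec_injective_iff_isUnit.1 h

/-- A form invariant under a Jordan matrix gives an element of its isometry group. -/
theorem exists_orth_type {n t : ℕ} {d : Fin t → ℕ} (hsum : ∑ k, d k = n)
    (Q : QuadraticForm K (((k : Fin t) × Fin (d k)) → K))
    (hQ : ∀ x, (∀ y, QuadraticMap.polar Q x y = 0) → x = 0)
    (hJ : ∀ x, Q (Cfsg.jordanTypeMatrix d K *ᵥ x) = Q x) :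
    ∃ Q : QuadraticForm K (Fin n → K), (QuadraticMap.polarBilin Q).Nondegenerate ∧
      ∃ e : ((k : Fin t) × Fin (d k)) ≃ Fin n, ∃ A : ↥(Cfsg.isometryGroup K ⇑Q),
        IsConj (Matrix.reindex e e (Cfsg.jordanTypeMatrix d K)) ((A : GL (Fin n) K) : Matrix (Fin n) (Fin n) K) := by
  let e : ((k : Fin t) × Fin (d k)) ≃ Fin n := Fintype.equivFinOfCardEq (by simp [hsum])
  let Q' : QuadraticForm K (Fin n → K) := Q.comp (LinearEquiv.funCongrLeft K K e).toLinearMap
  set J' := Matrix.reindex e e (Cfsg.jordanTypeMatrix d K)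
  have hJ' : ∀ x, LinearEquiv.funCongrLeft K K e (J' *ᵥ x) =
      Cfsg.jordanTypeMatrix d K *ᵥ LinearEquiv.funCongrLeft K K e x := fun x => by
    funext p
    simp only [J', LinearEquiv.funCongrLeft_apply, LinearMap.funLeft_apply, mulVec, dotProduct,
      Matrix.reindex_apply, Matrix.submatrix_apply]
    exact (Fintype.sum_equiv e _ _ fun q => by simp).symm
  obtain ⟨g, hg⟩ := exists_gl J' (by
    intro x y h
    refine (LinearEquiv.funCongrLeft K K e).injective (sub_eq_zero.1 (hQ _ fun z => ?_))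
    have h' := congrArg (LinearEquiv.funCongrLeft K K e) h
    rw [hJ', hJ'] at h'
    have key : ∀ a b, QuadraticMap.polar Q (Cfsg.jordanTypeMatrix d K *ᵥ a) (Cfsg.jordanTypeMatrix d K *ᵥ b) =
        QuadraticMap.polar Q a b := fun a b => by simp only [QuadraticMap.polar, ← mulVec_add, hJ]
    rw [← key, mulVec_sub, sub_eq_zero.2 h']
    simp [QuadraticMap.polar])
  have hsep : (QuadraticMap.polarBilin Q').SeparatingLeft := fun x hx => by
    refine (LinearEquiv.funCongrLeft K K e).injective ((hQ _ fun z => ?_).trans (map_zero _).symm)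
    obtain ⟨y, rfl⟩ := (LinearEquiv.funCongrLeft K K e).surjective z
    rw [← hx y]
    simp [QuadraticMap.polar, Q']
  refine ⟨Q', ⟨hsep, fun y hy => hsep y fun x => ?_⟩, e, ⟨g, fun x _ => ?_⟩, by rw [hg]⟩
  · exact (QuadraticMap.polar_comm _ _ _).trans (hy x)
  · show Q (LinearEquiv.funCongrLeft K K e ((g : Matrix (Fin n) (Fin n) K) *ᵥ x)) =
      Q (LinearEquiv.funCongrLeft K K e x)
    rw [hg, hJ', hJ]

/-- Jordan types of the orthogonal groups, odd characteristic. -/
theorem exists_orth_type_odd (h2 : (2 : K) ≠ 0) {n t : ℕ} {d : Fin t → ℕ} (hd : ∀ k, 0 < d k)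
    (hsum : ∑ k, d k = n) (h : ∀ j, Even j → 0 < j → Even (Finset.univ.filter fun k => d k = j).card) :
    ∃ Q : QuadraticForm K (Fin n → K), (QuadraticMap.polarBilin Q).Nondegenerate ∧
      ∃ e : ((k : Fin t) × Fin (d k)) ≃ Fin n, ∃ A : ↥(Cfsg.isometryGroup K ⇑Q),
        IsConj (Matrix.reindex e e (Cfsg.jordanTypeMatrix d K)) ((A : GL (Fin n) K) : Matrix (Fin n) (Fin n) K) := by
  classical
  obtain ⟨π, hππ, hlen, hfix⟩ := exists_pairing d (fun j => Even j ∧ 0 < j) fun j hj => h j hj.1 hj.2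
  let S : Shape K d 1 := symShape π hππ hlen
    (fun k hk => Nat.not_even_iff_odd.1 fun he => (hfix k).1 hk ⟨he, hd k⟩) h2
  let Q : QuadraticForm K (((k : Fin t) × Fin (d k)) → K) :=
    LinearMap.BilinMap.toQuadraticMap ((1 / 2 : K) • S.bil)
  have hpolar : ∀ x y, QuadraticMap.polar Q x y = S.bil x y := fun x y => by
    rw [LinearMap.BilinMap.polar_toQuadraticMap, LinearMap.smul_apply, LinearMap.smul_apply,
      LinearMap.smul_apply, LinearMap.smul_apply, S.bil_swap x y, one_mul, ← add_smul]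
    rw [show (1 / 2 : K) + 1 / 2 = 1 by field_simp; norm_num, one_smul]
  refine exists_orth_type hsum Q (fun x hx => S.bil_nd x fun y => (hpolar x y).symm.trans (hx y)) fun x => ?_
  simp only [Q, LinearMap.BilinMap.toQuadraticMap_apply, LinearMap.smul_apply, S.bil_invariant]

/-- Jordan types of the orthogonal groups, characteristic two. -/
theorem exists_orth_type_two [CharP K 2] {n t : ℕ} {d : Fin t → ℕ} (hd : ∀ k, 0 < d k)
    (hsum : ∑ k, d k = n) (h : ∀ j, Odd j → Even (Finset.univ.filter fun k => d k = j).card) :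
    ∃ Q : QuadraticForm K (Fin n → K), (QuadraticMap.polarBilin Q).Nondegenerate ∧
      ∃ e : ((k : Fin t) × Fin (d k)) ≃ Fin n, ∃ A : ↥(Cfsg.isometryGroup K ⇑Q),
        IsConj (Matrix.reindex e e (Cfsg.jordanTypeMatrix d K)) ((A : GL (Fin n) K) : Matrix (Fin n) (Fin n) K) := by
  classical
  obtain ⟨π, hππ, hlen, hfix⟩ := exists_pairing d Odd h
  have hfix' : ∀ k, π k = k → Even (d k) := fun k hk => Nat.not_odd_iff_even.1 ((hfix k).1 hk)
  let S : Shape K d (-1) := altShape π hππ hlen hd hfix' (fun _ => 1) fun _ => one_ne_zero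
  have hdiag : ∀ k i, S.π k = k → S.f k i i = 0 :=
    fun k i hk => altShape_diag π hππ hlen hd hfix' _ (fun _ => one_ne_zero) k i hk
  let o := Fintype.equivFin ((k : Fin t) × Fin (d k))
  let q : ((k : Fin t) × Fin (d k)) → K := fun p =>
    if (p.2 : ℕ) = 0 then 0 else S.val p.1 ((p.2 : ℕ) - 1) p.1 p.2
  let T : Matrix ((k : Fin t) × Fin (d k)) ((k : Fin t) × Fin (d k)) K :=
    Matrix.of fun p r => if o p < o r then S.mat p r else if p = r then q p else 0
  let Q : QuadraticForm K (((k : Fin t) × Fin (d k)) → K) :=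
    LinearMap.BilinMap.toQuadraticMap (Matrix.toBilin' T)
  have hpolar : ∀ x y, QuadraticMap.polar Q x y = S.bil x y := by
    have h : Matrix.toBilin' T + LinearMap.BilinForm.flip (Matrix.toBilin' T) = S.bil := by
      refine LinearMap.BilinForm.ext_basis (Pi.basisFun K _) fun p r => ?_
      rw [LinearMap.add_apply, LinearMap.add_apply, LinearMap.BilinForm.flip_apply, Pi.basisFun_apply,
        Pi.basisFun_apply, Matrix.toBilin'_single, Matrix.toBilin'_single, S.bil_single]
      simp only [T, Shape.mat, Matrix.of_apply]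
      rcases lt_trichotomy (o p) (o r) with hlt | heq | hlt
      · rw [if_pos hlt, if_neg hlt.asymm, if_neg fun e => hlt.ne (by rw [e]), add_zero]
      · obtain rfl := o.injective heq
        rw [if_neg (lt_irrefl _), if_pos rfl, CharTwo.add_self_eq_zero, Shape.val]
        split_ifs with hp
        · exact (hdiag _ _ hp.symm).symm
        · rfl
      · rw [if_neg hlt.asymm, if_neg fun e => hlt.ne (by rw [e]), if_pos hlt, zero_add, S.val_swap,
          neg_one_mul, CharTwo.neg_eq]
    intro x y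
    rw [LinearMap.BilinMap.polar_toQuadraticMap, ← h]
    rfl
  refine exists_orth_type hsum Q (fun x hx => S.bil_nd x fun y => (hpolar x y).symm.trans (hx y)) fun x => ?_
  refine sub_eq_zero.1 (vanish_of_additive
    (fun x => Q (Cfsg.jordanTypeMatrix d K *ᵥ x) - Q x) (fun a b => ?_) (fun p c => ?_) x)
  · show Q (_ *ᵥ (a + b)) - Q (a + b) = _
    rw [mulVec_add, QuadraticMap.map_add (⇑Q), QuadraticMap.map_add (⇑Q) a, hpolar, hpolar, S.bil_invariant]
    ring
  · have e : (Pi.single p c : _ → K) = c • Pi.single p 1 := by rw [← Pi.single_smul', smul_eq_mul, mul_one]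
    show Q (_ *ᵥ Pi.single p c) - Q (Pi.single p c) = 0
    rw [e, mulVec_smul, QuadraticMap.map_smul, QuadraticMap.map_smul, ← smul_sub, S.jordan_apply,
      QuadraticMap.map_add (⇑Q), hpolar, add_assoc, add_sub_cancel_left, S.nil_single]
    have hQ1 : ∀ r, Q (Pi.single r 1) = q r := fun r => by
      simp [Q, T, Matrix.toBilin'_single]
    by_cases h' : (p.2 : ℕ) + 1 < d p.1
    · rw [dif_pos h', hQ1, S.bil_single]
      simp only [q, if_neg (Nat.succ_ne_zero _), Nat.add_sub_cancel, CharTwo.add_self_eq_zero, smul_zero]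
    · rw [dif_neg h', QuadraticMap.map_zero, map_zero, add_zero, smul_zero]

end CfsgLib.UnipForm
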