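import Cfsg.Agent.Lib.UnipForm.Classes

/-!
Counting regular unipotent classes and classes of elements of prime order `p` in `Sp`, odd characteristic `p`.
-/

set_option autoImplicit false

open scoped Classical

namespace CfsgLib.UnipForm

open Module Matrix
open CfsgLib.NilClasses (Chains)

universe u v

variable {K : Type u} [Field K]

/-- Chains along a bijection of the chain indices. -/
theorem exists_chains_reindex {V : Type v} [AddCommGroup V] [Module K V] {f : V →ₗ[K] V} {ι κ : Type}
    [Fintype ι] [Fintype κ] {μ : ι → ℕ} {ν : κ → ℕ} (C : Chains f μ)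
    (h : Finset.univ.val.map μ = Finset.univ.val.map ν) : Nonempty (Chains f ν) := by
  classical
  have hfib : ∀ w, Fintype.card {i // μ i = w} = Fintype.card {k // ν k = w} := by
    intro w
    have := congrArg (Multiset.count w) h
    rw [Multiset.count_map, Multiset.count_map] at this
    simp only [eq_comm (a := w)] at this
    rw [Fintype.card_subtype, Fintype.card_subtype]
    exact this
  let σ : ι ≃ κ := Equiv.ofFiberEquiv (f := μ) (g := ν) fun w => Fintype.equivOfCardEq (hfib w)
  have hσ : ∀ k, μ (σ.symm k) = ν k := fun k => by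
    conv_rhs => rw [← σ.apply_symm_apply k]
    exact (Equiv.ofFiberEquiv_map _ _).symm
  let τ : (Σ k, Fin (ν k)) ≃ Σ i, Fin (μ i) := Equiv.sigmaCongr σ.symm fun k => finCongr (hσ k).symm
  refine ⟨⟨C.b.reindex τ.symm, fun k j => ?_⟩⟩
  have hτ : ∀ j : Fin (ν k), τ ⟨k, j⟩ = ⟨σ.symm k, Fin.cast (hσ k).symm j⟩ := fun j => rfl
  simp only [Basis.reindex_apply, Equiv.symm_symm, hτ, C.shift]
  by_cases hj : (j : ℕ) + 1 < ν k
  · rw [dif_pos (by simpa [hσ] using hj), dif_pos hj]
    rfl
  · rw [dif_neg (by simpa [hσ] using hj), dif_neg hj]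

variable {m : ℕ}

/-- The lengths of the chains sum to the dimension. -/
theorem sum_chains {κ : Type} [Fintype κ] {μ : κ → ℕ} {f : End K (Fin m ⊕ Fin m → K)} (C : Chains f μ) :
    ∑ i, μ i = 2 * m := by
  classical
  have h := finrank_eq_card_basis C.b
  rw [Fintype.card_sigma, SympCount.finrank_stdV] at h
  simp only [Fintype.card_fin] at h
  omega

/-- The chain lengths of an element are unique. -/
theorem chains_unique {κ κ' : Type} [Fintype κ] [Fintype κ'] {μ : κ → ℕ} {μ' : κ' → ℕ}
    (hμ : ∀ i, 0 < μ i) (hμ' : ∀ i, 0 < μ' i) {f : End K (Fin m ⊕ Fin m → K)} (C : Chains f μ)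
    (C' : Chains f μ') : Finset.univ.val.map μ = Finset.univ.val.map μ' := by
  refine NilClasses.multiset_eq_of_sums (fun x hx => ?_) (fun x hx => ?_) fun k => ?_
  · obtain ⟨i, -, rfl⟩ := Multiset.mem_map.1 hx
    exact hμ i
  · obtain ⟨i, -, rfl⟩ := Multiset.mem_map.1 hx
    exact hμ' i
  · rw [Multiset.map_map, Multiset.map_map]
    exact (C.finrank_range_pow k).symm.trans (C'.finrank_range_pow k)

theorem spNil_conj (c A : Matrix.symplecticGroup (Fin m) K) (x : Fin m ⊕ Fin m → K) :
    spEquiv c (spNil A x) = spNil (c * A * c⁻¹) (spEquiv c x) := by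
  rw [spNil_apply, spNil_apply, map_sub, ← spEquiv_mul, ← spEquiv_mul, inv_mul_cancel_right]

/-- The lengths of chains of a power. -/
theorem pow_eq_zero_iff_le {κ : Type} [Fintype κ] {μ : κ → ℕ} (hμ : ∀ i, 0 < μ i)
    {f : End K (Fin m ⊕ Fin m → K)} (C : Chains f μ) (p : ℕ) : f ^ p = 0 ↔ ∀ i, μ i ≤ p := by
  constructor
  · intro h i
    by_contra hi
    have h1 := C.pow_apply i p ⟨0, hμ i⟩
    rw [h, LinearMap.zero_apply, dif_pos (by simp; omega)] at h1
    exact C.b.ne_zero _ h1.symm
  · intro h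
    refine C.b.ext fun q => ?_
    rw [C.pow_apply q.1 p q.2, dif_neg (by have := h q.1; omega)]
    rfl

variable [Finite K]

/-- Two classes of regular unipotent elements. -/
theorem card_regular_classes (h2 : (2 : K) ≠ 0) (hm : 0 < m) :
    Nat.card {x : ConjClasses (Matrix.symplecticGroup (Fin m) K) //
      ∃ A, ConjClasses.mk A = x ∧ ((A : Matrix (Fin m ⊕ Fin m) (Fin m ⊕ Fin m) K) - 1) ^ (2 * m) = 0 ∧
        ((A : Matrix (Fin m ⊕ Fin m) (Fin m ⊕ Fin m) K) - 1).rank = 2 * m - 1} = 2 := by
  classical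
  have hodd : ∀ j, Odd j → Even (Finset.univ.filter fun _k : Fin 1 => 2 * m = j).card := fun j hj => by
    rw [Finset.filter_false_of_mem fun _ _ e => Nat.not_even_iff_odd.2 hj ((show 2 * m = j from e) ▸ even_two_mul m),
      Finset.card_empty]
    exact Even.zero
  have key := card_classes_type (K := K) (m := m) h2 (d := fun _ : Fin 1 => 2 * m) (fun _ => by omega)
    (by simp) hodd
  rw [show ((Finset.univ.image fun _ : Fin 1 => 2 * m).filter fun j => Even j) = {2 * m} by
    ext j; simp; rintro rfl; exact even_two_mul m, Finset.card_singleton, pow_one] at key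
  refine Eq.trans ?_ key
  refine Nat.card_congr (Equiv.subtypeEquivRight fun x => exists_congr fun A => and_congr_right fun _ => ?_)
  have hpow : spNil A ^ (2 * m) = 0 ↔
      ((A : Matrix (Fin m ⊕ Fin m) (Fin m ⊕ Fin m) K) - 1) ^ (2 * m) = 0 := by
    rw [spNil, spEquiv_sub_one, ← Matrix.toLin'_pow]
    exact ⟨fun h => Matrix.toLin'.injective (by rw [h, map_zero]), fun h => by rw [h, map_zero]⟩
  have hrank : finrank K (LinearMap.range (spNil A ^ 1)) =
      ((A : Matrix (Fin m ⊕ Fin m) (Fin m ⊕ Fin m) K) - 1).rank := by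
    rw [pow_one, spNil, spEquiv_sub_one]; rfl
  constructor
  · rintro ⟨hn, hr⟩
    obtain ⟨κ, hκ, μ, hpos, ⟨C⟩⟩ := NilClasses.exists_chains _ (spNil A) rfl ⟨2 * m, hpow.2 hn⟩
    have hsum := sum_chains C
    have hone : ∑ i, (μ i - 1) = 2 * m - 1 := by rw [← C.finrank_range_pow, hrank, hr]
    have hcard : Fintype.card κ = 1 := by
      have h : ∑ i, (μ i - 1) + Fintype.card κ = ∑ i, μ i := by
        rw [Fintype.card_eq_sum_ones, ← Finset.sum_add_distrib]
        exact Finset.sum_congr rfl fun i _ => Nat.sub_add_cancel (hpos i)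
      omega
    obtain ⟨k, hk⟩ := Fintype.card_eq_one_iff.1 hcard
    let _ : Unique κ := ⟨⟨k⟩, hk⟩
    rw [Fintype.sum_unique] at hsum
    exact exists_chains_reindex C (by
      simp only [Finset.univ_unique, Finset.singleton_val, Multiset.map_singleton, hsum])
  · rintro ⟨C⟩
    refine ⟨hpow.1 ((pow_eq_zero_iff_le (fun _ => by omega) C _).2 fun _ => le_rfl), ?_⟩
    rw [← hrank, C.finrank_range_pow]
    simp

/-- The classes of elements of order `p`. -/
theorem card_order_classes {p : ℕ} [Fact p.Prime] [CharP K p] (hp : p ≠ 2) :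
    Nat.card {x : ConjClasses (Matrix.symplecticGroup (Fin m) K) //
      ∃ A : Matrix.symplecticGroup (Fin m) K, ConjClasses.mk A = x ∧ orderOf A = p} =
      (∑ P ∈ Finset.univ.filter (fun P : Nat.Partition (2 * m) =>
        (∀ a ∈ P.parts, a ≤ p) ∧ ∀ j : ℕ, Odd j → Even (P.parts.count j)),
        2 ^ ((P.parts.toFinset.filter (fun j : ℕ => Even j)).card)) - 1 := by
  classical
  have hpp : p.Prime := Fact.out
  have h2 : (2 : K) ≠ 0 := fun h => by
    have := (CharP.cast_eq_zero_iff K p 2).1 (by exact_mod_cast h)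
    exact hp ((Nat.prime_dvd_prime_iff_eq hpp Nat.prime_two).1 this)
  set G := Matrix.symplecticGroup (Fin m) K
  have hpow : ∀ A : G, A ^ p = 1 ↔ spNil A ^ p = 0 := by
    intro A
    rw [spNil, spEquiv_sub_one, ← Matrix.toLin'_pow,
      show ((A : Matrix (Fin m ⊕ Fin m) (Fin m ⊕ Fin m) K) - 1) ^ p =
        (A : Matrix (Fin m ⊕ Fin m) (Fin m ⊕ Fin m) K) ^ p - 1 by
        rcases Nat.eq_zero_or_pos m with rfl | hm
        · exact Subsingleton.elim _ _
        · have : Nonempty (Fin m ⊕ Fin m) := ⟨.inl ⟨0, hm⟩⟩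
          have : CharP (Matrix (Fin m ⊕ Fin m) (Fin m ⊕ Fin m) K) p := inferInstance
          rw [sub_pow_char_of_commute p (Commute.one_right _), one_pow]]
    constructor
    · intro h
      rw [show (A : Matrix (Fin m ⊕ Fin m) (Fin m ⊕ Fin m) K) ^ p = 1 by
        rw [← SubmonoidClass.coe_pow, h]; rfl, sub_self, map_zero]
    · intro h
      refine Subtype.ext ?_
      rw [SubmonoidClass.coe_pow]
      exact sub_eq_zero.1 (Matrix.toLin'.injective (h.trans (map_zero _).symm))
  -- the length function of a partition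
  let len : (P : Nat.Partition (2 * m)) → Fin P.parts.toList.length → ℕ := fun P i => P.parts.toList.get i
  have hlen : ∀ P, Finset.univ.val.map (len P) = P.parts := fun P => by
    rw [Fin.univ_val_map, List.ofFn_get, Multiset.coe_toList]
  set Sset := Finset.univ.filter (fun P : Nat.Partition (2 * m) =>
    (∀ a ∈ P.parts, a ≤ p) ∧ ∀ j : ℕ, Odd j → Even (P.parts.count j))
  have hpart : ∀ A : G, A ^ p = 1 → ∃ P ∈ Sset, Nonempty (Chains (spNil A) (len P)) := by
    intro A hA
    obtain ⟨κ, hκ, μ, hpos, ⟨C⟩⟩ := NilClasses.exists_chains _ (spNil A) rfl ⟨p, (hpow A).1 hA⟩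
    let P : Nat.Partition (2 * m) :=
      ⟨Finset.univ.val.map μ, fun {i} hi => by
        obtain ⟨k, -, rfl⟩ := Multiset.mem_map.1 hi
        exact hpos k, sum_chains C⟩
    refine ⟨P, Finset.mem_filter.2 ⟨Finset.mem_univ _, fun a ha => ?_, fun j hj => ?_⟩,
      exists_chains_reindex C (hlen P).symm⟩
    · obtain ⟨k, -, rfl⟩ := Multiset.mem_map.1 ha
      exact (pow_eq_zero_iff_le hpos C p).1 ((hpow A).1 hA) k
    · have hw := isoW_compat stdForm_form (spEquiv A) (spEquiv_iso A)
      have := even_mult C hpos stdForm_form hw j (by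
          obtain ⟨c, rfl⟩ := hj
          rw [Nat.add_sub_cancel, (even_two_mul c).neg_one_pow, mul_one])
        fun k hk => soc_top_self C hpos stdForm_form hw (fun x => (SympCount.stdForm_symp m).alt x)
          (isoW_add_one _) k (hk ▸ hj)
      show Even (Multiset.count j (Finset.univ.val.map μ))
      rw [Multiset.count_map]
      convert this using 1
      simp only [eq_comm (a := j)]
      rfl
  have hposP : ∀ (P : Nat.Partition (2 * m)) i, 0 < len P i := fun P i =>
    P.parts_pos (Multiset.mem_toList.1 (List.get_mem _ _))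
  let U := {x : ConjClasses G // ∃ A : G, ConjClasses.mk A = x ∧ A ^ p = 1}
  let T : Sset → Type u := fun P => {x : ConjClasses G // ∃ A, ConjClasses.mk A = x ∧
    Nonempty (Chains (spNil A) (len P.1))}
  let f : (Σ P : Sset, T P) → U := fun y => ⟨y.2.1, by
    obtain ⟨A, hA, ⟨C⟩⟩ := y.2.2
    refine ⟨A, hA, (hpow A).2 ((pow_eq_zero_iff_le (hposP _) C p).2 fun i => ?_)⟩
    exact (Finset.mem_filter.1 y.1.2).2.1 _ (Multiset.mem_toList.1 (List.get_mem _ _))⟩
  have hf : Function.Bijective f := by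
    refine ⟨?_, ?_⟩
    · rintro ⟨P, x, A, hA, ⟨C⟩⟩ ⟨P', x', A', hA', ⟨C'⟩⟩ e
      obtain rfl : x = x' := congrArg Subtype.val e
      obtain ⟨c, rfl⟩ := isConj_iff.1 (ConjClasses.mk_eq_mk_iff_isConj.1 (hA.trans hA'.symm))
      have h := chains_unique (hposP _) (hposP _) (chainsMap C (spEquiv c) (spNil_conj c A)) C'
      rw [hlen, hlen] at h
      obtain rfl : P = P' := Subtype.ext (Nat.Partition.ext h)
      rfl
    · rintro ⟨x, A, hA, hAp⟩
      obtain ⟨P, hP, hC⟩ := hpart A hAp
      exact ⟨⟨⟨P, hP⟩, x, A, hA, hC⟩, rfl⟩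
  have hU : Nat.card U = ∑ P ∈ Sset, 2 ^ ((P.parts.toFinset.filter (fun j : ℕ => Even j)).card) := by
    rw [← Nat.card_congr (Equiv.ofBijective f hf), Nat.card_sigma,
      ← Finset.sum_coe_sort Sset]
    refine Finset.sum_congr rfl fun P _ => ?_
    rw [card_classes_type h2 (hposP P.1) ?_ ?_]
    · congr 3
      ext j
      rw [Finset.mem_image, Multiset.mem_toFinset]
      constructor
      · rintro ⟨i, -, rfl⟩
        exact Multiset.mem_toList.1 (List.get_mem _ _)
      · intro hj
        obtain ⟨i, hi⟩ := List.mem_iff_get.1 (Multiset.mem_toList.2 hj)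
        exact ⟨i, Finset.mem_univ _, hi⟩
    · exact (congrArg Multiset.sum (hlen P.1)).trans P.1.parts_sum
    · intro j hj
      have h := (Finset.mem_filter.1 P.2).2.2 j hj
      rw [← hlen P.1, Multiset.count_map] at h
      convert h using 1
      simp only [eq_comm (a := j)]
      rfl
  have : Finite G := Subtype.finite
  have : Fintype (ConjClasses G) := Fintype.ofFinite _
  rw [← hU, Nat.card_eq_fintype_card, Nat.card_eq_fintype_card, Fintype.card_subtype, Fintype.card_subtype]
  rw [← Finset.card_erase_of_mem (a := ConjClasses.mk (1 : G))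
    (Finset.mem_filter.2 ⟨Finset.mem_univ _, 1, rfl, one_pow p⟩)]
  refine congrArg Finset.card ?_
  ext x
  simp only [Finset.mem_filter, Finset.mem_univ, true_and, Finset.mem_erase]
  constructor
  · rintro ⟨A, rfl, hA⟩
    obtain ⟨h1, h1'⟩ := orderOf_eq_prime_iff.1 hA
    refine ⟨fun e => h1' ?_, A, rfl, h1⟩
    exact (isConj_one_left.1 (ConjClasses.mk_eq_mk_iff_isConj.1 e))
  · rintro ⟨hne, A, rfl, hA⟩
    exact ⟨A, rfl, orderOf_eq_prime_iff.2 ⟨hA, fun e => hne (by rw [e])⟩⟩

end CfsgLib.UnipForm
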