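import Cfsg.Agent.Lib.UnipForm.Congr
import Cfsg.Agent.Lib.UnipForm.Exist

/-!
The unipotent classes of the symplectic group in odd characteristic, by chain lengths and square classes.
-/

set_option autoImplicit false

namespace CfsgLib.UnipForm

open Module Matrix
open CfsgLib.NilClasses (Chains)

universe u

variable {K : Type u} [Field K] {m : ℕ}

/-- The nilpotent part of a symplectic matrix. -/
noncomputable abbrev spNil (A : Matrix.symplecticGroup (Fin m) K) : End K (Fin m ⊕ Fin m → K) :=
  (spEquiv A : End K (Fin m ⊕ Fin m → K)) - 1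

theorem spNil_apply (A : Matrix.symplecticGroup (Fin m) K) (x : Fin m ⊕ Fin m → K) :
    spNil A x = spEquiv A x - x := rfl

theorem spEquiv_mul (A A' : Matrix.symplecticGroup (Fin m) K) (x : Fin m ⊕ Fin m → K) :
    spEquiv (A * A') x = spEquiv A (spEquiv A' x) := by
  rw [spEquiv_apply, spEquiv_apply, spEquiv_apply, mulVec_mulVec]; rfl

theorem gram_chainsMap {κ : Type} [Fintype κ] {μ : κ → ℕ} (hpos : ∀ i, 0 < μ i)
    {f g : End K (Fin m ⊕ Fin m → K)} (C : Chains f μ) (T : (Fin m ⊕ Fin m → K) ≃ₗ[K] (Fin m ⊕ Fin m → K))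
    (hT : ∀ x, T (f x) = g (T x))
    (hiso : ∀ x y, SympCount.stdForm K m (T x) (T y) = SympCount.stdForm K m x y) (i : Fin (bd μ)) :
    gram (chainsMap C T hT) hpos (fun x y => SympCount.stdForm K m x y) i =
      gram C hpos (fun x y => SympCount.stdForm K m x y) i := by
  have hpow : ∀ h x, (g ^ h) (T x) = T ((f ^ h) x) := fun h => by
    induction h with
    | zero => exact fun x => rfl
    | succ h ih => intro x; rw [pow_succ, End.mul_apply, ← hT, ih, pow_succ, End.mul_apply]
  have htop : ∀ k, top (chainsMap C T hT) hpos k = T (top C hpos k) := fun k => Basis.map_apply _ _ _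
  ext k l
  show SympCount.stdForm K m (soc (chainsMap C T hT) hpos k.1) (top (chainsMap C T hT) hpos l.1) =
    SympCount.stdForm K m (soc C hpos k.1) (top C hpos l.1)
  rw [soc, soc, htop, htop, hpow, hiso]

variable [Finite K]

/-- In a finite field two non-zero elements of one square class multiply to a square. -/
theorem isSquare_mul_of_iff {a b : K} (ha : a ≠ 0) (hb : b ≠ 0) (h : IsSquare a ↔ IsSquare b) :
    IsSquare (a * b) := by
  classical
  have : Fintype K := Fintype.ofFinite K
  rw [← quadraticChar_one_iff_isSquare (mul_ne_zero ha hb), map_mul]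
  rw [← quadraticChar_one_iff_isSquare ha, ← quadraticChar_one_iff_isSquare hb] at h
  rcases quadraticChar_dichotomy ha with e | e <;> rcases quadraticChar_dichotomy hb with e' | e' <;>
    simp [e, e'] at h ⊢

variable {t : ℕ} {d : Fin t → ℕ}

/-- The square class of the form on the chains of length `j`. -/
noncomputable def spClass (hd : ∀ k, 0 < d k) {A : Matrix.symplecticGroup (Fin m) K} (C : Chains (spNil A) d)
    (i : Fin (bd d)) : Prop :=
  IsSquare (gram C hd (fun x y => SympCount.stdForm K m x y) i).det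

/-- Equal chain lengths and square classes give conjugate elements. -/
theorem isConj_of_class (h2 : (2 : K) ≠ 0) (hd : ∀ k, 0 < d k) {A A' : Matrix.symplecticGroup (Fin m) K}
    (C : Chains (spNil A) d) (C' : Chains (spNil A') d)
    (h : ∀ i : Fin (bd d), Even (i : ℕ) → 0 < (i : ℕ) → (spClass hd C i ↔ spClass hd C' i)) : IsConj A A' := by
  classical
  set B := fun x y : Fin m ⊕ Fin m → K => SympCount.stdForm K m x y
  have hw := isoW_compat stdForm_form (spEquiv A) (spEquiv_iso A)
  have hw' := isoW_compat stdForm_form (spEquiv A') (spEquiv_iso A')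
  have halt : ∀ {N : End K (Fin m ⊕ Fin m → K)} {w : comm N} (a₀ : comm N) (_ : w + 1 = nC N * a₀)
      (_ : Compat B N w) (D : Chains N d) (i : Fin (bd d)), Odd (i : ℕ) →
      SympCount.Symp (Matrix.toBilin' (gram D hd B i)) := by
    intro N w a₀ ha hc D i hi
    refine ⟨fun x => ?_, fun v hv => Matrix.eq_zero_of_vecMul_eq_zero
      (gram_det_ne_zero stdForm_form hc D hd i) (funext fun k => ?_)⟩
    · refine vanish_of_additive (fun x => Matrix.toBilin' (gram D hd B i) x x) (fun x y => ?_) (fun k c => ?_) x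
      · simp only [map_add, LinearMap.add_apply]
        have : Matrix.toBilin' (gram D hd B i) y x = -Matrix.toBilin' (gram D hd B i) x y := by
          simp only [Matrix.toBilin'_apply, ← Finset.sum_neg_distrib]
          rw [Finset.sum_comm]
          refine Finset.sum_congr rfl fun k _ => Finset.sum_congr rfl fun l _ => ?_
          rw [gram_swap stdForm_form hc D hd i k l, RingHom.id_apply]
          obtain ⟨c, hc'⟩ := hi
          rw [hc', Nat.add_sub_cancel, (even_two_mul c).neg_one_pow]
          ring
        rw [this]; ring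
      · have hk : gram D hd B i k k = 0 := soc_top_self D hd stdForm_form hc
          (fun x => (SympCount.stdForm_symp m).alt x) ha k.1 (by rw [k.2]; exact hi)
        simp [Matrix.toBilin'_apply', hk]
    · have := hv (Pi.single k 1)
      rwa [Matrix.toBilin'_apply', Matrix.dotProduct_mulVec, dotProduct_single_one] at this
  have hM : ∀ i : Fin (bd d), ∃ M : Matrix (Blk d i) (Blk d i) K, Mᵀ * gram C hd B i * M = gram C' hd B i := by
    intro i
    rcases Nat.even_or_odd (i : ℕ) with hi | hi
    · by_cases h0 : (i : ℕ) = 0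
      · have : IsEmpty (Blk d i) := ⟨fun k => (hd k.1).ne' (k.2.trans h0)⟩
        exact ⟨0, Subsingleton.elim _ _⟩
      · have hsym : ∀ {N : End K (Fin m ⊕ Fin m → K)} {w : comm N} (_ : Compat B N w) (D : Chains N d)
            (k l : Blk d i), gram D hd B i l k = gram D hd B i k l := fun hc D k l => by
          rw [gram_swap stdForm_form hc D hd i k l, RingHom.id_apply]
          obtain ⟨c, hc'⟩ := hi
          rw [(show Odd ((i : ℕ) - 1) from ⟨c - 1, by omega⟩).neg_one_pow]
          ring
        have hd1 := gram_det_ne_zero stdForm_form hw C hd i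
        have hd2 := gram_det_ne_zero stdForm_form hw' C' hd i
        exact exists_congr_sym h2 _ _ (hsym hw C) (hsym hw' C') hd1 hd2
          (isSquare_mul_of_iff hd1 hd2 (h i hi (Nat.pos_of_ne_zero h0)))
    · exact exists_congr_alt _ _ (halt _ (isoW_add_one _) hw C i hi) (halt _ (isoW_add_one _) hw' C' i hi)
  obtain ⟨L, hL, hLN⟩ := exists_isometry_of_congr C hd stdForm_form hw hw' (fun T hT x => by
    show T (-(spEquiv A).symm x) = -(spEquiv A').symm (T x)
    rw [map_neg, neg_inj, LinearEquiv.eq_symm_apply]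
    have h1 := hT ((spEquiv A).symm x)
    rw [spNil_apply, spNil_apply, map_sub, sub_left_inj, LinearEquiv.apply_symm_apply] at h1
    exact h1.symm) h2 C' hM
  have hc : LinearMap.toMatrix' L.toLinearMap ∈ Matrix.symplecticGroup (Fin m) K := by
    refine (sp_mem_iff _).2 fun x y => ?_
    rw [← toLin'_apply, ← toLin'_apply, toLin'_toMatrix']
    exact hL x y
  refine isConj_iff.2 ⟨⟨_, hc⟩, mul_inv_eq_iff_eq_mul.2 (Subtype.ext
    (Matrix.toLin'.injective (LinearMap.ext fun x => ?_)))⟩
  have h1 := hLN x
  rw [spNil_apply, spNil_apply, map_sub, sub_left_inj, spEquiv_apply, spEquiv_apply] at h1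
  simp only [Submonoid.coe_mul, toLin'_mul, LinearMap.comp_apply, toLin'_toMatrix', toLin'_apply,
    LinearEquiv.coe_coe]
  exact h1

/-- Conjugate elements have equal square classes. -/
theorem class_of_isConj (hd : ∀ k, 0 < d k) {A A' : Matrix.symplecticGroup (Fin m) K} (h : IsConj A A')
    (C : Chains (spNil A) d) (C' : Chains (spNil A') d) (i : Fin (bd d)) :
    spClass hd C i ↔ spClass hd C' i := by
  obtain ⟨c, rfl⟩ := isConj_iff.1 h
  have hT : ∀ x, spEquiv c (spNil A x) = spNil (c * A * c⁻¹) (spEquiv c x) := fun x => by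
    rw [spNil_apply, spNil_apply, map_sub, ← spEquiv_mul, ← spEquiv_mul, inv_mul_cancel_right]
  obtain ⟨M, hM⟩ := exists_gram_congr (chainsMap C (spEquiv c) hT) hd stdForm_form
    (isoW_compat stdForm_form (spEquiv (c * A * c⁻¹)) (spEquiv_iso _)) C' i
  rw [gram_chainsMap hd C (spEquiv c) hT (spEquiv_iso c)] at hM
  have hne := gram_det_ne_zero stdForm_form
    (isoW_compat stdForm_form (spEquiv (c * A * c⁻¹)) (spEquiv_iso _)) C' hd i
  rw [spClass, spClass, ← hM, det_mul, det_mul, det_transpose]
  rw [← hM, det_mul, det_mul, det_transpose] at hne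
  have hM0 : M.det ≠ 0 := fun e => hne (by rw [e]; ring)
  constructor
  · rintro ⟨r, hr⟩
    exact ⟨M.det * r, by rw [hr]; ring⟩
  · rintro ⟨r, hr⟩
    refine ⟨r / M.det, ?_⟩
    field_simp
    linear_combination hr

/-- A model with prescribed square classes. -/
theorem exists_class_model (h2 : (2 : K) ≠ 0) (hd : ∀ k, 0 < d k) (hsum : ∑ k, d k = 2 * m)
    (hodd : ∀ j, Odd j → Even (Finset.univ.filter fun k => d k = j).card) (b : ℕ → Bool) :
    ∃ (A : Matrix.symplecticGroup (Fin m) K) (C : Chains (spNil A) d),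
      ∀ i : Fin (bd d), Even (i : ℕ) → (∃ k, d k = i) → (spClass hd C i ↔ b i = true) := by
  classical
  obtain ⟨α, hα⟩ := FiniteField.exists_nonsquare (F := K) (fun h => by
    have := ringChar.Nat.cast_ringChar (R := K)
    rw [h] at this
    exact h2 (by exact_mod_cast this))
  have hα0 : α ≠ 0 := fun e => hα ⟨0, by rw [e, mul_zero]⟩
  obtain ⟨π, hππ, hlen, hfix⟩ := exists_pairing d Odd hodd
  have hfix' : ∀ k, π k = k → Even (d k) := fun k hk => Nat.not_odd_iff_even.1 ((hfix k).1 hk)
  let first : ℕ → Option (Fin t) := fun j => if h : ∃ k, d k = j then some h.choose else none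
  let c : Fin t → K := fun k => if first (d k) = some k ∧ b (d k) = false then α else 1
  have hc : ∀ k, c k ≠ 0 := fun k => by
    show (if _ then α else 1) ≠ 0
    split_ifs
    · exact hα0
    · exact one_ne_zero
  let S : Shape K d (-1) := altShape π hππ hlen hd hfix' c hc
  obtain ⟨A, L, hL, hLN⟩ := exists_sp_chains hsum S
    (bil_alt_of_diag S fun k i hk => altShape_diag π hππ hlen hd hfix' c hc k i hk)
  rw [← spEquiv_sub_one] at hLN
  let C : Chains (spNil A) d := chainsMap (stdChains d) L hLN
  refine ⟨A, C, fun i hi ⟨k₀, hk₀⟩ => ?_⟩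
  have hb : ∀ p, C.b p = L (Pi.single p 1) := fun p => by
    show ((stdChains d).b.map L) p = _
    rw [Basis.map_apply]
    exact congrArg L (Pi.basisFun_apply _ _ _)
  have hgram : gram C hd (fun x y => SympCount.stdForm K m x y) i = Matrix.diagonal fun k => c k.1 := by
    ext k l
    show SympCount.stdForm K m (soc C hd k.1) (top C hd l.1) = _
    rw [soc, ← b_eq C hd ⟨k.1, ⟨d k.1 - 1, Nat.sub_one_lt (hd k.1).ne'⟩⟩, top, hb, hb, hL, S.bil_single]
    have hk : π k.1 = k.1 := (hfix k.1).2 (by rw [k.2]; exact Nat.not_odd_iff_even.2 hi)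
    show (if l.1 = π k.1 then (if π k.1 = k.1 then c k.1 * _ else _) else 0) = _
    rw [if_pos hk, hk, Matrix.diagonal_apply, gAlt,
      gZ_anti _ (show d k.1 - 1 + 0 + 1 = d k.1 by have := hd k.1; omega), pow_zero, Int.cast_one, mul_one]
    by_cases h : k = l
    · rw [if_pos (congrArg Subtype.val h.symm), if_pos h]
    · rw [if_neg fun e => h (Subtype.ext e.symm), if_neg h]
  have hex : ∃ k, d k = (i : ℕ) := ⟨k₀, hk₀⟩
  have hprod : ∏ k : Blk d i, c k.1 = if b i = false then α else 1 := by
    rw [Finset.prod_eq_single ⟨hex.choose, hex.choose_spec⟩]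
    · show (if first (d hex.choose) = some hex.choose ∧ b (d hex.choose) = false then α else 1) = _
      rw [hex.choose_spec]
      simp only [first, dif_pos hex, true_and]
    · intro k _ hk
      refine if_neg fun h => hk (Subtype.ext ?_)
      have h1 := h.1
      rw [k.2] at h1
      simp only [first, dif_pos hex, Option.some.injEq] at h1
      exact h1.symm
    · exact fun h => absurd (Finset.mem_univ _) h
  rw [spClass, hgram, det_diagonal, hprod]
  cases b i
  · simp [hα]
  · simp

/-- The classes with given chain lengths. -/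
theorem card_classes_type (h2 : (2 : K) ≠ 0) (hd : ∀ k, 0 < d k) (hsum : ∑ k, d k = 2 * m)
    (hodd : ∀ j, Odd j → Even (Finset.univ.filter fun k => d k = j).card) :
    Nat.card {x : ConjClasses (Matrix.symplecticGroup (Fin m) K) //
      ∃ A, ConjClasses.mk A = x ∧ Nonempty (Chains (spNil A) d)} =
      2 ^ ((Finset.univ.image d).filter fun j => Even j).card := by
  classical
  set S := (Finset.univ.image d).filter fun j => Even j with hS
  let ext : (S → Bool) → ℕ → Bool := fun b j => if h : j ∈ S then b ⟨j, h⟩ else true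
  choose A C hA using fun b : S → Bool => exists_class_model (K := K) (m := m) h2 hd hsum hodd (ext b)
  have hmem : ∀ j : S, ∃ k, d k = (j : ℕ) := fun j => by
    obtain ⟨k, -, hk⟩ := Finset.mem_image.1 (Finset.mem_filter.1 j.2).1
    exact ⟨k, hk⟩
  have hlt : ∀ j : S, (j : ℕ) < bd d := fun j => by
    obtain ⟨k, hk⟩ := hmem j
    exact hk ▸ lt_bd k
  let f : (S → Bool) → {x : ConjClasses (Matrix.symplecticGroup (Fin m) K) //
      ∃ A, ConjClasses.mk A = x ∧ Nonempty (Chains (spNil A) d)} :=
    fun b => ⟨ConjClasses.mk (A b), A b, rfl, ⟨C b⟩⟩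
  have hf : Function.Bijective f := by
    refine ⟨fun b b' e => funext fun j => Bool.eq_iff_iff.2 ?_, ?_⟩
    · have he := ConjClasses.mk_eq_mk_iff_isConj.1 (congrArg Subtype.val e)
      have hj := (Finset.mem_filter.1 j.2).2
      have h := class_of_isConj hd he (C b) (C b') ⟨j, hlt j⟩
      rw [hA b _ hj (hmem j), hA b' _ hj (hmem j)] at h
      simpa [ext, j.2] using h
    · rintro ⟨x, A', rfl, ⟨C'⟩⟩
      let b : S → Bool := fun j => decide (spClass hd C' ⟨j, hlt j⟩)
      refine ⟨b, Subtype.ext (ConjClasses.mk_eq_mk_iff_isConj.2 (isConj_of_class h2 hd (C b) C' ?_))⟩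
      intro i hi hi0
      by_cases hk : ∃ k, d k = (i : ℕ)
      · rw [hA b i hi hk]
        have hiS : (i : ℕ) ∈ S := by
          obtain ⟨k, hk⟩ := hk
          exact Finset.mem_filter.2 ⟨Finset.mem_image.2 ⟨k, Finset.mem_univ _, hk⟩, hi⟩
        simp [ext, b, hiS]
      · have : IsEmpty (Blk d i) := ⟨fun k => hk ⟨k.1, k.2⟩⟩
        simp [spClass]
  rw [← Nat.card_congr (Equiv.ofBijective f hf), Nat.card_fun, Nat.card_eq_fintype_card (α := Bool),
    Fintype.card_bool, Nat.card_eq_finsetCard]

end CfsgLib.UnipForm
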