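import Mathlib

/-!
Rings with an anti-automorphism of order two and a nilpotent kernel: lifting of hermitian norms, and
the orders of the groups of unitary elements.
-/

set_option autoImplicit false

namespace CfsgLib.UnipForm

/-- An anti-automorphism whose square is trivial. -/
structure Anti {R : Type*} [Ring R] (s : R →+ R) : Prop where
  mul : ∀ a b, s (a * b) = s b * s a
  invol : ∀ a, s (s a) = a

variable {R : Type*} [Ring R] {s : R →+ R}

theorem Anti.one (hs : Anti s) : s 1 = 1 := by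
  have h := hs.mul 1 (s 1)
  rwa [one_mul, hs.invol, one_mul, eq_comm] at h

theorem Anti.unit (hs : Anti s) {a b : R} (h₁ : a * b = 1) (h₂ : b * a = 1) :
    s a * s b = 1 ∧ s b * s a = 1 :=
  ⟨by rw [← hs.mul, h₂, hs.one], by rw [← hs.mul, h₁, hs.one]⟩

/-- A filtration by ideals, zero from some stage on, in which hermitian elements are traces. -/
structure Good (s : R →+ R) (Φ : ℕ → AddSubgroup R) : Prop where
  top : Φ 0 = ⊤
  anti : Antitone Φ
  mul : ∀ {a b : R} {i j : ℕ}, a ∈ Φ i → b ∈ Φ j → a * b ∈ Φ (i + j)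
  zero : ∃ M, Φ M = ⊥
  stable : ∀ {a : R}, a ∈ Φ 1 → s a ∈ Φ 1
  trace : ∀ {e : R} {k : ℕ}, 1 ≤ k → e ∈ Φ k → s e = e → ∃ c ∈ Φ k, c + s c = e

variable {Φ : ℕ → AddSubgroup R}

theorem Good.left (hΦ : Good s Φ) (r : R) {a : R} {k : ℕ} (ha : a ∈ Φ k) : r * a ∈ Φ k := by
  have := hΦ.mul (i := 0) (hΦ.top ▸ AddSubgroup.mem_top r) ha
  rwa [zero_add] at this

theorem Good.right (hΦ : Good s Φ) (r : R) {a : R} {k : ℕ} (ha : a ∈ Φ k) : a * r ∈ Φ k := by
  have := hΦ.mul (j := 0) ha (hΦ.top ▸ AddSubgroup.mem_top r)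
  rwa [add_zero] at this

theorem Good.nilpotent (hΦ : Good s Φ) {a : R} (ha : a ∈ Φ 1) : IsNilpotent a := by
  obtain ⟨M, hM⟩ := hΦ.zero
  have key : ∀ n, a ^ n ∈ Φ n := fun n => by
    induction n with
    | zero => rw [hΦ.top]; exact AddSubgroup.mem_top _
    | succ n ih => rw [pow_succ]; exact hΦ.mul ih ha
  exact ⟨M, by simpa [hM] using key M⟩

theorem Good.isUnit_one_add (hΦ : Good s Φ) {a : R} (ha : a ∈ Φ 1) : IsUnit (1 + a) :=
  (hΦ.nilpotent ha).isUnit_one_add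

/-- Every hermitian element congruent to one is a norm. -/
theorem exists_root (hs : Anti s) (hΦ : Good s Φ) {e : R} (he : s e = e) (he1 : e ∈ Φ 1) :
    ∃ g : Rˣ, (g : R) - 1 ∈ Φ 1 ∧ s g * g = 1 + e := by
  obtain ⟨M, hM⟩ := hΦ.zero
  suffices h : ∀ n k, 1 ≤ k → M ≤ k + n → ∀ e, s e = e → e ∈ Φ k →
      ∃ g : Rˣ, (g : R) - 1 ∈ Φ 1 ∧ s g * g = 1 + e from h M 1 le_rfl (by omega) e he he1
  intro n
  induction n with
  | zero =>
    intro k _ hk e _ hek
    have : e = 0 := by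
      have := hΦ.anti (show M ≤ k by omega) hek
      rwa [hM, AddSubgroup.mem_bot] at this
    exact ⟨1, by simp, by simp [hs.one, this]⟩
  | succ n ih =>
    intro k hk hkn e he hek
    obtain ⟨c, hc, hce⟩ := hΦ.trace hk hek he
    obtain ⟨v, hv⟩ := hΦ.isUnit_one_add (hΦ.anti hk hc)
    set w := ((v⁻¹ : Rˣ) : R) with hw
    obtain ⟨hsv, hsw⟩ := hs.unit (a := (v : R)) (b := w) v.mul_inv v.inv_mul
    -- the norm of `1 + c` differs from `1 + e` in a deeper stage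
    set e' := -(s w * (s c * c) * w) with he'
    have hcc : s c * c ∈ Φ (k + 1) := by
      rw [add_comm k 1]; exact hΦ.mul (hΦ.stable (hΦ.anti hk hc)) hc
    have he'm : e' ∈ Φ (k + 1) := neg_mem (hΦ.right _ (hΦ.left _ hcc))
    have he's : s e' = e' := by
      simp only [he', map_neg, hs.mul, hs.invol, mul_assoc]
    obtain ⟨g, hg1, hg⟩ := ih (k + 1) (by omega) (by omega) e' he's he'm
    refine ⟨g * v, ?_, ?_⟩
    · rw [Units.val_mul, hv, mul_add, mul_one, add_sub_right_comm]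
      exact add_mem hg1 (hΦ.left _ (hΦ.anti hk hc))
    · rw [Units.val_mul, hs.mul, mul_assoc, ← mul_assoc (s (g : R)), hg, he', add_mul, one_mul,
        mul_add, neg_mul, mul_neg, mul_assoc (s w * (s c * c)) w (v : R), v.inv_mul, mul_one,
        ← mul_assoc (s (v : R)) (s w), hsv, one_mul, hv, map_add, hs.one, ← hce]
      noncomm_ring

/-- The elements `g` with `s g * g = 1`. -/
abbrev Uni (s : R →+ R) : Type _ := {g : R // s g * g = 1}

section lift

variable {S : Type*} [Ring S] {s' : S →+ S}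

/-- Norms are detected on the quotient by the kernel. -/
theorem exists_norm (hs : Anti s) (hΦ : Good s Φ) (π : R →+* S) (hπ : Function.Surjective π)
    (hker : ∀ a, π a = 0 ↔ a ∈ Φ 1) (hcomm : ∀ a, π (s a) = s' (π a)) {h : R} (hh : s h = h)
    (g' : Sˣ) (hg : s' g' * g' = π h) : ∃ g : Rˣ, π (g : R) = g' ∧ s g * g = h := by
  obtain ⟨a, ha⟩ := hπ (g' : S)
  obtain ⟨b, hb⟩ := hπ ((g'⁻¹ : Sˣ) : S)
  obtain ⟨u₁, hu₁⟩ := hΦ.isUnit_one_add (a := a * b - 1)
    ((hker _).1 (by rw [map_sub, map_mul, ha, hb, Units.mul_inv, map_one, sub_self]))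
  obtain ⟨u₂, hu₂⟩ := hΦ.isUnit_one_add (a := b * a - 1)
    ((hker _).1 (by rw [map_sub, map_mul, ha, hb, Units.inv_mul, map_one, sub_self]))
  rw [add_sub_cancel] at hu₁ hu₂
  obtain ⟨v, hv⟩ : IsUnit a := isUnit_iff_exists_and_exists.2
    ⟨⟨b * ((u₁⁻¹ : Rˣ) : R), by rw [← mul_assoc, ← hu₁, u₁.mul_inv]⟩,
      ⟨((u₂⁻¹ : Rˣ) : R) * b, by rw [mul_assoc, ← hu₂, u₂.inv_mul]⟩⟩
  set w := ((v⁻¹ : Rˣ) : R)
  obtain ⟨hsv, hsw⟩ := hs.unit (a := (v : R)) (b := w) v.mul_inv v.inv_mul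
  have he : s (s w * h * w - 1) = s w * h * w - 1 := by
    rw [map_sub, hs.one, hs.mul, hs.mul, hh, hs.invol, mul_assoc]
  have hmem : s w * h * w - 1 ∈ Φ 1 := by
    refine (hker _).1 ?_
    rw [map_sub, map_one, map_mul, map_mul, ← hg, ← ha, ← hcomm, ← map_mul, ← map_mul, ← map_mul,
      ← hv, ← mul_assoc (s w), hsw, one_mul, v.mul_inv, map_one, sub_self]
  obtain ⟨r, hr1, hr⟩ := exists_root hs hΦ he hmem
  have hπr : π (r : R) = 1 := by
    rw [← sub_eq_zero, ← map_one π, ← map_sub]; exact (hker _).2 hr1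
  refine ⟨r * v, by rw [Units.val_mul, map_mul, hπr, one_mul, hv, ha], ?_⟩
  rw [Units.val_mul, hs.mul, mul_assoc, ← mul_assoc (s (r : R)), hr, add_sub_cancel]
  simp only [← mul_assoc]
  rw [hsv, one_mul, mul_assoc h, v.inv_mul, mul_one]

variable [Finite R]

/-- Splitting the unitary elements along the quotient. -/
theorem card_uni (hs : Anti s) (hΦ : Good s Φ) (π : R →+* S) (hπ : Function.Surjective π)
    (hker : ∀ a, π a = 0 ↔ a ∈ Φ 1) (hcomm : ∀ a, π (s a) = s' (π a))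
    (hinv : ∀ g : S, s' g * g = 1 → g * s' g = 1) :
    Nat.card (Uni s) = Nat.card {g : R // g - 1 ∈ Φ 1 ∧ s g * g = 1} * Nat.card (Uni s') := by
  have hR : ∀ {g : R}, s g * g = 1 → g * s g = 1 := fun h => mul_eq_one_comm.1 h
  have hlift : ∀ g' : Uni s', ∃ g : R, s g * g = 1 ∧ π g = g'.1 := fun g' => by
    obtain ⟨g, hg, hg'⟩ := exists_norm hs hΦ π hπ hker hcomm (h := 1) hs.one
      ⟨g'.1, s' g'.1, hinv _ g'.2, g'.2⟩ (by rw [map_one]; exact g'.2)
    exact ⟨g, hg', hg⟩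
  choose L hL hLπ using hlift
  have hmove : ∀ l g : R, l * s l = 1 → s g * g = 1 → s (s l * g) * (s l * g) = 1 := fun l g h h' => by
    rw [hs.mul, hs.invol, mul_assoc, ← mul_assoc l, h, one_mul, h']
  rw [← Nat.card_prod]
  refine Nat.card_congr
    { toFun := fun g => (⟨s (L ⟨π g.1, ?_⟩) * g.1, ?_, ?_⟩, ⟨π g.1, ?_⟩)
      invFun := fun p => ⟨L p.2 * p.1.1, ?_⟩
      left_inv := fun g => Subtype.ext ?_
      right_inv := fun p => ?_ }
  · rw [← hcomm, ← map_mul, g.2, map_one]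
  · refine (hker _).1 ?_
    rw [map_sub, map_mul, hcomm, hLπ, ← hcomm, ← map_mul, g.2, sub_self]
  · exact hmove _ _ (hR (hL _)) g.2
  · rw [← hcomm, ← map_mul, g.2, map_one]
  · rw [hs.mul, mul_assoc, ← mul_assoc (s (L _)), hL, one_mul, p.1.2.2]
  · show L _ * (s (L _) * g.1) = g.1
    rw [← mul_assoc, hR (hL _), one_mul]
  · obtain ⟨⟨k, hk, hk'⟩, g'⟩ := p
    have hπk : π (L g' * k) = g'.1 := by
      have : π k = 1 := by rw [← sub_eq_zero, ← map_one π, ← map_sub]; exact (hker _).2 hk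
      rw [map_mul, this, mul_one, hLπ]
    have e : ∀ x : Uni s', x = g' → s (L x) * (L g' * k) = k := fun x hx => by
      subst hx; rw [← mul_assoc, hL, one_mul]
    exact Prod.ext (Subtype.ext (e _ (Subtype.ext hπk))) (Subtype.ext hπk)

end lift

/-- The kernel is the product of its unitary and its hermitian part. -/
theorem card_kernel [Finite R] (hs : Anti s) (hΦ : Good s Φ) :
    Nat.card (Φ 1) = Nat.card {g : R // g - 1 ∈ Φ 1 ∧ s g * g = 1} *
      Nat.card {e : R // e ∈ Φ 1 ∧ s e = e} := by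
  have hroot : ∀ e : {e : R // e ∈ Φ 1 ∧ s e = e}, ∃ g : Rˣ, (g : R) - 1 ∈ Φ 1 ∧ s g * g = 1 + e.1 :=
    fun e => exists_root hs hΦ e.2.2 e.2.1
  choose r hr1 hr using hroot
  rw [← Nat.card_prod]
  refine Nat.card_congr (Equiv.ofBijective
    (fun p : {g : R // g - 1 ∈ Φ 1 ∧ s g * g = 1} × {e : R // e ∈ Φ 1 ∧ s e = e} =>
      (⟨p.1.1 * (r p.2 : R) - 1, ?_⟩ : Φ 1)) ⟨?_, ?_⟩).symm
  · have h : p.1.1 * (r p.2 : R) - 1 = p.1.1 * ((r p.2 : R) - 1) + (p.1.1 - 1) := by noncomm_ring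
    rw [h]
    exact add_mem (hΦ.left _ (hr1 _)) p.1.2.1
  · rintro ⟨g, e⟩ ⟨g', e'⟩ h
    have h1 : g.1 * (r e : R) = g'.1 * (r e' : R) := sub_left_injective (congrArg Subtype.val h)
    have key : ∀ (g : {g : R // g - 1 ∈ Φ 1 ∧ s g * g = 1}) (e : {e : R // e ∈ Φ 1 ∧ s e = e}),
        s (g.1 * (r e : R)) * (g.1 * (r e : R)) = 1 + e.1 := fun g e => by
      rw [hs.mul, mul_assoc, ← mul_assoc (s g.1), g.2.2, one_mul, hr]
    have h2 : e = e' := Subtype.ext (add_left_cancel ((key g e).symm.trans (h1 ▸ key g' e')))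
    subst h2
    exact Prod.ext (Subtype.ext ((r e).isUnit.mul_left_injective h1)) rfl
  · rintro ⟨x, hx⟩
    have he : s x + x + s x * x ∈ Φ 1 ∧ s (s x + x + s x * x) = s x + x + s x * x := by
      refine ⟨add_mem (add_mem (hΦ.stable hx) hx) (hΦ.left _ hx), ?_⟩
      rw [map_add, map_add, hs.mul, hs.invol]; abel
    set e : {e : R // e ∈ Φ 1 ∧ s e = e} := ⟨_, he⟩
    set ri := (((r e)⁻¹ : Rˣ) : R)
    refine ⟨(⟨(1 + x) * ri, ?_, ?_⟩, e), Subtype.ext ?_⟩
    · have h : (1 + x) * ri - 1 = x * ri + -(ri * ((r e : R) - 1)) := by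
        rw [mul_sub, mul_one, (r e).inv_mul]; noncomm_ring
      rw [h]
      exact add_mem (hΦ.right _ hx) (neg_mem (hΦ.left _ (hr1 e)))
    · obtain ⟨hsr, hsri⟩ := hs.unit (a := (r e : R)) (b := ri) (r e).mul_inv (r e).inv_mul
      have h : s (1 + x) * (1 + x) = s (r e : R) * (r e : R) := by
        rw [hr, map_add, hs.one]; show _ = 1 + (s x + x + s x * x); noncomm_ring
      rw [hs.mul, mul_assoc, ← mul_assoc (s (1 + x)), h]
      simp only [← mul_assoc]
      rw [hsri, one_mul, (r e).mul_inv]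
    · show (1 + x) * ri * (r e : R) - 1 = x
      rw [mul_assoc, (r e).inv_mul, mul_one, add_sub_cancel_left]

end CfsgLib.UnipForm
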