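import Mathlib
import Cfsg.Agent.Lib.Classical.NilpotentClasses
import Cfsg.Agent.Lib.UnipForm.Hensel

/-!
The commutant of a nilpotent map with a chain basis: its size, its projection to the blocks of equal
chain length, and the filtration of the kernel.
-/

set_option autoImplicit false

namespace CfsgLib.UnipForm

open Module
open CfsgLib.NilClasses (Chains)

universe u v

variable {K : Type u} [Field K] {V : Type v} [AddCommGroup V] [Module K V]
variable {N : V →ₗ[K] V} {κ : Type} {μ : κ → ℕ}

/-- The maps commuting with `N`. -/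
def comm (N : V →ₗ[K] V) : Subring (End K V) := Subring.centralizer {N}

theorem mem_comm {a : End K V} : a ∈ comm N ↔ ∀ x, a (N x) = N (a x) := by
  rw [comm, Subring.mem_centralizer_iff]
  simp only [Set.mem_singleton_iff, forall_eq]
  exact ⟨fun h x => (LinearMap.congr_fun h x).symm, fun h => LinearMap.ext fun x => (h x).symm⟩

theorem comm_apply (a : comm N) (x : V) : (a : End K V) (N x) = N ((a : End K V) x) :=
  mem_comm.1 a.2 x

theorem comm_pow (a : comm N) (h : ℕ) (x : V) :
    (a : End K V) ((N ^ h) x) = (N ^ h) ((a : End K V) x) := by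
  induction h generalizing x with
  | zero => rfl
  | succ h ih => rw [pow_succ, End.mul_apply, End.mul_apply, ih, comm_apply]

variable (C : Chains N μ) (hpos : ∀ i, 0 < μ i)

/-- The first vector of a chain. -/
noncomputable def top (k : κ) : V := C.b ⟨k, ⟨0, hpos k⟩⟩

theorem b_eq (p : Σ i, Fin (μ i)) : C.b p = (N ^ (p.2 : ℕ)) (top C hpos p.1) := by
  obtain ⟨i, j⟩ := p
  have h := C.pow_apply i (j : ℕ) ⟨0, hpos i⟩
  rw [dif_pos (by simp)] at h
  rw [top, h]
  simp

theorem pow_top_eq_zero {k : κ} {h : ℕ} (hk : μ k ≤ h) : (N ^ h) (top C hpos k) = 0 := by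
  rw [top, C.pow_apply, dif_neg (by simp; omega)]

/-- Reading a coordinate through a power of `N`. -/
theorem repr_pow [Fintype κ] (k : κ) (h : ℕ) (j : Fin (μ k)) (x : V) :
    C.b.repr ((N ^ h) x) ⟨k, j⟩ =
      if hj : h ≤ (j : ℕ) then C.b.repr x ⟨k, ⟨(j : ℕ) - h, by omega⟩⟩ else 0 := by
  classical
  by_cases hj : h ≤ (j : ℕ)
  · rw [dif_pos hj]
    have key : C.b.coord ⟨k, j⟩ ∘ₗ (N ^ h) = C.b.coord ⟨k, ⟨(j : ℕ) - h, by omega⟩⟩ := by
      refine C.b.ext fun p => ?_
      obtain ⟨i, l⟩ := p
      rw [LinearMap.comp_apply, C.pow_apply, Basis.coord_apply, Basis.coord_apply, Basis.repr_self,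
        Finsupp.single_apply]
      split_ifs with h1 h2 h2
      · simp only [Sigma.mk.inj_iff] at h2
        obtain ⟨rfl, h2⟩ := h2
        simp only [heq_eq_eq, Fin.ext_iff] at h2
        rw [Basis.repr_self, Finsupp.single_apply, if_pos]
        simp [Fin.ext_iff]; omega
      · rw [Basis.repr_self, Finsupp.single_apply, if_neg]
        intro e
        simp only [Sigma.mk.inj_iff] at e
        obtain ⟨rfl, e⟩ := e
        simp only [heq_eq_eq, Fin.ext_iff] at e
        exact h2 (by simp [Fin.ext_iff]; omega)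
      · exfalso
        simp only [Sigma.mk.inj_iff] at h2
        obtain ⟨rfl, h2⟩ := h2
        simp only [heq_eq_eq, Fin.ext_iff] at h2
        omega
      · simp
    exact LinearMap.congr_fun key x
  · rw [dif_neg hj]
    have key : C.b.coord ⟨k, j⟩ ∘ₗ (N ^ h) = 0 := by
      refine C.b.ext fun p => ?_
      obtain ⟨i, l⟩ := p
      rw [LinearMap.comp_apply, C.pow_apply, Basis.coord_apply, LinearMap.zero_apply]
      split_ifs with h1
      · rw [Basis.repr_self, Finsupp.single_apply, if_neg]
        intro e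
        simp only [Sigma.mk.inj_iff] at e
        obtain ⟨rfl, e⟩ := e
        simp only [heq_eq_eq, Fin.ext_iff] at e
        omega
      · simp
    exact LinearMap.congr_fun key x

/-- The coordinate at the start of a chain. -/
noncomputable def coeff (p : κ) : V →ₗ[K] K := C.b.coord ⟨p, ⟨0, hpos p⟩⟩

theorem coeff_top [DecidableEq κ] (p k : κ) :
    coeff C hpos p (top C hpos k) = if p = k then 1 else 0 := by
  rw [coeff, top, Basis.coord_apply, Basis.repr_self, Finsupp.single_apply]
  by_cases h : p = k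
  · subst h; simp
  · rw [if_neg h, if_neg fun e => h (Sigma.mk.inj_iff.1 e).1.symm]

theorem coeff_N [Fintype κ] (p : κ) {h : ℕ} (hh : 0 < h) (x : V) :
    coeff C hpos p ((N ^ h) x) = 0 := by
  rw [coeff, Basis.coord_apply, repr_pow, dif_neg (by simp; omega)]

theorem coeff_of_pow [Fintype κ] {p : κ} {h : ℕ} (hp : h < μ p) {x : V} (hx : (N ^ h) x = 0) :
    coeff C hpos p x = 0 := by
  have := repr_pow C p h ⟨h, hp⟩ x
  rw [dif_pos le_rfl, hx, map_zero, Finsupp.zero_apply] at this
  rw [coeff, Basis.coord_apply]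
  convert this.symm using 3
  simp

/-- An element of the commutant from the images of the chain starts. -/
noncomputable def ofTops [Fintype κ] (y : κ → V) (hy : ∀ k, (N ^ μ k) (y k) = 0) : comm N :=
  ⟨C.b.constr K fun p => (N ^ (p.2 : ℕ)) (y p.1), mem_comm.2 fun x => by
    suffices key : (C.b.constr K fun p => (N ^ (p.2 : ℕ)) (y p.1)) ∘ₗ N =
        N ∘ₗ (C.b.constr K fun p => (N ^ (p.2 : ℕ)) (y p.1)) from LinearMap.congr_fun key x
    refine C.b.ext fun p => ?_
    obtain ⟨i, j⟩ := p
    rw [LinearMap.comp_apply, LinearMap.comp_apply, C.shift, Basis.constr_basis,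
      ← End.mul_apply, ← pow_succ']
    by_cases h : (j : ℕ) + 1 < μ i
    · rw [dif_pos h, Basis.constr_basis]
    · rw [dif_neg h, map_zero, show (j : ℕ) + 1 = μ i by omega, hy]⟩

theorem ofTops_top [Fintype κ] (y : κ → V) (hy : ∀ k, (N ^ μ k) (y k) = 0) (k : κ) :
    (ofTops C y hy : End K V) (top C hpos k) = y k := by
  rw [ofTops, top]
  exact (Basis.constr_basis _ _ _ _).trans (by simp)

theorem pow_image_top (a : comm N) (k : κ) : (N ^ μ k) ((a : End K V) (top C hpos k)) = 0 := by
  rw [← comm_pow, pow_top_eq_zero C hpos le_rfl, map_zero]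

theorem comm_ext [Fintype κ] {a a' : comm N}
    (h : ∀ k, (a : End K V) (top C hpos k) = (a' : End K V) (top C hpos k)) : a = a' := by
  refine Subtype.ext (C.b.ext fun p => ?_)
  rw [b_eq C hpos, comm_pow, comm_pow, h]

/-- The commutant is the product of the kernels of the powers of `N`. -/
noncomputable def commEquiv [Fintype κ] : comm N ≃ ((k : κ) → LinearMap.ker (N ^ μ k)) where
  toFun a k := ⟨(a : End K V) (top C hpos k), pow_image_top C hpos a k⟩
  invFun y := ofTops C (fun k => y k) fun k => (y k).2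
  left_inv a := comm_ext C hpos fun k => ofTops_top C hpos _ _ k
  right_inv y := funext fun k => Subtype.ext (ofTops_top C hpos _ _ k)

variable [Fintype κ] [DecidableEq κ]

include C in
theorem finrank_ker_pow (h : ℕ) :
    finrank K (LinearMap.ker (N ^ h)) = ∑ k, min h (μ k) := by
  have : Module.Finite K V := Module.Finite.of_basis C.b
  have h1 := LinearMap.finrank_range_add_finrank_ker (N ^ h)
  rw [C.finrank_range_pow, finrank_eq_card_basis C.b, Fintype.card_sigma] at h1
  simp only [Fintype.card_fin] at h1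
  have h2 : ∑ k, min h (μ k) + ∑ k, (μ k - h) = ∑ k, μ k := by
    rw [← Finset.sum_add_distrib]
    exact Finset.sum_congr rfl fun k _ => by omega
  omega

include C hpos in
theorem card_comm_eq [Finite K] :
    Nat.card (comm N) = Nat.card K ^ (∑ k, ∑ l, min (μ k) (μ l)) := by
  have : Module.Finite K V := Module.Finite.of_basis C.b
  rw [Nat.card_congr (commEquiv C hpos), Nat.card_pi, ← Finset.prod_pow_eq_pow_sum]
  exact Finset.prod_congr rfl fun k _ => by
    rw [natCard_eq_pow_finrank (K := K), finrank_ker_pow C]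

/-- A bound for the chain lengths. -/
def bd (μ : κ → ℕ) : ℕ := Finset.univ.sup μ + 1

omit [DecidableEq κ] in
theorem lt_bd (k : κ) : μ k < bd μ :=
  Nat.lt_succ_of_le (Finset.le_sup (f := μ) (Finset.mem_univ k))

/-- The chains of length `i`. -/
abbrev Blk (μ : κ → ℕ) (i : Fin (bd μ)) : Type := {k : κ // μ k = i}

/-- The products of the matrix rings of the blocks. -/
abbrev Blocks (K : Type u) [Field K] (μ : κ → ℕ) : Type u :=
  (i : Fin (bd μ)) → Matrix (Blk μ i) (Blk μ i) K

theorem coeff_comp (a b : comm N) (p l : κ) (hpl : μ p = μ l) :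
    coeff C hpos p ((a : End K V) ((b : End K V) (top C hpos l))) =
      ∑ q ∈ Finset.univ.filter (fun q => μ q = μ l),
        coeff C hpos p ((a : End K V) (top C hpos q)) * coeff C hpos q ((b : End K V) (top C hpos l)) := by
  conv_lhs => rw [← C.b.sum_repr ((b : End K V) (top C hpos l))]
  rw [map_sum, map_sum, Fintype.sum_sigma, Finset.sum_filter]
  refine Finset.sum_congr rfl fun q _ => ?_
  rw [Finset.sum_eq_single ⟨0, hpos q⟩]
  · rw [map_smul, map_smul, smul_eq_mul, mul_comm]
    show coeff C hpos p ((a : End K V) (top C hpos q)) * coeff C hpos q _ = _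
    split_ifs with hq
    · rfl
    · rcases lt_or_gt_of_ne hq with h | h
      · rw [coeff_of_pow C hpos (h := μ q) (by omega) (pow_image_top C hpos a q), zero_mul]
      · rw [coeff_of_pow C hpos (p := q) h (pow_image_top C hpos b l), mul_zero]
  · intro j _ hj
    rw [map_smul, map_smul, b_eq C hpos ⟨q, j⟩, comm_pow, coeff_N C hpos p
      (Nat.pos_of_ne_zero fun e => hj (Fin.ext e)), smul_zero]
  · exact fun h => absurd (Finset.mem_univ _) h

/-- The action on the blocks. -/
noncomputable def proj : comm N →+* Blocks K μ where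
  toFun a i := Matrix.of fun p l => coeff C hpos p.1 ((a : End K V) (top C hpos l.1))
  map_one' := by
    funext i; ext p l
    simp [coeff_top, Matrix.one_apply, Subtype.ext_iff]
  map_mul' a b := by
    funext i; ext p l
    show coeff C hpos p.1 ((a : End K V) ((b : End K V) (top C hpos l.1))) = _
    rw [coeff_comp C hpos a b p.1 l.1 (p.2.trans l.2.symm), Pi.mul_apply, Matrix.mul_apply,
      l.2]
    exact Finset.sum_subtype _ (fun q => by simp)
      fun q => coeff C hpos p.1 ((a : End K V) (top C hpos q)) *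
        coeff C hpos q ((b : End K V) (top C hpos l.1))
  map_zero' := by funext i; ext p l; simp
  map_add' a b := by funext i; ext p l; simp

theorem proj_apply (a : comm N) (i : Fin (bd μ)) (p l : Blk μ i) :
    proj C hpos a i p l = coeff C hpos p.1 ((a : End K V) (top C hpos l.1)) := rfl

theorem proj_surjective : Function.Surjective (proj C hpos) := by
  intro M
  let y : κ → V := fun k => ∑ p, (if h : μ p = μ k then
    M ⟨μ k, lt_bd k⟩ ⟨p, h⟩ ⟨k, rfl⟩ else 0) • top C hpos p
  have hy : ∀ k, (N ^ μ k) (y k) = 0 := fun k => by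
    simp only [y, map_sum, map_smul]
    refine Finset.sum_eq_zero fun p _ => ?_
    by_cases h : μ p = μ k
    · rw [pow_top_eq_zero C hpos h.le, smul_zero]
    · rw [dif_neg h, zero_smul]
  refine ⟨ofTops C y hy, ?_⟩
  funext i; ext p l
  rw [proj_apply, ofTops_top]
  simp only [y, map_sum, map_smul, coeff_top, smul_eq_mul, mul_ite, mul_one, mul_zero,
    Finset.sum_ite_eq, Finset.mem_univ, if_true]
  obtain ⟨i, hi⟩ := i
  obtain ⟨p, hp⟩ := p
  obtain ⟨l, hl⟩ := l
  simp only at hp hl
  subst hl
  rw [dif_pos hp]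

/-- The weight of a basis vector. -/
def wt (μ : κ → ℕ) (q : Σ k, Fin (μ k)) : ℕ := (q.2 : ℕ) * bd μ + (bd μ - 1 - μ q.1)

/-- The vectors of weight at least `m`. -/
noncomputable def level (m : ℕ) : Submodule K V := Submodule.span K (C.b '' {q | m ≤ wt μ q})

theorem level_anti {m m' : ℕ} (h : m ≤ m') : level C m' ≤ level C m :=
  Submodule.span_mono (Set.image_mono fun _ hq => le_trans h hq)

theorem mem_level {q : Σ k, Fin (μ k)} {m : ℕ} (h : m ≤ wt μ q) : C.b q ∈ level C m :=
  Submodule.subset_span ⟨q, h, rfl⟩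

theorem level_top : level C (bd μ * bd μ) = ⊥ := by
  rw [level, Submodule.span_eq_bot]
  rintro _ ⟨q, hq, rfl⟩
  exfalso
  have hlt : wt μ q < bd μ * bd μ := by
    have h1 : (q.2 : ℕ) + 1 < bd μ := lt_of_le_of_lt q.2.isLt (lt_bd q.1)
    have h2 : ((q.2 : ℕ) + 1) * bd μ ≤ bd μ * bd μ := Nat.mul_le_mul_right _ h1.le
    rw [add_mul, one_mul] at h2
    have h3 := lt_bd (μ := μ) q.1
    rw [wt]
    omega
  exact absurd hq (not_le.2 hlt)

/-- The elements raising the weight by `k`. -/
noncomputable def filt (k : ℕ) : AddSubgroup (comm N) where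
  carrier := {a | ∀ q, (a : End K V) (C.b q) ∈ level C (wt μ q + k)}
  add_mem' {a b} ha hb q := add_mem (ha q) (hb q)
  zero_mem' q := zero_mem _
  neg_mem' {a} ha q := neg_mem (ha q)

theorem filt_map {a : comm N} {k m : ℕ} (ha : a ∈ filt C k) {x : V} (hx : x ∈ level C m) :
    (a : End K V) x ∈ level C (m + k) := by
  induction hx using Submodule.span_induction with
  | mem y hy =>
    obtain ⟨q, hq, rfl⟩ := hy
    exact level_anti C (Nat.add_le_add_right hq k) (ha q)
  | zero => rw [map_zero]; exact zero_mem _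
  | add x y _ _ hx hy => rw [map_add]; exact add_mem hx hy
  | smul c x _ hx => rw [map_smul]; exact Submodule.smul_mem _ c hx

theorem filt_anti : Antitone (filt C) := fun _ _ h _ ha q =>
  level_anti C (Nat.add_le_add_left h _) (ha q)

theorem filt_mul {a b : comm N} {i j : ℕ} (ha : a ∈ filt C i) (hb : b ∈ filt C j) :
    a * b ∈ filt C (i + j) := fun q => by
  show (a : End K V) ((b : End K V) (C.b q)) ∈ _
  rw [add_comm i j, ← add_assoc]
  exact filt_map C ha (hb q)

theorem filt_top : filt C (bd μ * bd μ) = ⊥ := by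
  rw [eq_bot_iff]
  intro a ha
  refine Subtype.ext (C.b.ext fun q => ?_)
  have h := level_anti C (Nat.le_add_left (bd μ * bd μ) (wt μ q)) (ha q)
  rw [level_top C, Submodule.mem_bot] at h
  exact h

theorem shift_wt {q : Σ k, Fin (μ k)} {m h : ℕ} (hm : m ≤ wt μ q) :
    (N ^ h) (C.b q) ∈ level C (m + h * bd μ) := by
  obtain ⟨i, j⟩ := q
  rw [C.pow_apply]
  split_ifs
  · refine mem_level C ?_
    simp only [wt] at hm ⊢
    rw [add_mul]
    omega
  · exact zero_mem _

theorem pow_level {x : V} {m h : ℕ} (hx : x ∈ level C m) : (N ^ h) x ∈ level C (m + h * bd μ) := by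
  induction hx using Submodule.span_induction with
  | mem y hy => obtain ⟨q, hq, rfl⟩ := hy; exact shift_wt C hq
  | zero => rw [map_zero]; exact zero_mem _
  | add x y _ _ hx hy => rw [map_add]; exact add_mem hx hy
  | smul c x _ hx => rw [map_smul]; exact Submodule.smul_mem _ c hx

theorem image_top_mem (a : comm N) (k : κ) (h : ℕ)
    (hcond : ∀ p, μ p = μ k → 0 < h → coeff C hpos p ((a : End K V) (top C hpos k)) = 0) (hle : h ≤ 1) :
    (a : End K V) (top C hpos k) ∈ level C (bd μ - 1 - μ k + h) := by
  rw [← C.b.sum_repr ((a : End K V) (top C hpos k))]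
  refine Submodule.sum_mem _ fun q _ => ?_
  obtain ⟨p, j⟩ := q
  by_cases hb : bd μ - 1 - μ k + h ≤ wt μ ⟨p, j⟩
  · exact Submodule.smul_mem _ _ (mem_level C hb)
  · have hj : (j : ℕ) = 0 := by
      by_contra hj
      refine hb ?_
      have h2 : bd μ ≤ (j : ℕ) * bd μ := Nat.le_mul_of_pos_left _ (Nat.pos_of_ne_zero hj)
      have h3 := hpos k
      have h4 := lt_bd (μ := μ) k
      simp only [wt]
      omega
    have hj' : j = ⟨0, hpos p⟩ := Fin.ext hj
    subst hj'
    have h4 := lt_bd (μ := μ) k
    have h5 := lt_bd (μ := μ) p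
    simp only [wt, Nat.zero_mul, Nat.zero_add, not_le] at hb
    have : coeff C hpos p ((a : End K V) (top C hpos k)) = 0 := by
      rcases lt_trichotomy (μ k) (μ p) with h1 | h1 | h1
      · exact coeff_of_pow C hpos h1 (pow_image_top C hpos a k)
      · exact hcond p h1.symm (by omega)
      · omega
    rw [coeff, Basis.coord_apply] at this
    rw [this, zero_smul]
    exact zero_mem _

theorem filt_of_tops (a : comm N) (h : ℕ)
    (ha : ∀ k, (a : End K V) (top C hpos k) ∈ level C (bd μ - 1 - μ k + h)) : a ∈ filt C h := fun q => by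
  rw [b_eq C hpos q, comm_pow]
  refine level_anti C (le_of_eq ?_) (pow_level C (ha q.1))
  simp only [wt]; ring

include hpos in
theorem filt_zero : filt C 0 = ⊤ :=
  eq_top_iff.2 fun a _ => filt_of_tops C hpos a 0 fun k =>
    image_top_mem C hpos a k 0 (fun _ _ h => absurd h (lt_irrefl 0)) zero_le_one

theorem proj_eq_zero (a : comm N) : proj C hpos a = 0 ↔ a ∈ filt C 1 := by
  constructor
  · intro h
    refine filt_of_tops C hpos a 1 fun k => image_top_mem C hpos a k 1 (fun p hp _ => ?_) le_rfl
    exact congrFun (congrFun (congrFun h ⟨μ k, lt_bd k⟩) ⟨p, hp⟩) ⟨k, rfl⟩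
  · intro h
    funext i; ext p l
    rw [proj_apply]
    have hm := h ⟨l.1, ⟨0, hpos l.1⟩⟩
    show C.b.repr _ _ = (0 : K)
    exact Finsupp.notMem_support_iff.1 fun hc => by
      have h2 := C.b.mem_span_image.1 hm hc
      simp only [wt, Set.mem_ofPred_eq, p.2, l.2] at h2
      omega

include C hpos in
/-- The invertible elements of the commutant. -/
theorem card_units [Finite K] :
    Nat.card (comm N)ˣ = Nat.card (filt C 1) * Nat.card (Blocks K μ)ˣ := by
  have : Module.Finite K V := Module.Finite.of_basis C.b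
  have : Finite V := Module.finite_of_finite K
  have : Finite (End K V) := Finite.of_injective _ DFunLike.coe_injective
  have hnil : ∀ a ∈ filt C 1, IsNilpotent a := fun a ha => ⟨bd μ * bd μ, by
    have key : ∀ n, a ^ n ∈ filt C n := fun n => by
      induction n with
      | zero => rw [filt_zero C hpos]; exact AddSubgroup.mem_top _
      | succ n ih => rw [pow_succ]; exact filt_mul C ih ha
    simpa [filt_top C] using key (bd μ * bd μ)⟩
  have hlift : ∀ g : (Blocks K μ)ˣ, ∃ a : (comm N)ˣ, proj C hpos a = g := fun g => by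
    obtain ⟨a, ha⟩ := proj_surjective C hpos (g : Blocks K μ)
    obtain ⟨b, hb⟩ := proj_surjective C hpos ((g⁻¹ : (Blocks K μ)ˣ) : Blocks K μ)
    have h1 : IsUnit (a * b) := by
      have := (hnil _ ((proj_eq_zero C hpos (a * b - 1)).1
        (by rw [map_sub, map_mul, ha, hb, Units.mul_inv, map_one, sub_self]))).isUnit_one_add
      rwa [add_sub_cancel] at this
    obtain ⟨c, hc⟩ := h1
    exact ⟨⟨a, b * ((c⁻¹ : (comm N)ˣ) : comm N), by rw [← mul_assoc, ← hc, c.mul_inv],
      mul_eq_one_comm.1 (by rw [← mul_assoc, ← hc, c.mul_inv])⟩, ha⟩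
  choose L hL using hlift
  rw [← Nat.card_prod]
  refine Nat.card_congr
    { toFun := fun a => (⟨((L (Units.map (proj C hpos).toMonoidHom a))⁻¹ * a : (comm N)ˣ) - 1, ?_⟩,
        Units.map (proj C hpos).toMonoidHom a)
      invFun := fun p => L p.2 * ((hnil _ p.1.2).isUnit_one_add).unit
      left_inv := fun a => Units.ext ?_
      right_inv := fun p => ?_ }
  · refine (proj_eq_zero C hpos _).1 ?_
    rw [map_sub, map_one, Units.val_mul, map_mul, sub_eq_zero]
    show proj C hpos _ * proj C hpos a = 1
    rw [show proj C hpos ((L (Units.map (proj C hpos).toMonoidHom a))⁻¹ : (comm N)ˣ) =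
      ((Units.map (proj C hpos).toMonoidHom (L (Units.map (proj C hpos).toMonoidHom a)))⁻¹ :
        (Blocks K μ)ˣ) from rfl,
      show Units.map (proj C hpos).toMonoidHom (L (Units.map (proj C hpos).toMonoidHom a)) =
        Units.map (proj C hpos).toMonoidHom a from Units.ext (hL _)]
    exact Units.inv_mul _
  · rw [Units.val_mul, IsUnit.unit_spec, add_sub_cancel, Units.val_mul, ← mul_assoc, Units.mul_inv,
      one_mul]
  · obtain ⟨⟨x, hx⟩, g⟩ := p
    have hg : Units.map (proj C hpos).toMonoidHom (L g * ((hnil _ hx).isUnit_one_add).unit) = g :=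
      Units.ext (by
        show proj C hpos ((L g : comm N) * ((hnil _ hx).isUnit_one_add).unit) = g
        rw [map_mul, hL, IsUnit.unit_spec, map_add, map_one, (proj_eq_zero C hpos x).2 hx, add_zero,
          mul_one])
    refine Prod.ext (Subtype.ext ?_) hg
    show ((((L (Units.map (proj C hpos).toMonoidHom _))⁻¹ * _ : (comm N)ˣ) : comm N) - 1 = x)
    rw [hg, inv_mul_cancel_left, IsUnit.unit_spec, add_sub_cancel_left]

theorem card_blocks [Finite K] :
    Nat.card (Blocks K μ) = Nat.card K ^ (∑ i : Fin (bd μ), Fintype.card (Blk μ i) ^ 2) := by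
  rw [Nat.card_pi, ← Finset.prod_pow_eq_pow_sum]
  exact Finset.prod_congr rfl fun i _ => by
    rw [Matrix, Nat.card_fun, Nat.card_fun, Nat.card_eq_fintype_card (α := Blk μ i), sq, pow_mul]

include C hpos in
theorem card_filt [Finite K] :
    Nat.card (filt C 1) * Nat.card (Blocks K μ) = Nat.card (comm N) := by
  have e : Nat.card (comm N) =
      Nat.card (proj C hpos).toAddMonoidHom.ker *
        Nat.card (comm N ⧸ (proj C hpos).toAddMonoidHom.ker) := by
    rw [mul_comm]; exact AddSubgroup.card_eq_card_quotient_mul_card_addSubgroup _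
  rw [e]
  congr 1
  · exact Nat.card_congr (Equiv.subtypeEquivRight fun a => (proj_eq_zero C hpos a).symm)
  · exact Nat.card_congr (QuotientAddGroup.quotientKerEquivOfSurjective _
      (proj_surjective C hpos)).toEquiv.symm

end CfsgLib.UnipForm
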