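import Cfsg.Agent.Lib.UnipForm.Isometry
import Cfsg.Agent.Lib.Classical.SympCount
import Cfsg.Agent.Lib.Classical.DiscClass

/-!
Unipotent isometries with equal chain lengths are conjugate when the forms on the blocks are congruent;
congruence of alternating and of symmetric matrices.
-/

set_option autoImplicit false

namespace CfsgLib.UnipForm

open Module Matrix
open CfsgLib.NilClasses (Chains)

universe u v

section forms

variable {K : Type u} [Field K]

/-- Alternating non-degenerate matrices of one size are congruent. -/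
theorem exists_congr_alt {β : Type} [Fintype β] [DecidableEq β] (H H' : Matrix β β K)
    (h : SympCount.Symp (Matrix.toBilin' H)) (h' : SympCount.Symp (Matrix.toBilin' H')) :
    ∃ M : Matrix β β K, Mᵀ * H * M = H' := by
  obtain ⟨e, he⟩ := SympCount.exists_isometry h h' rfl
  refine ⟨LinearMap.toMatrix' e.toLinearMap, Matrix.toBilin'.injective ?_⟩
  rw [← Matrix.toBilin'_comp, Matrix.toLin'_toMatrix']
  exact LinearMap.ext₂ fun x y => he x y

/-- Symmetric non-degenerate matrices with determinants in one square class are congruent. -/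
theorem exists_congr_sym [Finite K] (h2 : (2 : K) ≠ 0) {β : Type} [Fintype β] [DecidableEq β]
    (H H' : Matrix β β K) (hs : ∀ k l, H l k = H k l) (hs' : ∀ k l, H' l k = H' k l) (hd : H.det ≠ 0)
    (hd' : H'.det ≠ 0) (hsq : IsSquare (H.det * H'.det)) :
    ∃ M : Matrix β β K, Mᵀ * H * M = H' := by
  set n := Fintype.card β
  let e := Fintype.equivFin β
  let H₁ : Matrix (Fin n) (Fin n) K := H.submatrix e.symm e.symm
  let H₂ : Matrix (Fin n) (Fin n) K := H'.submatrix e.symm e.symm
  let Q : Matrix (Fin n) (Fin n) K → QuadraticForm K (Fin n → K) := fun A =>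
    LinearMap.BilinMap.toQuadraticMap (Matrix.toBilin' A)
  have hpol : ∀ A : Matrix (Fin n) (Fin n) K, (∀ k l, A l k = A k l) →
      LinearMap.toMatrix₂' K (QuadraticMap.polarBilin (Q A)) = (2 : K) • A := fun A hA => by
    ext i j
    rw [LinearMap.toMatrix₂'_apply, QuadraticMap.polarBilin_apply_apply,
      LinearMap.BilinMap.polar_toQuadraticMap, Matrix.toBilin'_single, Matrix.toBilin'_single, hA i j,
      Matrix.smul_apply, smul_eq_mul, two_mul]
  have hnd : ∀ A : Matrix (Fin n) (Fin n) K, (∀ k l, A l k = A k l) → A.det ≠ 0 →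
      (QuadraticMap.polarBilin (Q A)).Nondegenerate := fun A hA hA0 => by
    rw [LinearMap.nondegenerate_iff_det_ne_zero (Pi.basisFun K (Fin n))]
    rw [show LinearMap.toMatrix₂ (Pi.basisFun K (Fin n)) (Pi.basisFun K (Fin n)) (QuadraticMap.polarBilin (Q A)) =
      (2 : K) • A from Eq.trans (by ext i j; rw [LinearMap.toMatrix₂_apply, LinearMap.toMatrix₂'_apply,
        Pi.basisFun_apply, Pi.basisFun_apply]) (hpol A hA), det_smul]
    exact mul_ne_zero (pow_ne_zero _ h2) hA0
  have hs₁ : ∀ k l, H₁ l k = H₁ k l := fun k l => hs _ _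
  have hs₂ : ∀ k l, H₂ l k = H₂ k l := fun k l => hs' _ _
  have hd₁ : H₁.det = H.det := det_submatrix_equiv_self _ _
  have hd₂ : H₂.det = H'.det := det_submatrix_equiv_self _ _
  obtain ⟨g, hg⟩ := (Classical.DiscClass.exists_isometry_iff h2 (Q H₂) (Q H₁) (hnd _ hs₂ (hd₂ ▸ hd'))
    (hnd _ hs₁ (hd₁ ▸ hd))).2 (by
      rw [hpol _ hs₁, hpol _ hs₂, det_smul, det_smul, hd₁, hd₂]
      obtain ⟨r, hr⟩ := hsq
      exact ⟨2 ^ Fintype.card (Fin n) * r, by linear_combination (2 : K) ^ Fintype.card (Fin n) * 2 ^ Fintype.card (Fin n) * hr⟩)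
  set M := LinearMap.toMatrix' g.toLinearMap
  have hM : Mᵀ * ((2 : K) • H₁) * M = (2 : K) • H₂ := by
    rw [← hpol _ hs₁, ← hpol _ hs₂, ← LinearMap.toMatrix₂'_compl₁₂]
    refine congrArg _ (LinearMap.ext₂ fun x y => ?_)
    rw [LinearMap.compl₁₂_apply, QuadraticMap.polarBilin_apply_apply, QuadraticMap.polarBilin_apply_apply]
    simp only [QuadraticMap.polar, LinearEquiv.coe_coe, ← map_add, hg]
  rw [Matrix.mul_smul, Matrix.smul_mul] at hM
  refine ⟨M.submatrix e e, ?_⟩
  have h1 := congrArg (fun A : Matrix (Fin n) (Fin n) K => A.submatrix e e)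
    (smul_right_injective _ h2 hM)
  simp only [submatrix_submatrix, Equiv.symm_comp_self, submatrix_id_id, H₂] at h1
  rw [← h1, transpose_submatrix, ← submatrix_mul_equiv (Mᵀ * H₁) M e e e, ← submatrix_mul_equiv Mᵀ H₁ e e e]
  simp [H₁]

end forms

variable {K : Type u} [Field K] [Finite K] {ε : K} {V : Type v} [AddCommGroup V] [Module K V]
  [FiniteDimensional K V] {B : V → V → K} {N : V →ₗ[K] V} {w : comm N} {κ : Type} [Fintype κ]
  [DecidableEq κ] {μ : κ → ℕ} (C : Chains N μ) (hpos : ∀ i, 0 < μ i)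

/-- The form on a block through an element of the commutant. -/
theorem gram_mul_proj {σ : K →+* K} (hB : Form σ ε B) (hw : Compat B N w) (a : comm N) (i : Fin (bd μ))
    (k l : Blk μ i) :
    B (soc C hpos k.1) ((a : End K V) (top C hpos l.1)) = (gram C hpos B i * proj C hpos a i) k l := by
  rw [Matrix.mul_apply]
  conv_lhs => rw [← C.b.sum_repr ((a : End K V) (top C hpos l.1)), hB.sum_right, Fintype.sum_sigma]
  refine Eq.trans ?_ (Finset.sum_subtype (Finset.univ.filter fun p => μ p = (i : ℕ)) (fun p => by simp)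
    fun p => B (soc C hpos k.1) (top C hpos p) * coeff C hpos p ((a : End K V) (top C hpos l.1)))
  rw [Finset.sum_filter]
  refine Finset.sum_congr rfl fun p _ => ?_
  rw [Finset.sum_eq_single ⟨0, hpos p⟩]
  · rw [hB.smul_right, mul_comm]
    show B _ (top C hpos p) * coeff C hpos p _ = _
    split_ifs with hp
    · rfl
    · rcases lt_or_gt_of_ne hp with h | h
      · rw [soc, pow_top_orth hB hw C hpos _ (by rw [k.2]; omega), zero_mul]
      · rw [coeff_of_pow C hpos (h := μ l.1) (by rw [l.2]; omega) (pow_image_top C hpos a l.1), mul_zero]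
  · intro j _ hj
    rw [hB.smul_right, b_eq C hpos ⟨p, j⟩,
      soc_N hB hw C hpos _ (Nat.pos_of_ne_zero fun e => hj (Fin.ext e)), mul_zero]
  · exact fun h => absurd (Finset.mem_univ _) h

include C hpos in
/-- Two chain bases of one map carry congruent forms. -/
theorem exists_gram_congr (hB : Form (RingHom.id K) ε B) (hw : Compat B N w) (C' : Chains N μ)
    (i : Fin (bd μ)) :
    ∃ M : Matrix (Blk μ i) (Blk μ i) K, Mᵀ * gram C hpos B i * M = gram C' hpos B i := by
  obtain ⟨a, ha⟩ : ∃ a : comm N, ∀ k, (a : End K V) (top C hpos k) = top C' hpos k :=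
    ⟨ofTops C (fun k => top C' hpos k) fun k => pow_top_eq_zero C' hpos le_rfl,
      fun k => ofTops_top C hpos _ _ k⟩
  refine ⟨proj C hpos a i, Matrix.ext fun k l => ?_⟩
  have hr := proj_star_rel hB hw C hpos (star' hB hw a) i
  rw [(star_anti hB hw).invol] at hr
  have hmap : (proj C hpos a i).map (RingHom.id K) = proj C hpos a i := by ext; simp
  rw [hmap] at hr
  rw [← hr, Matrix.mul_assoc, ← Pi.mul_apply, ← map_mul, ← gram_mul_proj C hpos hB hw, Subring.coe_mul,
    End.mul_apply, ← star_spec hB hw (star' hB hw a), (star_anti hB hw).invol]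
  show _ = B (soc C' hpos k.1) (top C' hpos l.1)
  rw [soc, soc, comm_pow, ha, ha]

include C hpos in
/-- Congruent forms on the blocks give an isometry intertwining the nilpotent maps. -/
theorem exists_isometry_of_congr (hB : Form (RingHom.id K) ε B) (hw : Compat B N w) {N' : V →ₗ[K] V}
    {w' : comm N'} (hw' : Compat B N' w')
    (hcompat : ∀ T : V ≃ₗ[K] V, (∀ x, T (N x) = N' (T x)) →
      ∀ x, T ((w : End K V) x) = (w' : End K V) (T x))
    (h2 : (2 : K) ≠ 0) (C' : Chains N' μ)
    (h : ∀ i, ∃ M : Matrix (Blk μ i) (Blk μ i) K, Mᵀ * gram C hpos B i * M = gram C' hpos B i) :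
    ∃ L : V ≃ₗ[K] V, (∀ x y, B (L x) (L y) = B x y) ∧ ∀ x, L (N x) = N' (L x) := by
  choose M hM using h
  let T := C.b.equiv C'.b (Equiv.refl _)
  have hTb : ∀ p, T (C.b p) = C'.b p := fun p => Basis.equiv_apply _ _ _ _
  have hT : ∀ x, T (N x) = N' (T x) := LinearMap.congr_fun (f := T.toLinearMap ∘ₗ N) (g := N' ∘ₗ T.toLinearMap)
    (C.b.ext fun p => by
      rw [LinearMap.comp_apply, LinearMap.comp_apply, C.shift p.1 p.2]
      simp only [LinearEquiv.coe_coe, hTb, C'.shift p.1 p.2]
      split_ifs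
      · rw [hTb]
      · rw [map_zero])
  let h0 : End K V := hB.adj T.toLinearMap * T.toLinearMap
  have hh0 : ∀ x y, B (h0 x) y = B (T x) (T y) := fun x y => hB.adj_spec _ _ _
  let h : comm N := ⟨h0, mem_comm.2 fun x => hB.left_cancel fun y => by
    rw [hh0, hT, hw'.adj, hw.adj, hh0, hcompat T hT, hT]⟩
  set s := star' hB hw
  have hs := star_anti hB hw
  have hsh : s h = h := Subtype.ext (LinearMap.ext fun x => hB.left_cancel fun y => by
    rw [star_spec hB hw, hB.swap (h0 y) x, hh0, RingHom.id_apply, show (h : End K V) x = h0 x from rfl,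
      hh0, hB.swap (T y) (T x), RingHom.id_apply])
  have hz : (1 / 2 : K) + RingHom.id K (1 / 2) = 1 := by rw [RingHom.id_apply]; field_simp; norm_num
  have hgram : ∀ i, gram C' hpos B i = gram C hpos B i * proj C hpos h i := fun i => by
    ext k l
    rw [← gram_mul_proj C hpos hB hw, ← star_spec hB hw, hsh]
    show B (soc C' hpos k.1) (top C' hpos l.1) = B (h0 (soc C hpos k.1)) (top C hpos l.1)
    rw [hh0]
    have htop : ∀ k, T (top C hpos k) = top C' hpos k := fun k => hTb _
    have hsoc : T (soc C hpos k.1) = soc C' hpos k.1 := by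
      rw [soc, soc, ← b_eq C hpos ⟨k.1, ⟨μ k.1 - 1, Nat.sub_one_lt (hpos k.1).ne'⟩⟩, hTb, b_eq C' hpos]
    rw [hsoc, htop]
  have hMu : ∀ i, IsUnit (M i) := fun i => by
    rw [Matrix.isUnit_iff_isUnit_det, isUnit_iff_ne_zero]
    intro h0'
    have := gram_det_ne_zero hB hw' C' hpos i
    rw [← hM i, det_mul, h0', mul_zero] at this
    exact this rfl
  choose g' hg' using hMu
  let gg : (Blocks K μ)ˣ := ⟨fun i => g' i, fun i => ((g' i)⁻¹ : (Matrix (Blk μ i) (Blk μ i) K)ˣ),
    funext fun i => (g' i).mul_inv, funext fun i => (g' i).inv_mul⟩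
  have hnorm : blockStar C hpos B (RingHom.id K) gg.val * gg.val = proj C hpos h := by
    funext i
    show (gram C hpos B i)⁻¹ * ((g' i : Matrix (Blk μ i) (Blk μ i) K).map (RingHom.id K))ᵀ *
      gram C hpos B i * (g' i : Matrix (Blk μ i) (Blk μ i) K) = _
    rw [show ((g' i : Matrix (Blk μ i) (Blk μ i) K).map (RingHom.id K)) = M i by rw [hg']; ext; simp, hg',
      Matrix.mul_assoc, Matrix.mul_assoc, ← Matrix.mul_assoc (M i)ᵀ, hM, hgram, ← Matrix.mul_assoc,
      Matrix.nonsing_inv_mul _ (isUnit_iff_ne_zero.2 (gram_det_ne_zero hB hw C hpos i)), Matrix.one_mul]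
  obtain ⟨a, -, ha⟩ := exists_norm hs (star_good hB hw C hpos hz) (proj C hpos)
    (proj_surjective C hpos) (proj_eq_zero C hpos) (proj_star hB hw C hpos) hsh gg hnorm
  set ai : End K V := (((a⁻¹ : (comm N)ˣ) : comm N) : End K V)
  have hai : ∀ x, ((a : comm N) : End K V) (ai x) = x := fun x => by
    rw [← End.mul_apply, ← Subring.coe_mul, Units.mul_inv]; rfl
  have hia : ∀ x, ai (((a : comm N) : End K V) x) = x := fun x => by
    rw [← End.mul_apply, ← Subring.coe_mul, Units.inv_mul]; rfl
  refine ⟨(LinearEquiv.ofLinear ai ((a : comm N) : End K V) (LinearMap.ext hia) (LinearMap.ext hai) :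
    V ≃ₗ[K] V).trans T, fun x y => ?_, fun x => ?_⟩
  · show B (T (ai x)) (T (ai y)) = B x y
    rw [← hh0, show h0 (ai x) = (h : End K V) (ai x) from rfl, ← ha, Subring.coe_mul, End.mul_apply,
      star_spec hB hw, hai, hai]
  · show T (ai (N x)) = N' (T (ai x))
    rw [← hT, comm_apply ((a⁻¹ : (comm N)ˣ) : comm N)]

end CfsgLib.UnipForm
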