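import Cfsg.Agent.Lib.UnipForm.Commutant
import Cfsg.Prelude.Def_JordanBlocks

/-!
The order of the centraliser of a unipotent matrix in the general linear group.
-/

set_option autoImplicit false

namespace CfsgLib.UnipForm

open Module
open CfsgLib.NilClasses (Chains)

universe u v

variable {K : Type u} [Field K]

/-- The number of chains of length `i`. -/
abbrev mult {κ : Type} [Fintype κ] (μ : κ → ℕ) (i : ℕ) : ℕ :=
  (Finset.univ.filter fun k => μ k = i).card

theorem card_blk {κ : Type} [Fintype κ] [DecidableEq κ] (μ : κ → ℕ) (i : Fin (bd μ)) :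
    Fintype.card (Blk μ i) = mult μ (i : ℕ) := Fintype.card_subtype _

/-- The exponent of the order of the kernel. -/
def kerExp {κ : Type} [Fintype κ] (μ : κ → ℕ) : ℕ :=
  2 * (∑ i ∈ Finset.range (bd μ), ∑ j ∈ Finset.range (bd μ),
    if i < j then i * mult μ i * mult μ j else 0) + ∑ i ∈ Finset.range (bd μ), (i - 1) * mult μ i ^ 2

theorem min_split {κ : Type} [Fintype κ] [DecidableEq κ] (μ : κ → ℕ) (hpos : ∀ i, 0 < μ i) :
    ∑ k, ∑ l, min (μ k) (μ l) = kerExp μ + ∑ i : Fin (bd μ), Fintype.card (Blk μ i) ^ 2 := by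
  have hf : ∀ g : ℕ → ℕ, ∑ k, g (μ k) = ∑ i ∈ Finset.range (bd μ), mult μ i * g i := fun g => by
    rw [← Finset.sum_fiberwise_of_maps_to (g := μ) (t := Finset.range (bd μ))
      (fun k _ => Finset.mem_range.2 (lt_bd k))]
    exact Finset.sum_congr rfl fun i _ => Finset.sum_const_nat fun k hk => by
      rw [(Finset.mem_filter.1 hk).2]
  have h0 : mult μ 0 = 0 := Finset.card_eq_zero.2 (Finset.filter_eq_empty_iff.2 fun k _ => (hpos k).ne')
  have hblk : ∑ i : Fin (bd μ), Fintype.card (Blk μ i) ^ 2 = ∑ i ∈ Finset.range (bd μ), mult μ i ^ 2 := by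
    rw [← Fin.sum_univ_eq_sum_range (fun i => mult μ i ^ 2)]
    exact Finset.sum_congr rfl fun i _ => by rw [card_blk]
  have h1 : ∑ k, ∑ l, min (μ k) (μ l) = ∑ i ∈ Finset.range (bd μ), ∑ j ∈ Finset.range (bd μ),
      mult μ i * (mult μ j * min i j) := by
    rw [hf fun a => ∑ l, min a (μ l)]
    exact Finset.sum_congr rfl fun i _ => by rw [hf fun b => min i b, Finset.mul_sum]
  set L := ∑ i ∈ Finset.range (bd μ), ∑ j ∈ Finset.range (bd μ),
    if i < j then i * mult μ i * mult μ j else 0 with hL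
  have h2 : ∀ i j, mult μ i * (mult μ j * min i j) =
      ((if i < j then i * mult μ i * mult μ j else 0) + (if j < i then j * mult μ j * mult μ i else 0)) +
        (if i = j then i * mult μ i ^ 2 else 0) := fun i j => by
    rcases lt_trichotomy i j with h | h | h
    · rw [if_pos h, if_neg h.not_gt, if_neg h.ne, min_eq_left h.le]; ring
    · subst h; simp only [lt_irrefl, if_false, if_true, min_self]; ring
    · rw [if_neg h.not_gt, if_pos h, if_neg h.ne', min_eq_right h.le]; ring
  have hR : ∑ i ∈ Finset.range (bd μ), (i - 1) * mult μ i ^ 2 + ∑ i ∈ Finset.range (bd μ), mult μ i ^ 2 =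
      ∑ i ∈ Finset.range (bd μ), ∑ j ∈ Finset.range (bd μ), if i = j then i * mult μ i ^ 2 else 0 := by
    rw [← Finset.sum_add_distrib]
    refine Finset.sum_congr rfl fun i hi => ?_
    rw [Finset.sum_ite_eq, if_pos hi]
    rcases i with _ | i
    · simp [h0]
    · rw [Nat.add_sub_cancel]; ring
  have hT : ∑ i ∈ Finset.range (bd μ), ∑ j ∈ Finset.range (bd μ),
      (if j < i then j * mult μ j * mult μ i else 0) = L := by rw [Finset.sum_comm]
  rw [h1]
  simp only [h2, Finset.sum_add_distrib, hT, ← hL]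
  rw [kerExp, ← hL, hblk, ← hR]
  ring

variable {V : Type v} [AddCommGroup V] [Module K V] {N : V →ₗ[K] V} {κ : Type} [Fintype κ]
  [DecidableEq κ] {μ : κ → ℕ}

theorem card_filt_eq [Finite K] (C : Chains N μ) (hpos : ∀ i, 0 < μ i) :
    Nat.card (filt C 1) = Nat.card K ^ kerExp μ := by
  have h := card_filt C hpos
  rw [card_comm_eq C hpos, min_split μ hpos, pow_add, card_blocks] at h
  exact mul_right_cancel₀ (pow_ne_zero _ Nat.card_pos.ne') h

omit [DecidableEq κ] in
theorem card_gl (ι : Type) [Fintype ι] [DecidableEq ι] [Fintype K] :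
    Nat.card (Matrix ι ι K)ˣ =
      ∏ j : Fin (Fintype.card ι), (Fintype.card K ^ Fintype.card ι - Fintype.card K ^ (j : ℕ)) := by
  rw [← Matrix.card_GL_field (𝔽 := K) (Fintype.card ι)]
  exact Nat.card_congr (Units.mapEquiv
    (Matrix.reindexAlgEquiv K K (Fintype.equivFin ι)).toMulEquiv).toEquiv

theorem card_blocks_units [Fintype K] :
    Nat.card (Blocks K μ)ˣ = ∏ i ∈ Finset.range (bd μ),
      ∏ j : Fin (mult μ i), (Fintype.card K ^ mult μ i - Fintype.card K ^ (j : ℕ)) := by
  rw [Nat.card_congr MulEquiv.piUnits.toEquiv, Nat.card_pi,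
    ← Fin.prod_univ_eq_prod_range (fun i => ∏ j : Fin (mult μ i),
      (Fintype.card K ^ mult μ i - Fintype.card K ^ (j : ℕ)))]
  exact Finset.prod_congr rfl fun i _ => by rw [card_gl, card_blk]

/-- The order of the centraliser in the general linear group. -/
theorem card_units_eq [Fintype K] (C : Chains N μ) (hpos : ∀ i, 0 < μ i) :
    Nat.card (comm N)ˣ = Fintype.card K ^ kerExp μ * ∏ i ∈ Finset.range (bd μ),
      ∏ j : Fin (mult μ i), (Fintype.card K ^ mult μ i - Fintype.card K ^ (j : ℕ)) := by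
  rw [card_units C hpos, card_filt_eq C hpos, card_blocks_units, Nat.card_eq_fintype_card]

/-- The standard chains of the Jordan matrix. -/
noncomputable def stdChains {t : ℕ} (d : Fin t → ℕ) :
    Chains (Matrix.toLin' (Cfsg.jordanTypeMatrix d K - 1)) d where
  b := Pi.basisFun K _
  shift i j := by
    classical
    rw [Pi.basisFun_apply, Matrix.toLin'_apply, Matrix.mulVec_single_one]
    funext r
    obtain ⟨k, l⟩ := r
    rw [Matrix.col_apply, Matrix.sub_apply, Cfsg.jordanTypeMatrix, Matrix.blockDiagonal'_apply,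
      Matrix.one_apply]
    by_cases hk : k = i
    · subst hk
      rw [dif_pos rfl]
      simp only [cast_eq, Cfsg.jordanBlock, Matrix.of_apply, Sigma.mk.inj_iff, heq_eq_eq, true_and,
        Fin.ext_iff]
      by_cases h : (j : ℕ) + 1 < d k
      · rw [dif_pos h, Pi.basisFun_apply, Pi.single_apply]
        simp only [Sigma.mk.inj_iff, heq_eq_eq, true_and, Fin.ext_iff]
        split_ifs <;> (first | omega | simp)
      · rw [dif_neg h, Pi.zero_apply]
        have := l.isLt
        split_ifs <;> (first | omega | simp)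
    · rw [dif_neg hk, if_neg fun e => hk (Sigma.mk.inj_iff.1 e).1, sub_zero]
      split_ifs with h
      · rw [Pi.basisFun_apply, Pi.single_apply, if_neg fun e => hk (Sigma.mk.inj_iff.1 e).1]
      · rfl

/-- Matrices commuting with a unipotent matrix. -/
theorem card_gl_commute {ι : Type} [Fintype ι] [DecidableEq ι] (J : Matrix ι ι K) :
    Nat.card {g : GL ι K // (g : Matrix ι ι K) * J = J * (g : Matrix ι ι K)} =
      Nat.card (comm (Matrix.toLin' (J - 1)))ˣ := by
  have key : ∀ A : Matrix ι ι K,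
      A * J = J * A ↔ Matrix.toLin' A ∈ comm (Matrix.toLin' (J - 1)) := fun A => by
    rw [mem_comm]
    constructor
    · intro h x
      rw [← LinearMap.comp_apply, ← Matrix.toLin'_mul, ← LinearMap.comp_apply, ← Matrix.toLin'_mul,
        mul_sub, sub_mul, one_mul, mul_one, h]
    · intro h
      have h2 : A * (J - 1) = (J - 1) * A := Matrix.toLin'.injective (by
        rw [Matrix.toLin'_mul, Matrix.toLin'_mul]; exact LinearMap.ext h)
      rwa [mul_sub, sub_mul, one_mul, mul_one, sub_left_inj] at h2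
  have hinv : ∀ g : GL ι K, (g : Matrix ι ι K) * J = J * (g : Matrix ι ι K) →
      ((g⁻¹ : GL ι K) : Matrix ι ι K) * J = J * ((g⁻¹ : GL ι K) : Matrix ι ι K) := fun g h => by
    calc ((g⁻¹ : GL ι K) : Matrix ι ι K) * J
        = (g⁻¹ : GL ι K) * (J * (g : Matrix ι ι K)) * (g⁻¹ : GL ι K) := by
          rw [mul_assoc, mul_assoc, Units.mul_inv, mul_one]
      _ = _ := by rw [← h, ← mul_assoc, Units.inv_mul, one_mul]
  refine Nat.card_congr
    { toFun := fun g => ⟨⟨_, (key _).1 g.2⟩, ⟨_, (key _).1 (hinv _ g.2)⟩,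
        Subtype.ext ((Matrix.toLinAlgEquiv'.toMulEquiv.map_mul _ _).symm.trans
          (by rw [Units.mul_inv]; exact Matrix.toLin'_one)),
        Subtype.ext ((Matrix.toLinAlgEquiv'.toMulEquiv.map_mul _ _).symm.trans
          (by rw [Units.inv_mul]; exact Matrix.toLin'_one))⟩
      invFun := fun a => ⟨⟨LinearMap.toMatrix' ((a : comm (Matrix.toLin' (J - 1))) : End K (ι → K)),
        LinearMap.toMatrix' (((a⁻¹ : (comm (Matrix.toLin' (J - 1)))ˣ) : comm (Matrix.toLin' (J - 1))) :
          End K (ι → K)),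
        by rw [← LinearMap.toMatrix'_mul, ← Subring.coe_mul, Units.mul_inv, Subring.coe_one,
          LinearMap.toMatrix'_one],
        by rw [← LinearMap.toMatrix'_mul, ← Subring.coe_mul, Units.inv_mul, Subring.coe_one,
          LinearMap.toMatrix'_one]⟩,
        (key _).2 (by rw [Matrix.toLin'_toMatrix']; exact (a : comm (Matrix.toLin' (J - 1))).2)⟩
      left_inv := fun g => Subtype.ext (Units.ext (LinearMap.toMatrix'_toLin' _))
      right_inv := fun a => Units.ext (Subtype.ext (Matrix.toLin'_toMatrix' _)) }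

end CfsgLib.UnipForm
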