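import Cfsg.Agent.Lib.UnipForm.Isometry

/-!
The unitary elements of the commutant of a single chain of even length, odd characteristic.
-/

set_option autoImplicit false

namespace CfsgLib.UnipForm

open Module
open CfsgLib.NilClasses (Chains)

universe u v

variable {K : Type u} [Field K] {V : Type v} [AddCommGroup V] [Module K V] {N : V →ₗ[K] V}
  {κ : Type} [Fintype κ] [DecidableEq κ] [Unique κ] {μ : κ → ℕ} (C : Chains N μ) (hpos : ∀ i, 0 < μ i)

include C hpos in
/-- The commutant of a single chain is commutative. -/
theorem comm_comm_of_unique (a b : comm N) : a * b = b * a := by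
  refine comm_ext C hpos fun k => ?_
  have key : ∀ a b : comm N, (a : End K V) ((b : End K V) (top C hpos k)) =
      ∑ p, ∑ r, (C.b.repr ((b : End K V) (top C hpos k)) p * C.b.repr ((a : End K V) (top C hpos k)) r) •
        (N ^ ((p.2 : ℕ) + (r.2 : ℕ))) (top C hpos k) := fun a b => by
    conv_lhs => rw [← C.b.sum_repr ((b : End K V) (top C hpos k))]
    rw [map_sum]
    refine Finset.sum_congr rfl fun p _ => ?_
    rw [map_smul, b_eq C hpos p, congrArg (top C hpos) (Subsingleton.elim p.1 k), comm_pow]
    conv_lhs => rw [← C.b.sum_repr ((a : End K V) (top C hpos k))]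
    rw [map_sum, Finset.smul_sum]
    refine Finset.sum_congr rfl fun r _ => ?_
    rw [map_smul, b_eq C hpos r, congrArg (top C hpos) (Subsingleton.elim r.1 k), ← End.mul_apply, ← pow_add, smul_smul]
  show (a : End K V) ((b : End K V) _) = (b : End K V) ((a : End K V) _)
  rw [key, key, Finset.sum_comm]
  exact Finset.sum_congr rfl fun p _ => Finset.sum_congr rfl fun r _ => by
    rw [mul_comm, add_comm]

/-- The eigenvalue of an element of the commutant of a single chain. -/
noncomputable def eig : comm N →+* K where
  toFun a := coeff C hpos default ((a : End K V) (top C hpos default))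
  map_one' := by simp [coeff_top]
  map_mul' a b := by
    show coeff C hpos default ((a : End K V) ((b : End K V) (top C hpos default))) = _
    rw [coeff_comp C hpos a b default default rfl, Finset.filter_true_of_mem fun q _ => by
      rw [Unique.eq_default q], Finset.univ_unique, Finset.sum_singleton]
  map_zero' := by simp
  map_add' a b := by simp

theorem eig_scal (c : K) : eig C hpos (scal N c) = c := by
  show coeff C hpos default (c • top C hpos default) = c
  simp [coeff_top]

theorem eig_nC : eig C hpos (nC N) = 0 := by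
  show coeff C hpos default (N (top C hpos default)) = 0
  simpa using coeff_N C hpos default (h := 1) one_pos (top C hpos default)

theorem mem_filt_one (a : comm N) : a ∈ filt C 1 ↔ eig C hpos a = 0 := by
  rw [← proj_eq_zero C hpos]
  constructor
  · intro h
    exact congrFun (congrFun (congrFun h ⟨μ default, lt_bd default⟩) ⟨default, rfl⟩) ⟨default, rfl⟩
  · intro h
    funext i; ext p l
    rw [proj_apply, Unique.eq_default p.1, Unique.eq_default l.1]
    exact h

/-- An element of the commutant is an eigenvalue and an element of the kernel. -/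
noncomputable def eigEquiv : comm N ≃ K × filt C 1 where
  toFun a := (eig C hpos a, ⟨a - scal N (eig C hpos a), (mem_filt_one C hpos _).2 (by
    rw [map_sub, eig_scal, sub_self])⟩)
  invFun p := scal N p.1 + p.2
  left_inv a := by simp
  right_inv p := by
    have h : eig C hpos (scal N p.1 + p.2) = p.1 := by
      rw [map_add, eig_scal, (mem_filt_one C hpos _).1 p.2.2, add_zero]
    refine Prod.ext h (Subtype.ext ?_)
    show scal N p.1 + (p.2 : comm N) - scal N (eig C hpos (scal N p.1 + p.2)) = _
    rw [h, add_sub_cancel_left]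

variable [Finite K] [FiniteDimensional K V] {ε : K} {B : V → V → K} {w : comm N}

include C hpos in
theorem eig_star (hB : Form (RingHom.id K) ε B) (hw : Compat B N w) (a : comm N) :
    eig C hpos (star' hB hw a) = eig C hpos a := by
  set i : Fin (bd μ) := ⟨μ default, lt_bd default⟩
  let k : Blk μ i := ⟨default, rfl⟩
  have : Subsingleton (Blk μ i) := ⟨fun a b => Subtype.ext (Subsingleton.elim _ _)⟩
  have hd := gram_det_ne_zero hB hw C hpos i
  rw [Matrix.det_eq_elem_of_subsingleton _ k] at hd
  have h := congrFun (congrFun (proj_star_rel hB hw C hpos a i) k) k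
  rw [Matrix.mul_apply, Matrix.mul_apply, Finset.sum_eq_single k
      (fun l _ hl => absurd (Subsingleton.elim l k) hl) (fun hl => absurd (Finset.mem_univ _) hl),
    Finset.sum_eq_single k
      (fun l _ hl => absurd (Subsingleton.elim l k) hl) (fun hl => absurd (Finset.mem_univ _) hl),
    Matrix.transpose_apply, Matrix.map_apply, RingHom.id_apply, mul_comm] at h
  exact (mul_right_cancel₀ hd h).symm

include C hpos in
/-- The centraliser of a regular unipotent isometry. -/
theorem card_uni_cyclic (hB : Form (RingHom.id K) ε B) (hw : Compat B N w) {a₀ : comm N}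
    (ha : w + 1 = nC N * a₀) (h2 : (2 : K) ≠ 0) {m : ℕ} (hm : 0 < m) (hμ : μ default = 2 * m) :
    Nat.card (Uni (star' hB hw)) = 2 * Nat.card K ^ m := by
  have : Finite V := Module.finite_of_finite K
  have : Finite (End K V) := Finite.of_injective _ DFunLike.coe_injective
  set s := star' hB hw
  set p := eig C hpos
  have hs := star_anti hB hw
  have hcomm := comm_comm_of_unique C hpos
  have hz : (1 / 2 : K) + RingHom.id K (1 / 2) = 1 := by rw [RingHom.id_apply]; field_simp; norm_num
  have hG := star_good hB hw C hpos hz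
  have hN : nC N ∈ filt C 1 := (mem_filt_one C hpos _).2 (eig_nC C hpos)
  have hps : ∀ a, p (s a) = p a := eig_star C hpos hB hw
  have hsc : ∀ c : K, s (scal N c) = scal N c := fun c => star_scal hB hw c
  set q := Nat.card K with hq
  have hq1 : 1 < q := Finite.one_lt_card
  -- the annihilator of `N`
  have hpw : ∀ h, s (nC N ^ h) = w ^ h * nC N ^ h := fun h => by
    induction h with
    | zero => rw [pow_zero, pow_zero, one_mul, hs.one]
    | succ h ih => rw [pow_succ, hs.mul, ih, star_nC, pow_succ' w, mul_assoc, ← mul_assoc (nC N),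
        hcomm (nC N) (w ^ h), mul_assoc, mul_assoc, ← pow_succ', ← pow_succ]
  have hN0 : nC N ^ (2 * m) = 0 := comm_ext C hpos fun k => by
    rw [SubmonoidClass.coe_pow]
    exact pow_top_eq_zero C hpos (by rw [Unique.eq_default k, hμ])
  set T := nC N ^ (2 * m - 1)
  have hT : s T = -T := by
    obtain ⟨a, e⟩ := exists_w_pow ha (2 * m - 1)
    rw [hpw, e, add_mul, hcomm (nC N) a, mul_assoc a, ← pow_succ',
      show 2 * m - 1 + 1 = 2 * m by omega, hN0, mul_zero, add_zero,
      (show Odd (2 * m - 1) from ⟨m - 1, by omega⟩).neg_one_pow]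
    exact Subtype.ext (LinearMap.ext fun x => by simp [scal, T])
  have hann : Nat.card {a : comm N // nC N * a = 0} = q := by
    have hk := natCard_eq_pow_finrank (K := K) (V := LinearMap.ker (N ^ 1))
    rw [finrank_ker_pow C 1, Finset.univ_unique, Finset.sum_singleton,
      min_eq_left (hpos default), pow_one, pow_one] at hk
    rw [hq, ← hk]
    refine Nat.card_congr (Equiv.ofBijective
      (fun a => ⟨((a.1 : comm N) : End K V) (top C hpos default), LinearMap.mem_ker.2
        (congrArg (fun b : comm N => (b : End K V) (top C hpos default)) a.2)⟩) ⟨?_, ?_⟩)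
    · intro a b e
      exact Subtype.ext (comm_ext C hpos fun k => by
        rw [Unique.eq_default k]; exact congrArg Subtype.val e)
    · rintro ⟨y, hy⟩
      rw [LinearMap.mem_ker] at hy
      have hy' : ∀ k, (N ^ μ k) y = 0 := fun k => by
        rw [← Nat.sub_add_cancel (show 1 ≤ μ k from hpos k), pow_succ, End.mul_apply, hy, map_zero]
      obtain ⟨a, ha'⟩ : ∃ a : comm N, ∀ k, (a : End K V) (top C hpos k) = y :=
        ⟨ofTops C (fun _ => y) hy', fun k => ofTops_top C hpos (fun _ => y) hy' k⟩
      refine ⟨⟨a, comm_ext C hpos fun k => ?_⟩, Subtype.ext (ha' default)⟩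
      rw [Subring.coe_mul, End.mul_apply, ha', Subring.coe_zero, LinearMap.zero_apply]
      exact hy
  have hskew : ∀ a, nC N * a = 0 → s a = -a := by
    intro a haN
    let f : K → {a : comm N // nC N * a = 0} := fun c => ⟨scal N c * T, by
      rw [hcomm (nC N), mul_assoc, ← pow_succ, show 2 * m - 1 + 1 = 2 * m by omega, hN0, mul_zero]⟩
    have hf : Function.Bijective f := by
      refine (Nat.bijective_iff_injective_and_card f).2 ⟨fun c c' e => ?_, hann.symm⟩
      have h := congrArg (fun b : comm N => (b : End K V) (top C hpos default)) (congrArg Subtype.val e)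
      simp only [f, Subring.coe_mul, End.mul_apply, scal_apply, T, SubmonoidClass.coe_pow] at h
      refine smul_left_injective K ?_ h
      have := C.b.ne_zero ⟨default, ⟨2 * m - 1, by omega⟩⟩
      rw [b_eq C hpos] at this
      exact this
    obtain ⟨c, hc⟩ := hf.2 ⟨a, haN⟩
    obtain rfl : scal N c * T = a := congrArg Subtype.val hc
    rw [star_scal_mul, RingHom.id_apply, hT, mul_neg]
  -- multiplication by `N - N*`
  set D := nC N - s (nC N) with hD
  have hsD : s D = -D := by rw [map_sub, hs.invol, neg_sub]
  have hD1 : D ∈ filt C 1 := sub_mem hN (hG.stable hN)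
  have hDker : ∀ a, D * a = 0 → nC N * a = 0 := by
    intro a h
    obtain ⟨u, hu⟩ := hG.isUnit_one_add (a := -(scal N (1 / 2) * (nC N * a₀)))
      (neg_mem (hG.left _ (hG.right _ hN)))
    have e : D = scal N 2 * ((u : comm N) * nC N) := by
      have e2 : scal N (2 : K) * scal N (1 / 2) = 1 := Subtype.ext (LinearMap.ext fun x => by
        simp [scal, smul_smul, h2])
      have e3 : scal N (2 : K) = 1 + 1 := Subtype.ext (LinearMap.ext fun x => by simp [scal, two_smul])
      rw [hu, hD, star_nC, eq_sub_of_add_eq ha, ← mul_assoc, mul_add, mul_neg, ← mul_assoc (scal N 2), e2,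
        one_mul, mul_one, e3]
      noncomm_ring
    have h' : (u : comm N) * (nC N * a) = 0 := by
      have h3 : scal N (1 / 2) * (D * a) = 0 := by rw [h, mul_zero]
      rw [e, ← mul_assoc, ← mul_assoc, show scal N (1 / 2) * scal N (2 : K) = 1 from
        Subtype.ext (LinearMap.ext fun x => by simp [scal, smul_smul, h2]), one_mul] at h3
      rwa [← mul_assoc]
    rwa [Units.mul_right_eq_zero] at h'
  set H0 := {e : comm N // s e = e}
  set S0 := {e : comm N // s e = -e}
  set H1 := {e : comm N // e ∈ filt C 1 ∧ s e = e}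
  set S1 := {e : comm N // e ∈ filt C 1 ∧ s e = -e}
  have e1 : Nat.card H0 = q * Nat.card H1 := by
    rw [hq, ← Nat.card_prod]
    refine Nat.card_congr
      { toFun := fun a => (p a.1, ⟨a.1 - scal N (p a.1), ((eigEquiv C hpos) a.1).2.2, by
          rw [map_sub, a.2, hsc]⟩)
        invFun := fun x => ⟨scal N x.1 + x.2.1, by rw [map_add, hsc, x.2.2.2]⟩
        left_inv := fun a => Subtype.ext (by simp)
        right_inv := fun x => ?_ }
    have h : p (scal N x.1 + x.2.1) = x.1 := by
      rw [map_add, eig_scal, (mem_filt_one C hpos _).1 x.2.2.1, add_zero]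
    refine Prod.ext h (Subtype.ext ?_)
    show scal N x.1 + x.2.1 - scal N (p (scal N x.1 + x.2.1)) = _
    rw [h, add_sub_cancel_left]
  have e2 : Nat.card S0 = Nat.card S1 := by
    refine Nat.card_congr (Equiv.subtypeEquivRight fun a => ⟨fun h => ⟨?_, h⟩, fun h => h.2⟩)
    rw [mem_filt_one C hpos]
    have := hps a
    rw [h, map_neg, neg_eq_iff_add_eq_zero, ← two_mul, mul_eq_zero] at this
    exact this.resolve_left h2
  have le1 : Nat.card H0 ≤ Nat.card S0 := by
    refine Nat.card_le_card_of_injective (fun a : H0 => (⟨D * a.1, by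
      rw [hs.mul, a.2, hsD, mul_neg, hcomm]⟩ : S0)) fun a b e => ?_
    have h0 : D * (a.1 - b.1) = 0 := by rw [mul_sub, sub_eq_zero]; exact congrArg Subtype.val e
    have h := hskew _ (hDker _ h0)
    rw [map_sub, a.2, b.2, eq_neg_iff_add_eq_zero] at h
    refine Subtype.ext (sub_eq_zero.1 ?_)
    have h' := congrArg (scal N (1 / 2) * ·) h
    simp only [mul_zero, mul_add] at h'
    have hh : scal N (1 / 2 : K) + scal N (1 / 2) = 1 :=
      Subtype.ext (LinearMap.ext fun x => by
        show (1 / 2 : K) • x + (1 / 2 : K) • x = x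
        rw [← add_smul, show (1 / 2 : K) + 1 / 2 = 1 by field_simp; norm_num, one_smul])
    rw [← h', ← add_mul, hh, one_mul]
  have le2 : Nat.card S0 ≤ q * Nat.card H1 := by
    let S : AddSubgroup (comm N) := (s + AddMonoidHom.id _).ker
    have hS : ∀ a, a ∈ S ↔ s a = -a := fun a => by
      rw [AddMonoidHom.mem_ker, eq_neg_iff_add_eq_zero]; rfl
    let f : S →+ comm N := (AddMonoidHom.mulLeft D).comp S.subtype
    have h := AddSubgroup.card_eq_card_quotient_mul_card_addSubgroup f.ker
    rw [Nat.card_congr (QuotientAddGroup.quotientKerEquivRange f).toEquiv] at h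
    rw [show Nat.card S0 = Nat.card S from Nat.card_congr (Equiv.subtypeEquivRight fun a => (hS a).symm),
      h, mul_comm q]
    refine Nat.mul_le_mul ?_ ?_
    · refine Nat.card_le_card_of_injective (fun x : f.range => (⟨x.1, ?_⟩ : H1))
        fun x y e => Subtype.ext (congrArg Subtype.val e :)
      obtain ⟨a, ha'⟩ := x.2
      rw [← ha']
      refine ⟨hG.right _ hD1, ?_⟩
      show s (D * (a : comm N)) = D * (a : comm N)
      rw [hs.mul, (hS _).1 a.2, hsD, neg_mul_neg, hcomm]
    · rw [← hann]
      exact Nat.card_le_card_of_injective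
        (fun x : f.ker => (⟨(x : S), hDker _ x.2⟩ : {a : comm N // nC N * a = 0}))
        fun x y e => Subtype.ext (Subtype.ext (congrArg Subtype.val e :))
  -- the kernel is the sum of its skew and its hermitian part
  let Tr : filt C 1 →+ comm N := AddMonoidHom.mk' (fun x => (x : comm N) + s x) fun x y => by
    rw [AddSubgroup.coe_add, map_add]; abel
  have hker : Nat.card Tr.ker = Nat.card S1 := Nat.card_congr
    { toFun := fun x => ⟨(x : filt C 1), x.1.2, eq_neg_of_add_eq_zero_right x.2⟩
      invFun := fun a => ⟨⟨a.1, a.2.1⟩, by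
        show a.1 + s a.1 = 0
        rw [a.2.2, add_neg_cancel]⟩
      left_inv := fun x => rfl
      right_inv := fun a => rfl }
  have hrange : Nat.card Tr.range = Nat.card H1 := by
    refine Nat.card_congr (Equiv.subtypeEquivRight fun e => ⟨?_, fun he => ?_⟩)
    · rintro ⟨x, rfl⟩
      refine ⟨add_mem x.2 (hG.stable x.2), ?_⟩
      show s ((x : comm N) + s x) = _
      rw [map_add, hs.invol, add_comm]
      rfl
    · obtain ⟨c, hc, hce⟩ := hG.trace le_rfl he.1 he.2
      exact ⟨⟨c, hc⟩, hce⟩
  have f1 := AddSubgroup.card_eq_card_quotient_mul_card_addSubgroup Tr.ker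
  rw [Nat.card_congr (QuotientAddGroup.quotientKerEquivRange Tr).toEquiv, hker, hrange] at f1
  have f2 := card_kernel hs hG
  set U1 := {g : comm N // g - 1 ∈ filt C 1 ∧ s g * g = 1}
  have : Nonempty H1 := ⟨⟨0, zero_mem _, map_zero _⟩⟩
  have hH : 0 < Nat.card H1 := Nat.card_pos
  have eU : Nat.card U1 = Nat.card S1 :=
    Nat.eq_of_mul_eq_mul_right hH (f2.symm.trans (f1.trans (mul_comm _ _)))
  have eF : q * Nat.card (filt C 1) = q ^ (2 * m) := by
    have h := card_comm_eq C hpos
    rw [Nat.card_congr (eigEquiv C hpos), Nat.card_prod, Finset.univ_unique, Finset.sum_singleton,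
      Finset.sum_singleton, min_self, hμ] at h
    exact h
  have eS : Nat.card S1 = q ^ m := by
    have hS : Nat.card S1 = q * Nat.card H1 := le_antisymm (e2 ▸ le2) (by rw [← e2, ← e1]; exact le1)
    refine Nat.pow_left_injective two_ne_zero (show Nat.card S1 ^ 2 = (q ^ m) ^ 2 from ?_)
    rw [← pow_mul, mul_comm m, ← eF, f1, sq]
    nth_rewrite 1 [hS]
    ring
  -- the sign
  have hsign : Nat.card {c : K // c * c = 1} = 2 := by
    classical
    have : Fintype K := Fintype.ofFinite K
    rw [Nat.card_eq_fintype_card, Fintype.card_subtype,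
      show (Finset.univ.filter fun c : K => c * c = 1) = {1, -1} by ext c; simp [mul_self_eq_one_iff],
      Finset.card_pair fun h => h2 (by linear_combination h)]
  rw [← eS, ← eU, ← hsign, ← Nat.card_prod]
  have hsq : ∀ c : K, c * c = 1 → scal N c * scal N c = 1 := fun c h =>
    Subtype.ext (LinearMap.ext fun x => by simp [scal, smul_smul, h])
  refine Nat.card_congr
    { toFun := fun g => (⟨p g.1, ?_⟩, ⟨scal N (p g.1) * g.1, ?_, ?_⟩)
      invFun := fun x => ⟨scal N x.1.1 * x.2.1, ?_⟩
      left_inv := fun g => Subtype.ext ?_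
      right_inv := fun x => ?_ }
  · have h := congrArg p g.2
    rwa [map_mul, hps, map_one] at h
  · rw [mem_filt_one C hpos, map_sub, map_mul, eig_scal, map_one, sub_eq_zero]
    have h := congrArg p g.2
    rwa [map_mul, hps, map_one] at h
  · have h := congrArg p g.2
    rw [map_mul, hps, map_one] at h
    rw [hs.mul, hsc, mul_assoc, ← mul_assoc (scal N _) (scal N _), hsq _ h, one_mul, g.2]
  · show s (scal N x.1.1 * x.2.1) * (scal N x.1.1 * x.2.1) = 1
    rw [hs.mul, hsc, mul_assoc, ← mul_assoc (scal N _) (scal N _), hsq _ x.1.2, one_mul, x.2.2.2]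
  · have h := congrArg p g.2
    rw [map_mul, hps, map_one] at h
    show scal N (p g.1) * (scal N (p g.1) * g.1) = g.1
    rw [← mul_assoc, hsq _ h, one_mul]
  · have h := (mem_filt_one C hpos _).1 x.2.2.1
    rw [map_sub, map_one, sub_eq_zero] at h
    have h' : p (scal N x.1.1 * x.2.1) = x.1.1 := by rw [map_mul, eig_scal, h, mul_one]
    refine Prod.ext (Subtype.ext h') (Subtype.ext ?_)
    show scal N (p (scal N x.1.1 * x.2.1)) * (scal N x.1.1 * x.2.1) = x.2.1
    rw [h', ← mul_assoc, hsq _ x.1.2, one_mul]

end CfsgLib.UnipForm
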