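import Cfsg.Agent.Lib.UnipForm.Counting

/-!
The adjoint on the commutant of a nilpotent map, relative to an invariant sesquilinear form, and the
forms carried by the blocks of equal chain length.
-/

set_option autoImplicit false

namespace CfsgLib.UnipForm

open Module
open CfsgLib.NilClasses (Chains)

universe u v

variable {K : Type u} [Field K] {V : Type v} [AddCommGroup V] [Module K V]

/-- A non-degenerate form, semilinear on the left, with a symmetry. -/
structure Form (σ : K →+* K) (ε : K) (B : V → V → K) : Prop where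
  add_left : ∀ x x' y, B (x + x') y = B x y + B x' y
  smul_left : ∀ (c : K) x y, B (c • x) y = σ c * B x y
  add_right : ∀ x y y', B x (y + y') = B x y + B x y'
  smul_right : ∀ (c : K) x y, B x (c • y) = c * B x y
  nd : ∀ x, (∀ y, B x y = 0) → x = 0
  swap : ∀ x y, B y x = ε * σ (B x y)
  invol : ∀ c, σ (σ c) = c
  eps : ε ≠ 0

variable {σ : K →+* K} {ε : K} {B : V → V → K}

theorem Form.zero_left (hB : Form σ ε B) (y : V) : B 0 y = 0 := by
  simpa using hB.smul_left 0 0 y

theorem Form.zero_right (hB : Form σ ε B) (x : V) : B x 0 = 0 := by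
  simpa using hB.smul_right 0 x 0

theorem Form.neg_right (hB : Form σ ε B) (x y : V) : B x (-y) = -B x y := by
  rw [← neg_one_smul K y, hB.smul_right, neg_one_mul]

theorem Form.sum_left (hB : Form σ ε B) {ι : Type*} (s : Finset ι) (f : ι → V) (y : V) :
    B (∑ i ∈ s, f i) y = ∑ i ∈ s, B (f i) y :=
  map_sum (AddMonoidHom.mk' (fun x => B x y) fun a b => hB.add_left a b y) f s

theorem Form.sum_right (hB : Form σ ε B) {ι : Type*} (s : Finset ι) (x : V) (f : ι → V) :
    B x (∑ i ∈ s, f i) = ∑ i ∈ s, B x (f i) :=
  map_sum (AddMonoidHom.mk' (fun y => B x y) fun a b => hB.add_right x a b) f s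

theorem Form.left_cancel (hB : Form σ ε B) {x x' : V} (h : ∀ y, B x y = B x' y) : x = x' := by
  refine sub_eq_zero.1 (hB.nd _ fun y => ?_)
  rw [sub_eq_add_neg, hB.add_left, ← neg_one_smul K x', hB.smul_left, h, map_neg, map_one,
    neg_one_mul, add_neg_cancel]

variable [Finite K] [FiniteDimensional K V]

theorem Form.surj (hB : Form σ ε B) (f : V →ₗ[K] K) : ∃ z, ∀ y, B z y = f y := by
  have : Finite V := Module.finite_of_finite K
  let toDual : V → Module.Dual K V := fun z => ⟨⟨fun y => B z y, hB.add_right z⟩, fun c y => hB.smul_right c z y⟩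
  have hinj : Function.Injective toDual := fun z z' h =>
    hB.left_cancel fun y => LinearMap.congr_fun h y
  have : Finite (Module.Dual K V) := Module.finite_of_finite K
  have hb := (Nat.bijective_iff_injective_and_card toDual).2 ⟨hinj, by
    rw [natCard_eq_pow_finrank (K := K), natCard_eq_pow_finrank (K := K) (V := Module.Dual K V),
      Subspace.dual_finrank_eq]⟩
  obtain ⟨z, hz⟩ := hb.2 f
  exact ⟨z, fun y => LinearMap.congr_fun hz y⟩

/-- The adjoint of an endomorphism. -/
noncomputable def Form.adj (hB : Form σ ε B) (a : End K V) : End K V :=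
  have key : ∀ x, ∃ z, ∀ y, B z y = B x (a y) := fun x => hB.surj
    ⟨⟨fun y => B x (a y), fun y y' => by rw [map_add, hB.add_right]⟩,
      fun c y => by simp [hB.smul_right]⟩
  { toFun := fun x => (key x).choose
    map_add' := fun x x' => hB.left_cancel fun y => by
      rw [(key (x + x')).choose_spec, hB.add_left, hB.add_left, (key x).choose_spec, (key x').choose_spec]
    map_smul' := fun c x => hB.left_cancel fun y => by
      rw [(key (c • x)).choose_spec, RingHom.id_apply, hB.smul_left, hB.smul_left, (key x).choose_spec] }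

theorem Form.adj_spec (hB : Form σ ε B) (a : End K V) (x y : V) : B (hB.adj a x) y = B x (a y) :=
  (hB.surj ⟨⟨fun y => B x (a y), fun y y' => by rw [map_add, hB.add_right]⟩,
    fun c y => by simp [hB.smul_right]⟩).choose_spec y

variable {N : V →ₗ[K] V}

omit [Finite K] [FiniteDimensional K V] in
/-- `N` is adjoint to `w * N`, for a central unit `w` which is `-1` on the kernel. -/
structure Compat (B : V → V → K) (N : V →ₗ[K] V) (w : comm N) : Prop where
  adj : ∀ x y, B (N x) y = B x ((w : End K V) (N y))
  central : ∀ a : comm N, a * w = w * a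
  socle : ∀ y, N y = 0 → (w : End K V) y = -y

variable {w : comm N}

omit [Finite K] [FiniteDimensional K V] in
theorem Compat.adj_pow (hw : Compat B N w) (h : ℕ) (x y : V) :
    B ((N ^ h) x) y = B x (((w ^ h : comm N) : End K V) ((N ^ h) y)) := by
  induction h generalizing x y with
  | zero => rfl
  | succ h ih =>
    calc B ((N ^ (h + 1)) x) y = B (N x) (((w ^ h : comm N) : End K V) ((N ^ h) y)) := by
          rw [pow_succ, End.mul_apply, ih]
      _ = B x ((w : End K V) (N (((w ^ h : comm N) : End K V) ((N ^ h) y)))) := hw.adj _ _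
      _ = _ := by
        rw [← comm_apply (w ^ h), ← End.mul_apply N, ← pow_succ', pow_succ' w, Subring.coe_mul,
          End.mul_apply]

theorem Form.adj_mem (hB : Form σ ε B) (hw : Compat B N w) (a : comm N) :
    hB.adj (a : End K V) ∈ comm N := by
  refine mem_comm.2 fun x => hB.left_cancel fun y => ?_
  have hc : (a : End K V) ((w : End K V) (N y)) = (w : End K V) ((a : End K V) (N y)) :=
    LinearMap.congr_fun (congrArg Subtype.val (hw.central a)) (N y)
  rw [hB.adj_spec, hw.adj, hw.adj, hB.adj_spec, hc, comm_apply a]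

/-- The adjoint on the commutant. -/
noncomputable def star' (hB : Form σ ε B) (hw : Compat B N w) : comm N →+ comm N where
  toFun a := ⟨hB.adj (a : End K V), hB.adj_mem hw a⟩
  map_zero' := Subtype.ext (LinearMap.ext fun x => hB.left_cancel fun y => by
    show B (hB.adj 0 x) y = B 0 y
    rw [hB.adj_spec, LinearMap.zero_apply, hB.zero_right, hB.zero_left])
  map_add' a b := Subtype.ext (LinearMap.ext fun x => hB.left_cancel fun y => by
    show B (hB.adj ((a : End K V) + b) x) y = B (hB.adj (a : End K V) x + hB.adj (b : End K V) x) y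
    rw [hB.adj_spec, LinearMap.add_apply, hB.add_right, hB.add_left, hB.adj_spec, hB.adj_spec])

variable (hB : Form σ ε B) (hw : Compat B N w)

theorem star_spec (a : comm N) (x y : V) :
    B ((star' hB hw a : End K V) x) y = B x ((a : End K V) y) := hB.adj_spec _ x y

theorem star_anti : Anti (star' hB hw) where
  mul a b := Subtype.ext (LinearMap.ext fun x => hB.left_cancel fun y => by
    rw [star_spec hB hw, Subring.coe_mul, Subring.coe_mul, End.mul_apply, End.mul_apply, star_spec hB hw, star_spec hB hw])
  invol a := Subtype.ext (LinearMap.ext fun x => hB.left_cancel fun y => by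
    rw [star_spec hB hw, hB.swap ((star' hB hw a : End K V) y) x, star_spec hB hw, ← hB.swap])

theorem star_unitary_iff (a : comm N) :
    star' hB hw a * a = 1 ↔ ∀ x y, B ((a : End K V) x) ((a : End K V) y) = B x y := by
  constructor
  · intro h x y
    rw [← star_spec hB hw, ← End.mul_apply, ← Subring.coe_mul, h]
    rfl
  · intro h
    refine Subtype.ext (LinearMap.ext fun x => hB.left_cancel fun y => ?_)
    rw [Subring.coe_mul, End.mul_apply, star_spec hB hw, h]
    rfl

/-- Scalars in the commutant. -/
noncomputable def scal (N : V →ₗ[K] V) (c : K) : comm N :=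
  ⟨c • 1, mem_comm.2 fun x => by simp⟩

omit [Finite K] [FiniteDimensional K V] in
theorem scal_apply (c : K) (x : V) : ((scal N c : comm N) : End K V) x = c • x := rfl

omit [Finite K] [FiniteDimensional K V] in
theorem scal_comm (c : K) (a : comm N) : scal N c * a = a * scal N c :=
  Subtype.ext (LinearMap.ext fun x => by simp [scal])

theorem star_scal (c : K) : star' hB hw (scal N c) = scal N (σ c) :=
  Subtype.ext (LinearMap.ext fun x => hB.left_cancel fun y => by
    rw [star_spec hB hw, scal_apply, scal_apply, hB.smul_right, hB.smul_left, hB.invol])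

theorem star_scal_mul (c : K) (a : comm N) :
    star' hB hw (scal N c * a) = scal N (σ c) * star' hB hw a := by
  rw [(star_anti hB hw).mul, star_scal, scal_comm]

variable {κ : Type} [Fintype κ] {μ : κ → ℕ} (C : Chains N μ) (hpos : ∀ i, 0 < μ i)

/-- The last vector of a chain. -/
noncomputable def soc (k : κ) : V := (N ^ (μ k - 1)) (top C hpos k)

omit [Finite K] [FiniteDimensional K V] [Fintype κ] in
theorem N_soc (k : κ) : N (soc C hpos k) = 0 := by
  rw [soc, ← End.mul_apply, ← pow_succ', Nat.sub_add_cancel (hpos k), pow_top_eq_zero C hpos le_rfl]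

omit [Finite K] [FiniteDimensional K V] [Fintype κ] in
include hB hw in
theorem soc_N (k : κ) {h : ℕ} (hh : 0 < h) (v : V) : B (soc C hpos k) ((N ^ h) v) = 0 := by
  rw [hB.swap ((N ^ h) v), hw.adj_pow, show h = h - 1 + 1 by omega, pow_succ N, End.mul_apply, N_soc,
    map_zero, map_zero, hB.zero_right, map_zero, mul_zero]

omit [Finite K] [FiniteDimensional K V] [Fintype κ] in
include hB hw in
theorem pow_top_orth {h : ℕ} (z : V) {l : κ} (hl : μ l ≤ h) : B ((N ^ h) z) (top C hpos l) = 0 := by
  rw [hw.adj_pow, pow_top_eq_zero C hpos hl, map_zero, hB.zero_right]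

/-- The form on the chains of length `i`. -/
noncomputable def gram (B : V → V → K) (i : Fin (bd μ)) : Matrix (Blk μ i) (Blk μ i) K :=
  Matrix.of fun p l => B (soc C hpos p.1) (top C hpos l.1)

variable [DecidableEq κ]

include hB hw in
theorem gram_det_ne_zero (i : Fin (bd μ)) : (gram C hpos B i).det ≠ 0 := by
  let G : Matrix κ κ K := Matrix.of fun k l => B (soc C hpos k) (top C hpos l)
  have htri : G.BlockTriangular μ := fun k l hkl =>
    pow_top_orth hB hw C hpos (top C hpos k) (Nat.le_sub_one_of_lt hkl)
  have hdet : G.det ≠ 0 := by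
    intro h0
    obtain ⟨c, hc0, hc⟩ := Matrix.exists_vecMul_eq_zero_iff.2 h0
    refine hc0 (funext fun k => ?_)
    have hz : ∑ k, σ (c k) • soc C hpos k = 0 := hB.nd _ fun y => by
      rw [← C.b.sum_repr y, hB.sum_right]
      refine Finset.sum_eq_zero fun q _ => ?_
      rw [hB.smul_right, hB.sum_left, b_eq C hpos q]
      refine mul_eq_zero_of_right _ ?_
      by_cases hq : 0 < (q.2 : ℕ)
      · exact Finset.sum_eq_zero fun k _ => by
          rw [hB.smul_left, soc_N hB hw C hpos k hq, mul_zero]
      · rw [Nat.eq_zero_of_not_pos hq]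
        simp only [pow_zero, End.one_apply, hB.smul_left, hB.invol]
        exact congrFun hc q.1
    have hli : LinearIndependent K fun k => soc C hpos k := by
      have : (fun k => soc C hpos k) =
          fun k => C.b ⟨k, ⟨μ k - 1, Nat.sub_one_lt (hpos k).ne'⟩⟩ :=
        funext fun k => (b_eq C hpos ⟨k, ⟨μ k - 1, Nat.sub_one_lt (hpos k).ne'⟩⟩).symm
      rw [this]
      exact C.b.linearIndependent.comp
        (fun k => (⟨k, ⟨μ k - 1, Nat.sub_one_lt (hpos k).ne'⟩⟩ : Σ i, Fin (μ i)))
        fun a b e => (Sigma.mk.inj_iff.1 e).1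
    have := congrArg σ (Fintype.linearIndependent_iff.1 hli _ hz k)
    rwa [hB.invol, map_zero] at this
  intro h0
  apply hdet
  rw [htri.det]
  by_cases hi : (i : ℕ) ∈ Finset.univ.image μ
  · refine Finset.prod_eq_zero hi ?_
    convert h0
    rfl
  · exfalso
    have : IsEmpty (Blk μ i) := ⟨fun k => hi (Finset.mem_image.2 ⟨k.1, Finset.mem_univ _, k.2⟩)⟩
    rw [Matrix.det_isEmpty] at h0
    exact one_ne_zero h0

/-- The adjoint and the projection to the blocks. -/
theorem proj_star_rel (a : comm N) (i : Fin (bd μ)) :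
    gram C hpos B i * proj C hpos a i =
      ((proj C hpos (star' hB hw a) i).map σ).transpose * gram C hpos B i := by
  ext k l
  rw [Matrix.mul_apply, Matrix.mul_apply]
  have hL : B (soc C hpos k.1) ((a : End K V) (top C hpos l.1)) =
      ∑ p : Blk μ i, gram C hpos B i k p * proj C hpos a i p l := by
    conv_lhs => rw [← C.b.sum_repr ((a : End K V) (top C hpos l.1)), hB.sum_right, Fintype.sum_sigma]
    refine Eq.trans ?_ (Finset.sum_subtype (Finset.univ.filter fun p => μ p = (i : ℕ)) (fun p => by simp)
      fun p => B (soc C hpos k.1) (top C hpos p) * coeff C hpos p ((a : End K V) (top C hpos l.1)))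
    rw [Finset.sum_filter]
    refine Finset.sum_congr rfl fun p _ => ?_
    rw [Finset.sum_eq_single ⟨0, hpos p⟩]
    · rw [hB.smul_right, mul_comm]
      show B _ (top C hpos p) * coeff C hpos p _ = _
      split_ifs with hp
      · rfl
      · rcases lt_or_gt_of_ne hp with h | h
        · rw [soc, pow_top_orth hB hw C hpos _ (by rw [k.2]; omega), zero_mul]
        · rw [coeff_of_pow C hpos (h := μ l.1) (by rw [l.2]; omega) (pow_image_top C hpos a l.1), mul_zero]
    · intro j _ hj
      rw [hB.smul_right, b_eq C hpos ⟨p, j⟩,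
        soc_N hB hw C hpos _ (Nat.pos_of_ne_zero fun e => hj (Fin.ext e)), mul_zero]
    · exact fun h => absurd (Finset.mem_univ _) h
  have hR : B ((star' hB hw a : End K V) (soc C hpos k.1)) (top C hpos l.1) =
      ∑ p : Blk μ i, σ (proj C hpos (star' hB hw a) i p k) * gram C hpos B i p l := by
    set x := ((star' hB hw a : End K V)) (top C hpos k.1) with hx
    have e : ((star' hB hw a : End K V)) (soc C hpos k.1) = (N ^ (μ k.1 - 1)) x := comm_pow _ _ _
    rw [e]
    conv_lhs => rw [← C.b.sum_repr x, map_sum, hB.sum_left, Fintype.sum_sigma]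
    refine Eq.trans ?_ (Finset.sum_subtype (Finset.univ.filter fun p => μ p = (i : ℕ)) (fun p => by simp)
      fun p => σ (coeff C hpos p x) * B (soc C hpos p) (top C hpos l.1))
    rw [Finset.sum_filter]
    refine Finset.sum_congr rfl fun p _ => ?_
    have hzero : ∀ j : Fin (μ p), (μ p ≤ μ k.1 - 1 + (j : ℕ) ∨ μ l.1 ≤ μ k.1 - 1 + (j : ℕ)) →
        B ((N ^ (μ k.1 - 1)) (C.b.repr x ⟨p, j⟩ • C.b ⟨p, j⟩)) (top C hpos l.1) = 0 := fun j h => by
      rw [map_smul, hB.smul_left, b_eq C hpos ⟨p, j⟩, ← End.mul_apply, ← pow_add]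
      rcases h with h | h
      · rw [pow_top_eq_zero C hpos h, hB.zero_left, mul_zero]
      · rw [pow_top_orth hB hw C hpos _ h, mul_zero]
    have hk := k.2
    have hl := l.2
    have := hpos k.1
    split_ifs with hp
    · rw [Finset.sum_eq_single ⟨0, hpos p⟩]
      · rw [map_smul, hB.smul_left, soc, show μ p - 1 = μ k.1 - 1 by omega]
        rfl
      · exact fun j _ hj => hzero j (Or.inr (by
          have : 0 < (j : ℕ) := Nat.pos_of_ne_zero fun e => hj (Fin.ext e)
          omega))
      · exact fun h => absurd (Finset.mem_univ _) h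
    · refine Finset.sum_eq_zero fun j _ => ?_
      rcases lt_or_gt_of_ne hp with h | h
      · exact hzero j (Or.inl (by omega))
      · by_cases hj : 0 < (j : ℕ)
        · exact hzero j (Or.inr (by omega))
        · have hj' : j = ⟨0, hpos p⟩ := Fin.ext (Nat.eq_zero_of_not_pos hj)
          subst hj'
          have hc : coeff C hpos p x = 0 :=
            coeff_of_pow C hpos (h := μ k.1) (by omega) (pow_image_top C hpos _ k.1)
          rw [coeff, Basis.coord_apply] at hc
          rw [hc, zero_smul, map_zero, hB.zero_left]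
  rw [star_spec hB hw, hL] at hR
  rw [hR]
  exact Finset.sum_congr rfl fun p _ => by rw [Matrix.transpose_apply, Matrix.map_apply]

omit [Finite K] [FiniteDimensional K V] [Fintype κ] [DecidableEq κ] in
include hw in
theorem pow_w_socle (h : ℕ) {y : V} (hy : N y = 0) :
    ((w ^ h : comm N) : End K V) y = (-1 : K) ^ h • y := by
  induction h with
  | zero => simp
  | succ h ih =>
    rw [pow_succ', Subring.coe_mul, End.mul_apply, ih, map_smul, hw.socle _ hy, pow_succ', smul_neg,
      mul_smul, neg_one_smul]

omit [Finite K] [FiniteDimensional K V] [DecidableEq κ] in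
include hB hw in
/-- The symmetry of the forms on the blocks. -/
theorem gram_swap (i : Fin (bd μ)) (k l : Blk μ i) :
    gram C hpos B i l k = ε * (-1) ^ ((i : ℕ) - 1) * σ (gram C hpos B i k l) := by
  show B (soc C hpos l.1) (top C hpos k.1) = _ * σ (B (soc C hpos k.1) (top C hpos l.1))
  have hlk : μ l.1 - 1 = (i : ℕ) - 1 := by rw [l.2]
  have hk : μ k.1 - 1 = (i : ℕ) - 1 := by rw [k.2]
  have e : soc C hpos k.1 = (N ^ ((i : ℕ) - 1)) (top C hpos k.1) := by rw [soc, hk]
  conv_lhs => rw [soc, hlk, hw.adj_pow, ← e, pow_w_socle hw _ (N_soc C hpos _), hB.smul_right,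
    hB.swap (soc C hpos k.1)]
  ring

/-- The adjoint on the blocks. -/
noncomputable def blockStar (B : V → V → K) (σ : K →+* K) : Blocks K μ →+ Blocks K μ where
  toFun M i := (gram C hpos B i)⁻¹ * ((M i).map σ).transpose * gram C hpos B i
  map_zero' := by funext i; simp
  map_add' M M' := by
    funext i
    simp [Matrix.map_add, Matrix.mul_add, Matrix.add_mul]

theorem proj_star (a : comm N) :
    proj C hpos (star' hB hw a) = blockStar C hpos B σ (proj C hpos a) := by
  funext i
  have h := proj_star_rel hB hw C hpos (star' hB hw a) i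
  rw [(star_anti hB hw).invol] at h
  show _ = (gram C hpos B i)⁻¹ * _ * gram C hpos B i
  rw [Matrix.mul_assoc, ← h, ← Matrix.mul_assoc,
    Matrix.nonsing_inv_mul _ (isUnit_iff_ne_zero.2 (gram_det_ne_zero hB hw C hpos i)), Matrix.one_mul]

include hB hw hpos in
theorem star_good {z : K} (hz : z + σ z = 1) : Good (star' hB hw) (filt C) where
  top := filt_zero C hpos
  anti := filt_anti C
  mul := filt_mul C
  zero := ⟨_, filt_top C⟩
  stable := fun {a} ha => by
    rw [← proj_eq_zero C hpos] at ha ⊢
    rw [proj_star hB hw C hpos, ha, map_zero]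
  trace := fun {e k} _ he hse => ⟨scal N z * e, by
    have h := filt_mul C (i := 0) ((filt_zero C hpos).ge (AddSubgroup.mem_top (scal N z))) he
    rwa [zero_add] at h, by
    rw [star_scal_mul, hse, ← add_mul]
    refine Eq.trans ?_ (one_mul e)
    congr 1
    exact Subtype.ext (LinearMap.ext fun x => by simp [scal, ← add_smul, hz])⟩

include hB hw in
/-- The unitary elements are counted on the kernel and on the blocks. -/
theorem card_uni_eq {z : K} (hz : z + σ z = 1) :
    Nat.card (Uni (star' hB hw)) =
      Nat.card {g : comm N // g - 1 ∈ filt C 1 ∧ star' hB hw g * g = 1} *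
        ∏ i : Fin (bd μ), Nat.card {M : Matrix (Blk μ i) (Blk μ i) K //
          (M.map σ).transpose * gram C hpos B i * M = gram C hpos B i} := by
  have : Finite V := Module.finite_of_finite K
  have : Finite (End K V) := Finite.of_injective _ DFunLike.coe_injective
  rw [card_uni (star_anti hB hw) (star_good hB hw C hpos hz) (proj C hpos) (proj_surjective C hpos)
    (proj_eq_zero C hpos) (proj_star hB hw C hpos) (fun g h => mul_eq_one_comm.1 h)]
  congr 1
  rw [← Nat.card_pi]
  refine Nat.card_congr ((Equiv.subtypeEquivRight fun g => ?_).trans Equiv.subtypePiEquivPi)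
  constructor
  · intro h i
    have := congrFun h i
    rw [Pi.mul_apply, Pi.one_apply] at this
    have h2 := congrArg (gram C hpos B i * ·) this
    simp only [blockStar, AddMonoidHom.coe_mk, ZeroHom.coe_mk] at h2
    rw [← Matrix.mul_assoc, ← Matrix.mul_assoc, ← Matrix.mul_assoc,
      Matrix.mul_nonsing_inv _ (isUnit_iff_ne_zero.2 (gram_det_ne_zero hB hw C hpos i)), Matrix.one_mul,
      Matrix.mul_one] at h2
    exact h2
  · intro h
    funext i
    simp only [Pi.mul_apply, Pi.one_apply, blockStar, AddMonoidHom.coe_mk, ZeroHom.coe_mk]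
    rw [Matrix.mul_assoc, Matrix.mul_assoc, ← Matrix.mul_assoc _ (gram C hpos B i), h i,
      Matrix.nonsing_inv_mul _ (isUnit_iff_ne_zero.2 (gram_det_ne_zero hB hw C hpos i))]

end CfsgLib.UnipForm
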