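import Cfsg.Agent.Lib.UnipForm.Forms
import Cfsg.Agent.Lib.Classical.UnitaryOrder
import Cfsg.Agent.Lib.Classical.UnitaryConj

/-!
Centralisers of unipotent elements of the general unitary groups.
-/

set_option autoImplicit false

namespace CfsgLib.UnipForm

open Module Matrix
open CfsgLib.NilClasses (Chains)

universe u v v'

/-- Chains move along an intertwining equivalence. -/
noncomputable def chainsMap {K : Type u} [Field K] {V : Type v} [AddCommGroup V] [Module K V]
    {V' : Type v'} [AddCommGroup V'] [Module K V'] {f : V →ₗ[K] V} {g : V' →ₗ[K] V'} {κ : Type}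
    {μ : κ → ℕ} (C : Chains f μ) (e : V ≃ₗ[K] V') (he : ∀ x, e (f x) = g (e x)) : Chains g μ where
  b := C.b.map e
  shift i j := by
    rw [Basis.map_apply, ← he, C.shift]
    split_ifs with h
    · rw [Basis.map_apply]
    · rw [map_zero]

/-- Chains from a similarity to a Jordan matrix. -/
theorem exists_chains_of_isConj {K : Type u} [Field K] {ι : Type} [Fintype ι] [DecidableEq ι] {t : ℕ}
    {d : Fin t → ℕ} (e : ((k : Fin t) × Fin (d k)) ≃ ι) (A : Matrix ι ι K)
    (h : IsConj (Matrix.reindex e e (Cfsg.jordanTypeMatrix d K)) A) :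
    Nonempty (Chains (Matrix.toLin' (A - 1)) d) := by
  obtain ⟨c, hc⟩ := h
  let L : (((k : Fin t) × Fin (d k)) → K) ≃ₗ[K] (ι → K) :=
    (LinearEquiv.funCongrLeft K K e.symm).trans
      ((LinearEquiv.ofLinear (Matrix.toLin' (c : Matrix ι ι K)) (Matrix.toLin' ((c⁻¹ : (Matrix ι ι K)ˣ) : Matrix ι ι K))
        (by rw [← toLin'_mul, Units.mul_inv, toLin'_one]) (by rw [← toLin'_mul, Units.inv_mul, toLin'_one])) :
          (ι → K) ≃ₗ[K] (ι → K))
  refine ⟨chainsMap (stdChains d) L fun x => ?_⟩
  show (c : Matrix ι ι K).toLin' ((LinearEquiv.funCongrLeft K K e.symm) _) =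
    (A - 1).toLin' ((c : Matrix ι ι K).toLin' _)
  have h2 : (c : Matrix ι ι K) * Matrix.reindex e e (Cfsg.jordanTypeMatrix d K - 1) = (A - 1) * (c : Matrix ι ι K) := by
    have hsub : Matrix.reindex e e (Cfsg.jordanTypeMatrix d K - 1) =
        Matrix.reindex e e (Cfsg.jordanTypeMatrix d K) - 1 := by
      ext i j; simp [Matrix.one_apply]
    rw [hsub, mul_sub, mul_one, sub_mul, one_mul, hc.eq]
  simp only [toLin'_apply, mulVec_mulVec]
  rw [← h2, ← mulVec_mulVec]
  congr 1
  funext i
  simp only [LinearEquiv.funCongrLeft_apply, LinearMap.funLeft_apply, mulVec, dotProduct,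
    Matrix.reindex_apply, Matrix.submatrix_apply]
  exact Fintype.sum_equiv e _ _ fun j => by simp

section block

variable {K : Type u} [Field K] [Fintype K] {q : ℕ} (Cj : ClassicalAut.Unitary.Conj K q)

/-- The isometries of a non-degenerate form with `ε = ±1` form a unitary group. -/
theorem card_block_gu {β : Type} [Fintype β] [DecidableEq β] (H : Matrix β β K) (hdet : H.det ≠ 0)
    (c : K) (hH : ∀ k l, H l k = c * Cj.bar (H k l)) (hc : c = 1 ∨ c = -1) :
    Nat.card {M : Matrix β β K // (M.map Cj.bar).transpose * H * M = H} =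
      Nat.card (Cfsg.GU (Fintype.card β) K q) := by
  obtain ⟨lam, hlam0, hlam⟩ : ∃ lam : K, lam ≠ 0 ∧ Cj.bar lam = c * lam := by
    rcases hc with rfl | rfl
    · exact ⟨1, one_ne_zero, by rw [map_one, one_mul]⟩
    · obtain ⟨y, hy⟩ := Cj.exists_moved
      exact ⟨y - Cj.bar y, sub_ne_zero.2 (Ne.symm hy), by rw [map_sub, Cj.bar_bar]; ring⟩
  set n := Fintype.card β
  let e := Fintype.equivFin β
  set H' : Matrix (Fin n) (Fin n) K := lam • H.submatrix e.symm e.symm with hH'
  have hherm : (H'.map Cj.bar)ᵀ = H' := by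
    ext i j
    simp only [hH', transpose_apply, map_apply, Matrix.smul_apply, submatrix_apply, smul_eq_mul, map_mul,
      hlam]
    rw [hH (e.symm j) (e.symm i)]
    ring
  have hdet' : H'.det ≠ 0 := by
    rw [hH', det_smul, det_submatrix_equiv_self]
    exact mul_ne_zero (pow_ne_zero _ hlam0) hdet
  obtain ⟨h, hh⟩ := AutPSL.exists_hermitian_factor Cj.orderOf_bar hdet' hherm
  set σ : K →+* K := Cj.bar.toRingHom
  have hσσ : ∀ x, σ (σ x) = x := Cj.bar_bar
  have hσq : ∀ x, σ x = x ^ q := Cj.bar_apply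
  set P : GL (Fin n) K := Classical.UnitaryConj.adjU σ h with hP
  have hPP : H' = Classical.UnitaryConj.adj σ (P : Matrix (Fin n) (Fin n) K) * (P : Matrix (Fin n) (Fin n) K) := by
    rw [show (P : Matrix (Fin n) (Fin n) K) = Classical.UnitaryConj.adj σ (h : Matrix (Fin n) (Fin n) K) from rfl,
      Classical.UnitaryConj.adj_adj σ hσσ]
    exact hh
  have hcond : ∀ R : Matrix (Fin n) (Fin n) K,
      ((R.submatrix e e).map Cj.bar).transpose * H * R.submatrix e e = H ↔
        Classical.UnitaryConj.adj σ ((P : Matrix (Fin n) (Fin n) K) * R * ((P⁻¹ : GL (Fin n) K) : Matrix (Fin n) (Fin n) K)) *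
          ((P : Matrix (Fin n) (Fin n) K) * R * ((P⁻¹ : GL (Fin n) K) : Matrix (Fin n) (Fin n) K)) = 1 := by
    intro R
    have h1 : ((R.submatrix e e).map Cj.bar).transpose * H * R.submatrix e e = H ↔
        Classical.UnitaryConj.adj σ R * H' * R = H' := by
      have h2 : Classical.UnitaryConj.adj σ R * H' * R =
          lam • (((R.submatrix e e).map Cj.bar).transpose * H * R.submatrix e e).submatrix e.symm e.symm := by
        rw [hH', Matrix.mul_smul, Matrix.smul_mul, ← submatrix_mul_equiv _ _ e.symm e.symm e.symm,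
          ← submatrix_mul_equiv _ _ e.symm e.symm e.symm]
        congr 2
        · congr 1
          ext i j; simp [Classical.UnitaryConj.adj, σ]
        · ext i j; simp
      rw [h2, hH']
      refine ⟨fun h => by rw [h], fun h => ?_⟩
      have h3 := smul_right_injective _ hlam0 h
      have h4 := congrArg (fun A : Matrix (Fin n) (Fin n) K => A.submatrix e e) h3
      simpa using h4
    rw [h1, hPP]
    set p : Matrix (Fin n) (Fin n) K := (P : Matrix (Fin n) (Fin n) K)
    set pi : Matrix (Fin n) (Fin n) K := ((P⁻¹ : GL (Fin n) K) : Matrix (Fin n) (Fin n) K)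
    have ha : Classical.UnitaryConj.adj σ p * Classical.UnitaryConj.adj σ pi = 1 := by
      rw [← Classical.UnitaryConj.adj_mul, Units.inv_mul, Classical.UnitaryConj.adj_one]
    have hb : Classical.UnitaryConj.adj σ pi * Classical.UnitaryConj.adj σ p = 1 := by
      rw [← Classical.UnitaryConj.adj_mul, Units.mul_inv, Classical.UnitaryConj.adj_one]
    have expand : Classical.UnitaryConj.adj σ (p * R * pi) * (p * R * pi) =
        Classical.UnitaryConj.adj σ pi * (Classical.UnitaryConj.adj σ R *
          (Classical.UnitaryConj.adj σ p * p) * R) * pi := by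
      rw [Classical.UnitaryConj.adj_mul, Classical.UnitaryConj.adj_mul]
      simp only [mul_assoc]
    rw [expand]
    constructor
    · intro h
      rw [h, ← mul_assoc, hb, one_mul, Units.mul_inv]
    · intro h
      have h4 := congrArg (fun A => Classical.UnitaryConj.adj σ p * A * p) h
      simp only [mul_one] at h4
      rw [← mul_assoc, ← mul_assoc, ha, one_mul, mul_assoc _ pi, Units.inv_mul, mul_one] at h4
      exact h4
  refine Nat.card_congr
    { toFun := fun M =>
        have hu : Classical.UnitaryConj.adj σ ((P : Matrix (Fin n) (Fin n) K) * M.1.submatrix e.symm e.symm *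
              ((P⁻¹ : GL (Fin n) K) : Matrix (Fin n) (Fin n) K)) *
            ((P : Matrix (Fin n) (Fin n) K) * M.1.submatrix e.symm e.symm *
              ((P⁻¹ : GL (Fin n) K) : Matrix (Fin n) (Fin n) K)) = 1 :=
          (hcond _).1 (by simpa using M.2)
        ⟨⟨_, _, mul_eq_one_comm.1 hu, hu⟩,
          (Classical.UnitaryConj.mem_gu_iff σ hσq hσσ _).2 (Units.ext hu)⟩
      invFun := fun g => ⟨(((P⁻¹ : GL (Fin n) K) : Matrix (Fin n) (Fin n) K) * ((g : GL (Fin n) K) : Matrix (Fin n) (Fin n) K) *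
          (P : Matrix (Fin n) (Fin n) K)).submatrix e e, (hcond _).2 ?_⟩
      left_inv := fun M => Subtype.ext ?_
      right_inv := fun g => Subtype.ext (Units.ext ?_) }
  · have := congrArg Units.val ((Classical.UnitaryConj.mem_gu_iff σ hσq hσσ _).1 g.2)
    rw [mul_assoc ((P⁻¹ : GL (Fin n) K) : Matrix (Fin n) (Fin n) K), ← mul_assoc (P : Matrix (Fin n) (Fin n) K),
      Units.mul_inv, one_mul, mul_assoc _ (P : Matrix (Fin n) (Fin n) K), Units.mul_inv, mul_one]
    exact this
  · show (((P⁻¹ : GL (Fin n) K) : Matrix (Fin n) (Fin n) K) * ((P : Matrix (Fin n) (Fin n) K) *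
      M.1.submatrix e.symm e.symm * ((P⁻¹ : GL (Fin n) K) : Matrix (Fin n) (Fin n) K)) *
      (P : Matrix (Fin n) (Fin n) K)).submatrix e e = M.1
    rw [mul_assoc (P : Matrix (Fin n) (Fin n) K), ← mul_assoc ((P⁻¹ : GL (Fin n) K) : Matrix (Fin n) (Fin n) K),
      Units.inv_mul, one_mul, mul_assoc, Units.inv_mul, mul_one]
    simp
  · show (P : Matrix (Fin n) (Fin n) K) * ((((P⁻¹ : GL (Fin n) K) : Matrix (Fin n) (Fin n) K) *
      ((g : GL (Fin n) K) : Matrix (Fin n) (Fin n) K) * (P : Matrix (Fin n) (Fin n) K)).submatrix e e).submatrix e.symm e.symm *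
      ((P⁻¹ : GL (Fin n) K) : Matrix (Fin n) (Fin n) K) = _
    rw [submatrix_submatrix, Equiv.self_comp_symm, submatrix_id_id, mul_assoc ((P⁻¹ : GL (Fin n) K) : Matrix (Fin n) (Fin n) K),
      ← mul_assoc (P : Matrix (Fin n) (Fin n) K), Units.mul_inv, one_mul, mul_assoc, Units.mul_inv, mul_one]

end block

section kernel

variable {K : Type u} [Field K] [Finite K] {σ : K →+* K} {ε : K} {V : Type v} [AddCommGroup V] [Module K V]
  [FiniteDimensional K V] {B : V → V → K} {N : V →ₗ[K] V} {w : comm N} {κ : Type} [Fintype κ]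
  [DecidableEq κ] {μ : κ → ℕ}

/-- With a non-trivial conjugation half of the kernel is hermitian. -/
theorem card_kernel_uni (hB : Form σ ε B) (hw : Compat B N w) (C : Chains N μ) (hpos : ∀ i, 0 < μ i)
    {z ζ : K} (hz : z + σ z = 1) (hζ : σ ζ = -ζ) (hζ0 : ζ ≠ 0) :
    Nat.card {g : comm N // g - 1 ∈ filt C 1 ∧ star' hB hw g * g = 1} ^ 2 = Nat.card (filt C 1) := by
  have : Finite V := Module.finite_of_finite K
  have : Finite (End K V) := Finite.of_injective _ DFunLike.coe_injective
  set s := star' hB hw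
  have hG := star_good hB hw C hpos hz
  have h1 := card_kernel (star_anti hB hw) hG
  let T : filt C 1 →+ comm N := AddMonoidHom.mk' (fun x => (x : comm N) + s x) fun x y => by
    rw [AddSubgroup.coe_add, map_add]; abel
  have hker : Nat.card T.ker = Nat.card {e : comm N // e ∈ filt C 1 ∧ s e = e} := by
    have hζi : σ ζ⁻¹ = -ζ⁻¹ := by rw [map_inv₀, hζ, inv_neg]
    have hsc : ∀ c : K, ∀ x ∈ filt C 1, scal N c * x ∈ filt C 1 := fun c x hx => hG.left _ hx
    have hneg : ∀ c : K, ∀ x : comm N, scal N (-c) * x = -(scal N c * x) := fun c x =>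
      Subtype.ext (LinearMap.ext fun v => by simp [scal])
    have hcancel : ∀ c d : K, c * d = 1 → ∀ x : comm N, scal N c * (scal N d * x) = x := fun c d h x =>
      Subtype.ext (LinearMap.ext fun v => by simp [scal, smul_smul, mul_comm d c, h])
    refine Nat.card_congr
      { toFun := fun x => ⟨scal N ζ * ((x : filt C 1) : comm N), hsc _ _ x.1.2, ?_⟩
        invFun := fun e => ⟨⟨scal N ζ⁻¹ * e.1, hsc _ _ e.2.1⟩, ?_⟩
        left_inv := fun x => Subtype.ext (Subtype.ext (hcancel _ _ (inv_mul_cancel₀ hζ0) _))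
        right_inv := fun e => Subtype.ext (hcancel _ _ (mul_inv_cancel₀ hζ0) _) }
    · have hx : s ((x : filt C 1) : comm N) = -((x : filt C 1) : comm N) :=
        eq_neg_of_add_eq_zero_right x.2
      rw [star_scal_mul, hx, hζ, hneg, mul_neg, neg_neg]
    · show scal N ζ⁻¹ * e.1 + s (scal N ζ⁻¹ * e.1) = 0
      rw [star_scal_mul, e.2.2, hζi, hneg, add_neg_cancel]
  have hrange : Nat.card T.range = Nat.card {e : comm N // e ∈ filt C 1 ∧ s e = e} := by
    refine Nat.card_congr (Equiv.subtypeEquivRight fun e => ⟨?_, fun he => ?_⟩)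
    · rintro ⟨x, rfl⟩
      refine ⟨add_mem x.2 (hG.stable x.2), ?_⟩
      show s ((x : comm N) + s x) = _
      rw [map_add, (star_anti hB hw).invol, add_comm]
      rfl
    · obtain ⟨c, hc, hce⟩ := hG.trace le_rfl he.1 he.2
      exact ⟨⟨c, hc⟩, hce⟩
  have h2 := AddSubgroup.card_eq_card_quotient_mul_card_addSubgroup T.ker
  rw [Nat.card_congr (QuotientAddGroup.quotientKerEquivRange T).toEquiv, hker, hrange, h1] at h2
  have : Nonempty {e : comm N // e ∈ filt C 1 ∧ s e = e} := ⟨⟨0, zero_mem _, map_zero _⟩⟩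
  rw [sq, h1, mul_right_cancel₀ (Nat.card_pos (α := {e : comm N // e ∈ filt C 1 ∧ s e = e})).ne' h2]

end kernel

/-- The order of the centraliser of a unipotent element of a unitary group. -/
theorem card_gu_centralizer {K : Type u} [Field K] [Fintype K] {q n t : ℕ} (hK : Fintype.card K = q ^ 2)
    (d : Fin t → ℕ) (hd : ∀ k, 0 < d k) (e : ((k : Fin t) × Fin (d k)) ≃ Fin n) (u : ↥(Cfsg.GU n K q))
    (hu : IsConj (Matrix.reindex e e (Cfsg.jordanTypeMatrix d K)) ((u : GL (Fin n) K) : Matrix (Fin n) (Fin n) K)) :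
    (Nat.card ↥(Subgroup.centralizer ({u} : Set ↥(Cfsg.GU n K q))) : ℤ) = (q : ℤ) ^ kerExp d *
      ∏ i ∈ Finset.range (bd d), ((q : ℤ) ^ (mult d i * (mult d i - 1) / 2) *
        ∏ j : Fin (mult d i), ((q : ℤ) ^ ((j : ℕ) + 1) - (-1) ^ ((j : ℕ) + 1))) := by
  obtain ⟨Cj⟩ := Classical.Herm.exists_conj_of_card hK
  obtain ⟨C⟩ := exists_chains_of_isConj e _ hu
  set σ : K →+* K := Cj.bar.toRingHom with hσ
  let B : (Fin n → K) → (Fin n → K) → K := fun x y => Cfsg.hermForm n K q y x
  have hBapp : ∀ x y, B x y = ∑ i, y i * σ (x i) := fun x y => ClassicalAut.Unitary.herm_apply Cj y x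
  have hB : Form σ 1 B :=
    { add_left := fun x x' y => by simp [hBapp, mul_add, Finset.sum_add_distrib]
      smul_left := fun c x y => by
        simp only [hBapp, Pi.smul_apply, smul_eq_mul, map_mul, Finset.mul_sum]
        exact Finset.sum_congr rfl fun i _ => by ring
      add_right := fun x y y' => by simp [hBapp, add_mul, Finset.sum_add_distrib]
      smul_right := fun c x y => by
        simp only [hBapp, Pi.smul_apply, smul_eq_mul, Finset.mul_sum]
        exact Finset.sum_congr rfl fun i _ => by ring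
      nd := fun x hx => funext fun i => by
        have := hx (Pi.single i 1)
        simp [hBapp, Pi.single_apply] at this
        exact this
      swap := fun x y => by
        rw [one_mul, hBapp, hBapp, map_sum]
        exact Finset.sum_congr rfl fun i _ => by rw [map_mul, show σ (σ (x i)) = x i from Cj.bar_bar _, mul_comm]
      invol := Cj.bar_bar
      eps := one_ne_zero }
  set U : Matrix (Fin n) (Fin n) K := ((u : GL (Fin n) K) : Matrix (Fin n) (Fin n) K) with hU
  set Ui : Matrix (Fin n) (Fin n) K := (((u : GL (Fin n) K)⁻¹ : GL (Fin n) K) : Matrix (Fin n) (Fin n) K) with hUi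
  have hUU : Ui * U = 1 := Units.inv_mul _
  have hUU' : U * Ui = 1 := Units.mul_inv _
  have hpres : ∀ x y, B (U *ᵥ x) (U *ᵥ y) = B x y := fun x y => u.2 y x
  set N := Matrix.toLin' (U - 1)
  have hNa : ∀ x, N x = U *ᵥ x - x := fun x => by
    show Matrix.toLin' (U - 1) x = _
    rw [toLin'_apply, sub_mulVec, one_mulVec]
  have hUiU : ∀ x, Ui *ᵥ (U *ᵥ x) = x := fun x => by rw [mulVec_mulVec, hUU, one_mulVec]
  let w : comm N := ⟨Matrix.toLin' (-Ui), mem_comm.2 fun x => by
    simp only [toLin'_apply, hNa, neg_mulVec, mulVec_sub, hUiU, mulVec_neg]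
    rw [mulVec_mulVec, hUU', one_mulVec]⟩
  have hwa : ∀ y, (w : End K (Fin n → K)) y = -(Ui *ᵥ y) := fun y => by
    show Matrix.toLin' (-Ui) y = _
    rw [toLin'_apply, neg_mulVec]
  have hw : Compat B N w :=
    { adj := fun x y => by
        rw [hwa, hNa, hNa, mulVec_sub, hUiU, neg_sub]
        have h1 : B (U *ᵥ x) y = B x (Ui *ᵥ y) := by
          conv_lhs => rw [show y = U *ᵥ (Ui *ᵥ y) by rw [mulVec_mulVec, hUU', one_mulVec], hpres]
        rw [sub_eq_add_neg, hB.add_left, h1, ← neg_one_smul K x, hB.smul_left, map_neg, map_one,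
          sub_eq_add_neg, hB.add_right, hB.neg_right, neg_one_mul]
      central := fun a => Subtype.ext (LinearMap.ext fun x => by
        show (a : End K (Fin n → K)) ((w : End K _) x) = (w : End K _) ((a : End K _) x)
        rw [hwa, hwa, map_neg]
        congr 1
        have h := comm_apply a (Ui *ᵥ x)
        rw [hNa, hNa, map_sub, sub_left_inj, mulVec_mulVec, hUU', one_mulVec] at h
        rw [h, hUiU])
      socle := fun y hy => by
        rw [hNa, sub_eq_zero] at hy
        rw [hwa]
        conv_lhs => rw [← hy, hUiU] }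
  have hcent : Nat.card ↥(Subgroup.centralizer ({u} : Set ↥(Cfsg.GU n K q))) =
      Nat.card (Uni (star' hB hw)) := by
    refine Nat.card_congr
      { toFun := fun g => ⟨⟨Matrix.toLin' ((g.1 : GL (Fin n) K) : Matrix (Fin n) (Fin n) K),
            mem_comm.2 fun x => ?_⟩, (star_unitary_iff hB hw _).2 fun x y => ?_⟩
        invFun := fun g =>
          have hg := (star_unitary_iff hB hw g.1).1 g.2
          have hinv : IsUnit (LinearMap.toMatrix' (g.1 : End K (Fin n → K))) := by
            refine IsUnit.of_mul_eq_one_right (LinearMap.toMatrix' (star' hB hw g.1 : End K (Fin n → K))) ?_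
            rw [← LinearMap.toMatrix'_mul, ← Subring.coe_mul, g.2, Subring.coe_one, LinearMap.toMatrix'_one]
          ⟨⟨hinv.unit, ?_⟩, ?_⟩
        left_inv := fun g => Subtype.ext (Subtype.ext (Units.ext ?_))
        right_inv := fun g => Subtype.ext (Subtype.ext ?_) }
    · have h := congrArg (fun h : ↥(Cfsg.GU n K q) => ((h : GL (Fin n) K) : Matrix (Fin n) (Fin n) K))
        (Subgroup.mem_centralizer_iff.1 g.2 u rfl)
      simp only [Subgroup.coe_mul, Units.val_mul] at h
      rw [hNa, hNa, toLin'_apply, toLin'_apply, mulVec_sub, mulVec_mulVec, mulVec_mulVec]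
      rw [h]
    · rw [toLin'_apply, toLin'_apply]; exact (g.1).2 y x
    · intro x y
      show Cfsg.hermForm n K q ((hinv.unit : Matrix (Fin n) (Fin n) K) *ᵥ x) ((hinv.unit : Matrix (Fin n) (Fin n) K) *ᵥ y) = _
      rw [IsUnit.unit_spec, ← toLin'_apply, ← toLin'_apply, toLin'_toMatrix']
      exact hg y x
    · refine Subgroup.mem_centralizer_iff.2 fun z hz => ?_
      rw [Set.mem_singleton_iff.1 hz]
      refine Subtype.ext (Units.ext ?_)
      show U * (hinv.unit : Matrix (Fin n) (Fin n) K) = (hinv.unit : Matrix (Fin n) (Fin n) K) * U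
      rw [IsUnit.unit_spec]
      refine Matrix.toLin'.injective (LinearMap.ext fun x => ?_)
      rw [toLin'_mul, toLin'_mul, LinearMap.comp_apply, LinearMap.comp_apply, toLin'_toMatrix',
        toLin'_apply, toLin'_apply]
      have h := comm_apply g.1 x
      rw [hNa, hNa, map_sub, sub_left_inj] at h
      exact h.symm
    · exact (IsUnit.unit_spec _).trans (LinearMap.toMatrix'_toLin' _)
    · show Matrix.toLin' (IsUnit.unit _ : (Matrix (Fin n) (Fin n) K)ˣ).val = _
      rw [IsUnit.unit_spec, toLin'_toMatrix']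
  obtain ⟨y, hy⟩ := Cj.exists_moved
  have hζ0 : y - σ y ≠ 0 := sub_ne_zero.2 (Ne.symm hy)
  have hζ : σ (y - σ y) = -(y - σ y) := by rw [map_sub, show σ (σ y) = y from Cj.bar_bar y, neg_sub]
  have hz : y / (y - σ y) + σ (y / (y - σ y)) = 1 := by
    rw [map_div₀, hζ, div_neg, ← sub_eq_add_neg, ← sub_div, div_self hζ0]
  have hker : Nat.card {g : comm N // g - 1 ∈ filt C 1 ∧ star' hB hw g * g = 1} = q ^ kerExp d := by
    have h := card_kernel_uni hB hw C hd hz hζ hζ0
    rw [card_filt_eq C hd, Nat.card_eq_fintype_card (α := K), hK, ← pow_mul, mul_comm 2, pow_mul] at h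
    exact Nat.pow_left_injective two_ne_zero h
  have hblocks : ∀ i : Fin (bd d), Nat.card {M : Matrix (Blk d i) (Blk d i) K //
      (M.map σ).transpose * gram C hd B i * M = gram C hd B i} =
        Nat.card (Cfsg.GU (mult d (i : ℕ)) K q) := fun i => by
    rw [← card_blk]
    exact card_block_gu Cj _ (gram_det_ne_zero hB hw C hd i) ((-1) ^ ((i : ℕ) - 1))
      (fun k l => by rw [gram_swap hB hw C hd i k l, one_mul]; rfl) (neg_one_pow_eq_or K _)
  rw [hcent, card_uni_eq hB hw C hd hz, hker, Finset.prod_congr rfl fun i _ => hblocks i,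
    Fin.prod_univ_eq_prod_range (fun i => Nat.card (Cfsg.GU (mult d i) K q)), Nat.cast_mul, Nat.cast_pow,
    Nat.cast_prod]
  refine congrArg _ (Finset.prod_congr rfl fun i _ => ?_)
  rw [Classical.Herm.card_GU Cj, Nat.cast_mul, Nat.cast_pow, Nat.cast_prod,
    Fin.prod_univ_eq_prod_range (fun j => (q : ℤ) ^ (j + 1) - (-1) ^ (j + 1))]
  refine congrArg _ (Finset.prod_congr rfl fun j _ => ?_)
  have hq := Cj.two_le
  rcases Nat.even_or_odd j with he | ho
  · rw [if_pos he, (Even.add_one he).neg_one_pow]; push_cast; ring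
  · rw [if_neg (Nat.not_even_iff_odd.2 ho), (Odd.add_one ho).neg_one_pow,
      Nat.cast_sub (Nat.one_le_pow _ _ (by omega))]
    push_cast; ring

end CfsgLib.UnipForm
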