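import Cfsg.Agent.Lib.UnipForm.Forms
import Cfsg.Agent.Lib.UnipForm.Unitary
import Cfsg.Agent.Lib.Classical.SympFitting

/-!
Unipotent isometries as nilpotent maps with a compatible twist, and the parity of the multiplicities of
their chain lengths.
-/

set_option autoImplicit false

namespace CfsgLib.UnipForm

open Module
open CfsgLib.NilClasses (Chains)
open scoped Matrix

universe u v

variable {K : Type u} [Field K] {V : Type v} [AddCommGroup V] [Module K V]

/-- The map itself in its commutant. -/
noncomputable def nC (N : V →ₗ[K] V) : comm N := ⟨N, mem_comm.2 fun _ => rfl⟩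

theorem nC_comm {N : V →ₗ[K] V} (a : comm N) : nC N * a = a * nC N :=
  Subtype.ext (LinearMap.ext fun x => (comm_apply a x).symm)

/-- Minus the inverse of an automorphism. -/
noncomputable def isoW (g : V ≃ₗ[K] V) : comm ((g : End K V) - 1) :=
  ⟨-(g.symm : End K V), mem_comm.2 fun x => by simp; abel⟩

theorem isoW_add_one (g : V ≃ₗ[K] V) : isoW g + 1 = nC ((g : End K V) - 1) * -isoW g :=
  Subtype.ext (LinearMap.ext fun x => by
    show -g.symm x + x = g (- -g.symm x) - - -g.symm x
    simp; abel)

variable {σ : K →+* K} {ε : K} {B : V → V → K}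

theorem isoW_compat (hB : Form σ ε B) (g : V ≃ₗ[K] V) (hg : ∀ x y, B (g x) (g y) = B x y) :
    Compat B ((g : End K V) - 1) (isoW g) where
  adj x y := by
    show B (g x - x) y = B x (-g.symm (g y - y))
    rw [map_sub, g.symm_apply_apply, neg_sub, sub_eq_add_neg (g x), hB.add_left, sub_eq_add_neg,
      hB.add_right, hB.neg_right]
    have h1 : B (g x) y = B x (g.symm y) := by
      conv_lhs => rw [← g.apply_symm_apply y, hg]
    rw [h1, ← neg_one_smul K x, hB.smul_left, map_neg, map_one, neg_one_mul]
  central a := Subtype.ext (LinearMap.ext fun x => by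
    show (a : End K V) (-g.symm x) = -g.symm ((a : End K V) x)
    have h : (a : End K V) (g (g.symm x) - g.symm x) =
        g ((a : End K V) (g.symm x)) - (a : End K V) (g.symm x) := comm_apply a (g.symm x)
    rw [map_sub, sub_left_inj, g.apply_symm_apply] at h
    rw [map_neg, h, g.symm_apply_apply])
  socle y hy := by
    show -g.symm y = -y
    have h : g y - y = 0 := hy
    rw [sub_eq_zero] at h
    conv_lhs => rw [← h, g.symm_apply_apply]

/-- The bilinear forms as forms. -/
theorem form_of_bilin (B : LinearMap.BilinForm K V) {ε : K} (hε : ε ≠ 0)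
    (hnd : ∀ x, (∀ y, B x y = 0) → x = 0) (hsw : ∀ x y, B y x = ε * B x y) :
    Form (RingHom.id K) ε fun x y => B x y where
  add_left := by simp
  smul_left := by simp
  add_right := by simp
  smul_right := by simp
  nd := hnd
  swap := hsw
  invol _ := rfl
  eps := hε

variable {N : V →ₗ[K] V} {w : comm N}

/-- The powers of the twist. -/
theorem exists_w_pow {a₀ : comm N} (ha : w + 1 = nC N * a₀) (h : ℕ) :
    ∃ a : comm N, w ^ h = scal N ((-1) ^ h) + nC N * a := by
  induction h with
  | zero => exact ⟨0, by rw [mul_zero, add_zero, pow_zero, pow_zero]; exact Subtype.ext (by simp [scal])⟩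
  | succ h ih =>
    obtain ⟨a, e⟩ := ih
    refine ⟨scal N ((-1) ^ h) * a₀ + a * w, ?_⟩
    have hs : scal N ((-1 : K) ^ (h + 1)) = -scal N ((-1) ^ h) :=
      Subtype.ext (by simp [scal, pow_succ])
    rw [pow_succ, e, add_mul, eq_sub_of_add_eq ha, mul_sub, mul_one, ← mul_assoc, ← nC_comm, hs,
      mul_add (nC N), mul_assoc]
    abel

variable [Finite K] [FiniteDimensional K V]

theorem star_nC (hB : Form σ ε B) (hw : Compat B N w) : star' hB hw (nC N) = w * nC N := by
  have h : star' hB hw (w * nC N) = nC N :=
    Subtype.ext (LinearMap.ext fun x => hB.left_cancel fun y => by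
      rw [star_spec hB hw]; exact (hw.adj x y).symm)
  conv_lhs => rw [← h]
  exact (star_anti hB hw).invol _

variable {κ : Type} {μ : κ → ℕ} (C : Chains N μ) (hpos : ∀ i, 0 < μ i)

/-- The forms of odd height of an alternating form vanish on the diagonal. -/
theorem soc_top_self (hB : Form σ ε B) (hw : Compat B N w) (halt : ∀ x, B x x = 0) {a₀ : comm N}
    (ha : w + 1 = nC N * a₀) (k : κ) (hodd : Odd (μ k)) : B (soc C hpos k) (top C hpos k) = 0 := by
  obtain ⟨c, hc⟩ := hodd
  obtain ⟨a, hwc⟩ := exists_w_pow ha c
  have h2 : B ((N ^ c) (top C hpos k)) (N ((a : End K V) ((N ^ c) (top C hpos k)))) = 0 := by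
    rw [comm_pow, ← End.mul_apply, ← pow_succ', hB.swap ((N ^ (c + 1)) _), hw.adj_pow, ← End.mul_apply (N ^ (c + 1)),
      ← pow_add, pow_top_eq_zero C hpos (by omega), map_zero, hB.zero_right, map_zero, mul_zero]
  rw [soc, show μ k - 1 = c + c by omega, pow_add, End.mul_apply, hw.adj_pow, hwc, Subring.coe_add,
    LinearMap.add_apply, hB.add_right, scal_apply, hB.smul_right, halt, mul_zero, zero_add]
  exact h2

/-- An additive function vanishing on the axes vanishes. -/
theorem vanish_of_additive {ι : Type} [Fintype ι] [DecidableEq ι] (q : (ι → K) → K)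
    (hadd : ∀ x y, q (x + y) = q x + q y) (h : ∀ i c, q (Pi.single i c) = 0) (x : ι → K) : q x = 0 := by
  rw [← Finset.univ_sum_single x]
  exact (map_sum (AddMonoidHom.mk' q hadd) _ _).trans (Finset.sum_eq_zero fun i _ => h i _)

/-- An alternating non-degenerate matrix has even size. -/
theorem even_card_of_alt {β : Type} [Fintype β] [DecidableEq β] (H : Matrix β β K)
    (hskew : ∀ k l, H l k = -H k l) (hdiag : ∀ k, H k k = 0) (hdet : H.det ≠ 0) :
    Even (Fintype.card β) := by
  have hs : SympCount.Symp (Matrix.toBilin' H) :=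
    { alt := by
        refine vanish_of_additive (fun x => Matrix.toBilin' H x x) (fun x y => ?_) fun i c => ?_
        · simp only [map_add, LinearMap.add_apply]
          have : Matrix.toBilin' H y x = -Matrix.toBilin' H x y := by
            simp only [Matrix.toBilin'_apply, ← Finset.sum_neg_distrib]
            rw [Finset.sum_comm]
            exact Finset.sum_congr rfl fun k _ => Finset.sum_congr rfl fun l _ => by rw [hskew]; ring
          rw [this]; ring
        · simp [Matrix.toBilin'_apply', hdiag]
      nd := fun v hv => Matrix.eq_zero_of_vecMul_eq_zero hdet (funext fun i => by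
        have := hv (Pi.single i 1)
        rwa [Matrix.toBilin'_apply', Matrix.dotProduct_mulVec, dotProduct_single_one] at this) }
  obtain ⟨k, hk⟩ := SympCount.even_finrank hs
  rw [Module.finrank_pi] at hk
  exact ⟨k, by omega⟩

variable [Fintype κ] [DecidableEq κ]

include C hpos in
/-- The multiplicity is even where the form on the block is alternating. -/
theorem even_mult {B : V → V → K} {w : comm N} (hB : Form (RingHom.id K) ε B) (hw : Compat B N w) (j : ℕ)
    (hskew : ε * (-1) ^ (j - 1) = -1)
    (hdiag : ∀ k, μ k = j → B (soc C hpos k) (top C hpos k) = 0) :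
    Even (Finset.univ.filter fun k => μ k = j).card := by
  by_cases hj : j < bd μ
  · rw [← Fintype.card_subtype]
    refine even_card_of_alt (gram C hpos B ⟨j, hj⟩) (fun k l => ?_) (fun k => hdiag k.1 k.2)
      (gram_det_ne_zero hB hw C hpos ⟨j, hj⟩)
    rw [gram_swap hB hw C hpos, hskew, RingHom.id_apply, neg_one_mul]
  · rw [Finset.filter_false_of_mem fun k _ e => hj (by have := lt_bd (μ := μ) k; omega), Finset.card_empty]
    exact Even.zero

end CfsgLib.UnipForm
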