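import Cfsg.Agent.Lib.UnipForm.Isometry

/-!
Forms invariant under unipotent Jordan matrices, with prescribed pairing of the blocks.
-/

set_option autoImplicit false

namespace CfsgLib.UnipForm

open Module Matrix
open CfsgLib.NilClasses (Chains)

universe u

/-- The invariant form of one Jordan block. -/
def gZ (n : ℕ) (c : ℤ) (i l : ℕ) : ℤ :=
  if i + l < n then (-1) ^ l * Ring.choose (c - l) (n - 1 - i - l) else 0

theorem gZ_zero {n : ℕ} (c : ℤ) {i l : ℕ} (h : n ≤ i + l) : gZ n c i l = 0 := if_neg (by omega)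

theorem gZ_anti {n : ℕ} (c : ℤ) {i l : ℕ} (h : i + l + 1 = n) : gZ n c i l = (-1) ^ l := by
  rw [gZ, if_pos (by omega), show n - 1 - i - l = 0 by omega, Ring.choose_zero_right, mul_one]

theorem gZ_rec (n : ℕ) (c : ℤ) (i l : ℕ) :
    gZ n c (i + 1) l + gZ n c i (l + 1) + gZ n c (i + 1) (l + 1) = 0 := by
  rcases lt_trichotomy (i + l + 2) n with h | h | h
  · obtain ⟨r, hr⟩ : ∃ r, n = i + l + 3 + r := ⟨n - (i + l + 3), by omega⟩
    rw [gZ, gZ, gZ, if_pos (by omega), if_pos (by omega), if_pos (by omega),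
      show n - 1 - (i + 1) - l = r + 1 by omega, show n - 1 - i - (l + 1) = r + 1 by omega,
      show n - 1 - (i + 1) - (l + 1) = r by omega,
      show c - (l : ℤ) = c - ((l + 1 : ℕ) : ℤ) + 1 by push_cast; ring, Ring.choose_succ_succ, pow_succ]
    ring
  · rw [gZ_anti c (by omega), gZ_anti c (by omega), gZ_zero c (by omega), pow_succ]
    ring
  · rw [gZ_zero c (by omega), gZ_zero c (by omega), gZ_zero c (by omega)]
    rfl

theorem gZ_swap {n : ℕ} (hn : 0 < n) (c : ℤ) (i l : ℕ) :
    gZ n c l i = (-1) ^ (n - 1) * gZ n ((n : ℤ) - 2 - c) i l := by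
  by_cases h : i + l < n
  · rw [gZ, gZ, if_pos (by omega), if_pos h, show n - 1 - l - i = n - 1 - i - l by omega]
    set r := n - 1 - i - l with hr
    have e : c - (i : ℤ) = -((i : ℤ) - c) := by ring
    rw [e, Ring.choose_neg, show (i : ℤ) - c + (r : ℤ) - 1 = (n : ℤ) - 2 - c - l by omega, Units.smul_def,
      smul_eq_mul, Int.negOnePow_def, zpow_natCast, Units.val_pow_eq_pow_val, Units.val_neg, Units.val_one,
      show n - 1 = i + r + l by omega, pow_add, pow_add]
    have : ((-1 : ℤ) ^ l) * (-1) ^ l = 1 := by rw [← mul_pow]; norm_num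
    linear_combination ((-1 : ℤ) ^ i * (-1) ^ r * Ring.choose ((n : ℤ) - 2 - c - l) r) * this.symm
  · rw [gZ_zero c (by omega), gZ_zero _ (by omega), mul_zero]

/-- An alternating form on an even block. -/
def gAlt (n : ℕ) (i l : ℕ) : ℤ := gZ n (((n / 2 : ℕ) : ℤ) - 1) i l

theorem gAlt_swap {n : ℕ} (hn : 0 < n) (he : Even n) (i l : ℕ) : gAlt n l i = -gAlt n i l := by
  obtain ⟨a, rfl⟩ := he
  rw [gAlt, gAlt, gZ_swap hn, (show Odd (a + a - 1) from ⟨a - 1, by omega⟩).neg_one_pow, neg_one_mul,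
    show ((a + a : ℕ) : ℤ) - 2 - ((((a + a) / 2 : ℕ) : ℤ) - 1) = (((a + a) / 2 : ℕ) : ℤ) - 1 by omega]

/-- A symmetric form on an odd block. -/
def gSym (n : ℕ) (i l : ℕ) : ℤ := gZ n ((n / 2 : ℕ) : ℤ) i l + gZ n (((n / 2 : ℕ) : ℤ) - 1) i l

theorem gSym_swap {n : ℕ} (ho : Odd n) (i l : ℕ) : gSym n l i = gSym n i l := by
  obtain ⟨a, rfl⟩ := ho
  rw [gSym, gSym, gZ_swap (by omega) (((2 * a + 1) / 2 : ℕ) : ℤ) i l,
    gZ_swap (by omega) ((((2 * a + 1) / 2 : ℕ) : ℤ) - 1) i l, (show Even (2 * a + 1 - 1) from ⟨a, by omega⟩).neg_one_pow,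
    one_mul, one_mul,
    show ((2 * a + 1 : ℕ) : ℤ) - 2 - (((2 * a + 1) / 2 : ℕ) : ℤ) = (((2 * a + 1) / 2 : ℕ) : ℤ) - 1 by omega,
    show ((2 * a + 1 : ℕ) : ℤ) - 2 - ((((2 * a + 1) / 2 : ℕ) : ℤ) - 1) = (((2 * a + 1) / 2 : ℕ) : ℤ) by omega]
  ring

/-- Forms on the blocks, paired by an involution. -/
structure Shape (K : Type u) [Field K] {t : ℕ} (d : Fin t → ℕ) (ε : K) where
  /-- The pairing. -/
  π : Fin t → Fin t
  π_π : ∀ k, π (π k) = k
  len : ∀ k, d (π k) = d k
  /-- The pairing of the block with its partner. -/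
  f : Fin t → ℕ → ℕ → K
  step : ∀ k i l, f k (i + 1) l + f k i (l + 1) + f k (i + 1) (l + 1) = 0
  zero : ∀ k i l, d k ≤ i + l → f k i l = 0
  anti : ∀ k i l, i + l + 1 = d k → f k i l ≠ 0
  sym : ∀ k i l, f (π k) l i = ε * f k i l

/-- A pairing of the blocks of the lengths in `bad`. -/
theorem exists_pairing {t : ℕ} (d : Fin t → ℕ) (bad : ℕ → Prop) [DecidablePred bad]
    (h : ∀ j, bad j → Even (Finset.univ.filter fun k => d k = j).card) :
    ∃ π : Fin t → Fin t, (∀ k, π (π k) = k) ∧ (∀ k, d (π k) = d k) ∧ ∀ k, π k = k ↔ ¬bad (d k) := by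
  have key : ∀ j, ∃ P : Fin t → Fin t, bad j → ∀ k, d k = j → d (P k) = j ∧ P (P k) = k ∧ P k ≠ k := by
    intro j
    by_cases hb : bad j
    · obtain ⟨a, ha⟩ := h j hb
      let e : {k // d k = j} ≃ Fin (a + a) := Fintype.equivFinOfCardEq (by rw [Fintype.card_subtype]; exact ha)
      let fl : Fin (a + a) → Fin (a + a) := fun r =>
        if hr : (r : ℕ) % 2 = 0 then ⟨r + 1, by omega⟩ else ⟨r - 1, by omega⟩
      have hfl : ∀ r, fl (fl r) = r ∧ fl r ≠ r := fun r => by
        rcases Nat.mod_two_eq_zero_or_one (r : ℕ) with hr | hr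
        · have h1 : (fl r : ℕ) = r + 1 := by simp [fl, hr]
          refine ⟨Fin.ext ?_, fun e => by rw [e] at h1; omega⟩
          show (fl (fl r) : ℕ) = r
          simp only [fl] at h1 ⊢
          rw [dif_neg (by rw [h1]; omega)]
          simp [h1]
        · have h1 : (fl r : ℕ) = r - 1 := by simp [fl, hr]
          refine ⟨Fin.ext ?_, fun e => by rw [e] at h1; omega⟩
          show (fl (fl r) : ℕ) = r
          simp only [fl] at h1 ⊢
          rw [dif_pos (by rw [h1]; omega)]
          simp only [h1]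
          omega
      refine ⟨fun k => if hk : d k = j then (e.symm (fl (e ⟨k, hk⟩))).1 else k, fun _ k hk => ?_⟩
      simp only [dif_pos hk]
      refine ⟨(e.symm _).2, ?_, fun he => ?_⟩
      · rw [dif_pos (e.symm _).2]
        simp [(hfl _).1]
      · exact (hfl (e ⟨k, hk⟩)).2 (by
          rw [← e.apply_symm_apply (fl (e ⟨k, hk⟩))]; exact congrArg e (Subtype.ext he))
    · exact ⟨id, fun hb' => absurd hb' hb⟩
  choose P hP using key
  refine ⟨fun k => if bad (d k) then P (d k) k else k, fun k => ?_, fun k => ?_, fun k => ?_⟩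
  · by_cases hb : bad (d k)
    · simp only [if_pos hb, (hP _ hb k rfl).1, (hP _ hb k rfl).2.1]
    · simp only [if_neg hb]
  · by_cases hb : bad (d k)
    · simp only [if_pos hb, (hP _ hb k rfl).1]
    · simp only [if_neg hb]
  · by_cases hb : bad (d k)
    · simp only [if_pos hb, hb, not_true, iff_false]
      exact (hP _ hb k rfl).2.2
    · simp [hb]

variable {K : Type u} [Field K] {t : ℕ} {d : Fin t → ℕ} {ε : K}

namespace Shape

variable (S : Shape K d ε)

/-- The value on two positions of the chains. -/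
def val (k : Fin t) (i : ℕ) (k' : Fin t) (l : ℕ) : K := if k' = S.π k then S.f k i l else 0

theorem val_swap (k : Fin t) (i : ℕ) (k' : Fin t) (l : ℕ) :
    S.val k' l k i = ε * S.val k i k' l := by
  rw [val, val]
  by_cases h : k' = S.π k
  · rw [if_pos h, if_pos (by rw [h, S.π_π]), h, S.sym]
  · rw [if_neg h, if_neg fun e => h (by rw [e, S.π_π]), mul_zero]

/-- The Gram matrix. -/
def mat : Matrix ((k : Fin t) × Fin (d k)) ((k : Fin t) × Fin (d k)) K :=
  Matrix.of fun p q => S.val p.1 p.2 q.1 q.2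

/-- The bilinear form. -/
noncomputable def bil : LinearMap.BilinForm K (((k : Fin t) × Fin (d k)) → K) := Matrix.toBilin' S.mat

theorem bil_single (p q : (k : Fin t) × Fin (d k)) :
    S.bil (Pi.single p 1) (Pi.single q 1) = S.val p.1 p.2 q.1 q.2 := Matrix.toBilin'_single _ _ _

theorem bil_swap (x y : ((k : Fin t) × Fin (d k)) → K) : S.bil y x = ε * S.bil x y := by
  have h : LinearMap.BilinForm.flip S.bil = ε • S.bil :=
    LinearMap.BilinForm.ext_basis (Pi.basisFun K _) fun p q => by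
      simp only [LinearMap.BilinForm.flip_apply, Pi.basisFun_apply, LinearMap.smul_apply, bil_single,
        smul_eq_mul]
      exact S.val_swap _ _ _ _
  exact LinearMap.congr_fun₂ h x y

/-- The nilpotent map of the shape. -/
noncomputable abbrev nil (_S : Shape K d ε) :
    (((k : Fin t) × Fin (d k)) → K) →ₗ[K] (((k : Fin t) × Fin (d k)) → K) :=
  Matrix.toLin' (Cfsg.jordanTypeMatrix d K - 1)

theorem nil_single (p : (k : Fin t) × Fin (d k)) :
    S.nil (Pi.single p 1) = if h : (p.2 : ℕ) + 1 < d p.1 then Pi.single ⟨p.1, ⟨p.2 + 1, h⟩⟩ 1 else 0 := by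
  have h := (stdChains (K := K) d).shift p.1 p.2
  simp only [stdChains, Pi.basisFun_apply] at h
  exact h

theorem bil_nil_left (p q : (k : Fin t) × Fin (d k)) :
    S.bil (S.nil (Pi.single p 1)) (Pi.single q 1) = S.val p.1 (p.2 + 1) q.1 q.2 := by
  rw [nil_single]
  by_cases h : (p.2 : ℕ) + 1 < d p.1
  · rw [dif_pos h, bil_single]
  · rw [dif_neg h, map_zero, LinearMap.zero_apply, val]
    split_ifs
    · rw [S.zero _ _ _ (by omega)]
    · rfl

theorem bil_nil_right (p q : (k : Fin t) × Fin (d k)) :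
    S.bil (Pi.single p 1) (S.nil (Pi.single q 1)) = S.val p.1 p.2 q.1 (q.2 + 1) := by
  rw [bil_swap, bil_nil_left, ← val_swap]

theorem bil_nil_nil (p q : (k : Fin t) × Fin (d k)) :
    S.bil (S.nil (Pi.single p 1)) (S.nil (Pi.single q 1)) = S.val p.1 (p.2 + 1) q.1 (q.2 + 1) := by
  rw [nil_single S p]
  by_cases h : (p.2 : ℕ) + 1 < d p.1
  · rw [dif_pos h, bil_nil_right]
  · rw [dif_neg h, map_zero, LinearMap.zero_apply, val]
    split_ifs
    · rw [S.zero _ _ _ (by omega)]
    · rfl

theorem jordan_apply (x : ((k : Fin t) × Fin (d k)) → K) :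
    Cfsg.jordanTypeMatrix d K *ᵥ x = x + S.nil x := by
  rw [Matrix.toLin'_apply, sub_mulVec, one_mulVec, add_sub_cancel]

/-- The Jordan matrix preserves the form. -/
theorem bil_invariant (x y : ((k : Fin t) × Fin (d k)) → K) :
    S.bil (Cfsg.jordanTypeMatrix d K *ᵥ x) (Cfsg.jordanTypeMatrix d K *ᵥ y) = S.bil x y := by
  have h : S.bil.comp (Matrix.toLin' (Cfsg.jordanTypeMatrix d K)) (Matrix.toLin' (Cfsg.jordanTypeMatrix d K)) =
      S.bil := LinearMap.BilinForm.ext_basis (Pi.basisFun K _) fun p q => by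
    rw [LinearMap.BilinForm.comp_apply, Matrix.toLin'_apply, Matrix.toLin'_apply, S.jordan_apply,
      S.jordan_apply, Pi.basisFun_apply, Pi.basisFun_apply]
    simp only [map_add, LinearMap.add_apply, bil_single, bil_nil_left, bil_nil_right, bil_nil_nil]
    simp only [val]
    split_ifs with hq
    · linear_combination S.step p.1 p.2 q.2
    · simp
  exact LinearMap.congr_fun₂ h x y

/-- The form is non-degenerate. -/
theorem bil_nd (x : ((k : Fin t) × Fin (d k)) → K) (hx : ∀ y, S.bil x y = 0) : x = 0 := by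
  suffices key : ∀ (i : ℕ) (k : Fin t) (h : i < d k), x ⟨k, ⟨i, h⟩⟩ = 0 from
    funext fun p => key p.2 p.1 p.2.2
  intro i
  induction i using Nat.strong_induction_on with
  | _ i ih =>
    intro k h
    have h0 := hx (Pi.single ⟨S.π k, ⟨d k - 1 - i, by rw [S.len]; omega⟩⟩ 1)
    rw [bil, Matrix.toBilin'_apply', mulVec_single_one, dotProduct, Fintype.sum_sigma,
      Finset.sum_eq_single k ?_ fun hk => absurd (Finset.mem_univ _) hk,
      Finset.sum_eq_single ⟨i, h⟩ ?_ fun hi => absurd (Finset.mem_univ _) hi] at h0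
    · simp only [Matrix.col_apply, mat, Matrix.of_apply, val, if_pos] at h0
      exact (mul_eq_zero.1 h0).resolve_right (S.anti k i _ (by omega))
    · rintro ⟨j, hj⟩ - hne
      have hji : j ≠ i := fun e => hne (Fin.ext e)
      simp only [Matrix.col_apply, mat, Matrix.of_apply, val, if_pos]
      rcases lt_or_gt_of_ne hji with h' | h'
      · rw [ih j h' k hj, zero_mul]
      · rw [S.zero k j _ (by omega), mul_zero]
    · intro k' _ hk'
      refine Finset.sum_eq_zero fun j _ => ?_
      simp only [Matrix.col_apply, mat, Matrix.of_apply, val]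
      rw [if_neg fun e => hk' (by rw [← S.π_π k', ← e, S.π_π]), mul_zero]

include S in
theorem jordan_mulVec_injective : Function.Injective fun x => Cfsg.jordanTypeMatrix d K *ᵥ x := by
  intro x y h
  refine sub_eq_zero.1 (S.bil_nd _ fun z => ?_)
  rw [← S.bil_invariant, mulVec_sub, sub_eq_zero.2 h, map_zero, LinearMap.zero_apply]

end Shape

/-- Shapes with alternating fixed blocks, scaled by `c`. -/
def altShape (π : Fin t → Fin t) (hππ : ∀ k, π (π k) = k) (hlen : ∀ k, d (π k) = d k)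
    (hd : ∀ k, 0 < d k) (hfix : ∀ k, π k = k → Even (d k)) (c : Fin t → K) (hc : ∀ k, c k ≠ 0) :
    Shape K d (-1) where
  π := π
  π_π := hππ
  len := hlen
  f k i l := if π k = k then c k * (gAlt (d k) i l : K) else
    if k < π k then (gZ (d k) 0 i l : K) else -(gZ (d k) 0 l i : K)
  step k i l := by
    split_ifs
    · rw [← mul_add, ← mul_add, ← Int.cast_add, ← Int.cast_add, gAlt, gAlt, gAlt, gZ_rec, Int.cast_zero, mul_zero]
    · rw [← Int.cast_add, ← Int.cast_add, gZ_rec, Int.cast_zero]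
    · rw [← neg_add, ← neg_add, ← Int.cast_add, ← Int.cast_add, add_comm (gZ _ _ l (i + 1)), gZ_rec,
        Int.cast_zero, neg_zero]
  zero k i l h := by
    split_ifs
    · rw [gAlt, gZ_zero _ h, Int.cast_zero, mul_zero]
    · rw [gZ_zero _ h, Int.cast_zero]
    · rw [gZ_zero _ (by omega), Int.cast_zero, neg_zero]
  anti k i l h := by
    split_ifs
    · rw [gAlt, gZ_anti _ h, Int.cast_pow]; simp [hc k]
    · rw [gZ_anti _ h, Int.cast_pow]; simp
    · rw [gZ_anti _ (by omega), Int.cast_pow]; simp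
  sym k i l := by
    by_cases h : π k = k
    · simp only [h, if_true]
      rw [gAlt_swap (hd k) (hfix k h), Int.cast_neg]; ring
    · rw [if_neg fun e => h (by rw [hππ] at e; exact e.symm), if_neg h, hlen, hππ]
      rcases lt_or_gt_of_ne (fun e => h e.symm) with h' | h'
      · rw [if_neg (not_lt.2 h'.le), if_pos h', neg_one_mul]
      · rw [if_pos h', if_neg (not_lt.2 h'.le), neg_one_mul, neg_neg]

/-- Shapes with symmetric fixed blocks. -/
def symShape (π : Fin t → Fin t) (hππ : ∀ k, π (π k) = k) (hlen : ∀ k, d (π k) = d k)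
    (hfix : ∀ k, π k = k → Odd (d k)) (h2 : (2 : K) ≠ 0) : Shape K d 1 where
  π := π
  π_π := hππ
  len := hlen
  f k i l := if π k = k then (gSym (d k) i l : K) else
    if k < π k then (gZ (d k) 0 i l : K) else (gZ (d k) 0 l i : K)
  step k i l := by
    split_ifs
    · rw [← Int.cast_add, ← Int.cast_add, gSym, gSym, gSym]
      convert Int.cast_zero (R := K) using 2
      linear_combination gZ_rec (d k) ((d k / 2 : ℕ) : ℤ) i l + gZ_rec (d k) (((d k / 2 : ℕ) : ℤ) - 1) i l
    · rw [← Int.cast_add, ← Int.cast_add, gZ_rec, Int.cast_zero]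
    · rw [← Int.cast_add, ← Int.cast_add, add_comm (gZ _ _ l (i + 1)), gZ_rec, Int.cast_zero]
  zero k i l h := by
    split_ifs
    · rw [gSym, gZ_zero _ h, gZ_zero _ h, add_zero, Int.cast_zero]
    · rw [gZ_zero _ h, Int.cast_zero]
    · rw [gZ_zero _ (by omega), Int.cast_zero]
  anti k i l h := by
    split_ifs
    · rw [gSym, gZ_anti _ h, gZ_anti _ h, Int.cast_add, Int.cast_pow, ← two_mul]; simp [h2]
    · rw [gZ_anti _ h, Int.cast_pow]; simp
    · rw [gZ_anti _ (by omega), Int.cast_pow]; simp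
  sym k i l := by
    by_cases h : π k = k
    · simp only [h, if_true]
      rw [gSym_swap (hfix k h), one_mul]
    · rw [if_neg fun e => h (by rw [hππ] at e; exact e.symm), if_neg h, hlen, hππ]
      rcases lt_or_gt_of_ne (fun e => h e.symm) with h' | h'
      · rw [if_neg (not_lt.2 h'.le), if_pos h', one_mul]
      · rw [if_pos h', if_neg (not_lt.2 h'.le), one_mul]

end CfsgLib.UnipForm
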