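import Cfsg.Agent.Lib.UnipForm.Exist
import Cfsg.Agent.Lib.Classical.DiscClass
import Cfsg.Agent.Lib.Classical.OrthBasic

/-!
Unipotent isometries of a prescribed type of a given quadratic form, odd characteristic.
-/

set_option autoImplicit false

namespace CfsgLib.UnipForm

open Module Matrix
open CfsgLib.NilClasses (Chains)

universe u

variable {K : Type u} [Field K]

namespace Shape

variable {t : ℕ} {d : Fin t → ℕ} {ε : K} (S : Shape K d ε)

/-- Scale the form on one fixed block. -/
def scale (k₀ : Fin t) (hk₀ : S.π k₀ = k₀) (α : K) (hα : α ≠ 0) : Shape K d ε where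
  π := S.π
  π_π := S.π_π
  len := S.len
  f k i l := if k = k₀ then α * S.f k i l else S.f k i l
  step k i l := by
    split_ifs
    · rw [← mul_add, ← mul_add, S.step, mul_zero]
    · exact S.step k i l
  zero k i l h := by
    split_ifs
    · rw [S.zero k i l h, mul_zero]
    · exact S.zero k i l h
  anti k i l h := by
    split_ifs
    · exact mul_ne_zero hα (S.anti k i l h)
    · exact S.anti k i l h
  sym k i l := by
    by_cases h : k = k₀
    · rw [if_pos h, if_pos (by rw [h, hk₀]), S.sym]; ring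
    · rw [if_neg h, if_neg fun e => h (by rw [← S.π_π k, e, hk₀]), S.sym]

theorem det_scale (k₀ : Fin t) (hk₀ : S.π k₀ = k₀) (α : K) (hα : α ≠ 0) :
    (S.scale k₀ hk₀ α hα).mat.det = α ^ d k₀ * S.mat.det := by
  have h : (S.scale k₀ hk₀ α hα).mat =
      Matrix.diagonal (fun p : (k : Fin t) × Fin (d k) => if p.1 = k₀ then α else 1) * S.mat := by
    ext p q
    rw [Matrix.diagonal_mul]
    show (if q.1 = S.π p.1 then (if p.1 = k₀ then α * S.f p.1 p.2 q.2 else S.f p.1 p.2 q.2) else 0) =
      (if p.1 = k₀ then α else 1) * if q.1 = S.π p.1 then S.f p.1 p.2 q.2 else 0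
    split_ifs <;> simp
  rw [h, det_mul, det_diagonal]
  congr 1
  rw [Fintype.prod_sigma, Finset.prod_eq_single k₀ (fun k _ hk => by simp [hk]) (by simp)]
  simp

theorem det_mat_ne_zero : S.mat.det ≠ 0 := fun h => by
  obtain ⟨v, hv0, hv⟩ := Matrix.exists_vecMul_eq_zero_iff.2 h
  refine hv0 (S.bil_nd v fun y => ?_)
  rw [bil, Matrix.toBilin'_apply', Matrix.dotProduct_mulVec, hv, zero_dotProduct]

/-- The quadratic form of the shape. -/
noncomputable def quad : QuadraticForm K (((k : Fin t) × Fin (d k)) → K) :=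
  LinearMap.BilinMap.toQuadraticMap ((1 / 2 : K) • S.bil)

theorem polar_quad (S : Shape K d 1) (h2 : (2 : K) ≠ 0) (x y : ((k : Fin t) × Fin (d k)) → K) :
    QuadraticMap.polar S.quad x y = S.bil x y := by
  rw [quad, LinearMap.BilinMap.polar_toQuadraticMap, LinearMap.smul_apply, LinearMap.smul_apply,
    LinearMap.smul_apply, LinearMap.smul_apply, S.bil_swap x y, one_mul, ← add_smul]
  rw [show (1 / 2 : K) + 1 / 2 = 1 by field_simp; norm_num, one_smul]

theorem quad_invariant (x : ((k : Fin t) × Fin (d k)) → K) :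
    S.quad (Cfsg.jordanTypeMatrix d K *ᵥ x) = S.quad x := by
  simp only [quad, LinearMap.BilinMap.toQuadraticMap_apply, LinearMap.smul_apply, S.bil_invariant]

end Shape

variable [Finite K]

theorem isSquare_mul_nonsquare {a b : K} (ha : ¬IsSquare a) (hb : ¬IsSquare b) : IsSquare (a * b) := by
  classical
  haveI := Fintype.ofFinite K
  have ha0 : a ≠ 0 := fun h => ha (h ▸ IsSquare.zero)
  have hb0 : b ≠ 0 := fun h => hb (h ▸ IsSquare.zero)
  rw [← quadraticChar_one_iff_isSquare (mul_ne_zero ha0 hb0), map_mul,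
    quadraticChar_neg_one_iff_not_isSquare.2 ha, quadraticChar_neg_one_iff_not_isSquare.2 hb]
  rfl

/-- An isometry of a given form with prescribed chain lengths, one of them odd. -/
theorem exists_isometry_type (h2 : (2 : K) ≠ 0) {ι : Type} [Fintype ι] [DecidableEq ι]
    {Q : QuadraticForm K (ι → K)} (hB : Orth.Nondeg Q) {t : ℕ} {d : Fin t → ℕ} (hd : ∀ k, 0 < d k)
    (hsum : ∑ k, d k = Fintype.card ι)
    (hev : ∀ j, Even j → Even (Finset.univ.filter fun k => d k = j).card) (hodd : ∃ k, Odd (d k)) :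
    ∃ g : Orth.Grp Q, Nonempty (Chains (Matrix.toLin' (((g : GL ι K) : Matrix ι ι K) - 1)) d) := by
  classical
  obtain ⟨π, hππ, hlen, hfix⟩ := exists_pairing d Even hev
  obtain ⟨k₀, hk₀⟩ := hodd
  have hπ₀ : π k₀ = k₀ := (hfix k₀).2 (Nat.not_even_iff_odd.2 hk₀)
  let S₀ : Shape K d 1 := symShape π hππ hlen (fun k hk => Nat.not_even_iff_odd.1 ((hfix k).1 hk)) h2
  haveI := Fintype.ofFinite K
  obtain ⟨α, hα⟩ := FiniteField.exists_nonsquare (F := K) (fun h => by
    have := ringChar.Nat.cast_ringChar (R := K)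
    rw [h] at this
    exact h2 (by exact_mod_cast this))
  have hα0 : α ≠ 0 := fun h => hα (h ▸ IsSquare.zero)
  set n := Fintype.card ι
  let e : ι ≃ Fin n := Fintype.equivFin ι
  let e' : ((k : Fin t) × Fin (d k)) ≃ Fin n := Fintype.equivFinOfCardEq (by simp [hsum, n])
  let Q₁ : QuadraticForm K (Fin n → K) := Q.comp (LinearEquiv.funCongrLeft K K e).toLinearMap
  have h₁ : (QuadraticMap.polarBilin Q₁).Nondegenerate := by
    have hsep : (QuadraticMap.polarBilin Q₁).SeparatingLeft := fun x hx => by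
      refine (LinearEquiv.funCongrLeft K K e).injective ((hB _ fun z => ?_).trans (map_zero _).symm)
      obtain ⟨y, rfl⟩ := (LinearEquiv.funCongrLeft K K e).surjective z
      rw [← hx y]
      simp [QuadraticMap.polar, Q₁]
    exact ⟨hsep, fun y hy => hsep y fun x => (QuadraticMap.polar_comm _ _ _).trans (hy x)⟩
  set D := (LinearMap.toMatrix₂' K (QuadraticMap.polarBilin Q₁)).det
  have hD : D ≠ 0 := by
    have := (LinearMap.nondegenerate_iff_det_ne_zero (Pi.basisFun K (Fin n))).1 h₁
    rwa [show LinearMap.toMatrix₂ (Pi.basisFun K (Fin n)) (Pi.basisFun K (Fin n)) (QuadraticMap.polarBilin Q₁) =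
      LinearMap.toMatrix₂' K (QuadraticMap.polarBilin Q₁) by
        ext i j; rw [LinearMap.toMatrix₂_apply, LinearMap.toMatrix₂'_apply, Pi.basisFun_apply, Pi.basisFun_apply]]
      at this
  obtain ⟨S, hS⟩ : ∃ S : Shape K d 1, IsSquare (S.mat.det * D) := by
    by_cases h : IsSquare (S₀.mat.det * D)
    · exact ⟨S₀, h⟩
    · refine ⟨S₀.scale k₀ hπ₀ α hα0, ?_⟩
      obtain ⟨r, hr⟩ := hk₀
      obtain ⟨c, hc⟩ := isSquare_mul_nonsquare hα h
      exact ⟨α ^ r * c, (by
        rw [show (S₀.scale k₀ hπ₀ α hα0).mat.det = α ^ d k₀ * S₀.mat.det from Shape.det_scale S₀ k₀ hπ₀ α hα0, hr]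
        linear_combination (α ^ r) ^ 2 * hc)⟩
  let Q₂ : QuadraticForm K (Fin n → K) := S.quad.comp (LinearEquiv.funCongrLeft K K e').toLinearMap
  have hm : LinearMap.toMatrix₂' K (QuadraticMap.polarBilin Q₂) = S.mat.submatrix e'.symm e'.symm := by
    ext i j
    rw [LinearMap.toMatrix₂'_apply, QuadraticMap.polarBilin_apply_apply, submatrix_apply]
    have hs : ∀ i, LinearEquiv.funCongrLeft K K e' (Pi.single i 1) = Pi.single (e'.symm i) 1 := fun i => by
      funext p
      simp [LinearEquiv.funCongrLeft_apply, LinearMap.funLeft_apply, Pi.single_apply, e'.eq_symm_apply]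
    show QuadraticMap.polar (S.quad.comp _) _ _ = _
    simp only [QuadraticMap.polar, QuadraticMap.comp_apply, LinearEquiv.coe_coe, map_add, hs]
    exact (S.polar_quad h2 _ _).trans (S.bil_single _ _)
  have h₂ : (QuadraticMap.polarBilin Q₂).Nondegenerate := by
    rw [LinearMap.nondegenerate_iff_det_ne_zero (Pi.basisFun K (Fin n)),
      show LinearMap.toMatrix₂ (Pi.basisFun K (Fin n)) (Pi.basisFun K (Fin n)) (QuadraticMap.polarBilin Q₂) =
        LinearMap.toMatrix₂' K (QuadraticMap.polarBilin Q₂) by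
          ext i j; rw [LinearMap.toMatrix₂_apply, LinearMap.toMatrix₂'_apply, Pi.basisFun_apply, Pi.basisFun_apply],
      hm, det_submatrix_equiv_self]
    exact S.det_mat_ne_zero
  obtain ⟨T, hT⟩ := (Classical.DiscClass.exists_isometry_iff h2 Q₂ Q₁ h₂ h₁).2
    (by rw [hm, det_submatrix_equiv_self]; exact hS)
  let L : (((k : Fin t) × Fin (d k)) → K) ≃ₗ[K] (ι → K) :=
    (LinearEquiv.funCongrLeft K K e').symm.trans (T.trans (LinearEquiv.funCongrLeft K K e))
  have hL : ∀ v, Q (L v) = S.quad v := fun v => by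
    have := hT ((LinearEquiv.funCongrLeft K K e').symm v)
    simp only [Q₁, Q₂, QuadraticMap.comp_apply, LinearEquiv.coe_coe, LinearEquiv.apply_symm_apply] at this
    exact this
  let f : (ι → K) →ₗ[K] (ι → K) :=
    L.toLinearMap ∘ₗ Matrix.toLin' (Cfsg.jordanTypeMatrix d K) ∘ₗ L.symm.toLinearMap
  obtain ⟨g, hg⟩ := Orth.exists_iso hB f fun x => by
    show Q (L _) = _
    rw [hL, LinearMap.comp_apply, toLin'_apply, S.quad_invariant, ← hL, LinearEquiv.coe_coe, L.apply_symm_apply]
  refine ⟨g, ⟨chainsMap (stdChains d) L fun v => ?_⟩⟩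
  rw [map_sub (Matrix.toLin') ((g : GL ι K) : Matrix ι ι K), toLin'_one, LinearMap.sub_apply, LinearMap.id_apply,
    toLin'_apply]
  show L (S.nil v) = Orth.ap g (L v) - L v
  rw [hg]
  simp only [f, LinearMap.comp_apply, LinearEquiv.coe_coe, L.symm_apply_apply, toLin'_apply, S.jordan_apply,
    map_add, add_sub_cancel_left]

end CfsgLib.UnipForm
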